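import Cfsg.Agent.Lib.Recognition.FiTwentyThree.Coords

/-!
# The configuration when the centralisers of the products `z * w` split
-/

set_option autoImplicit false
set_option linter.unusedSectionVars false

universe u

namespace CfsgLib.Recognition.FiTwentyThree

open CfsgLib.Recognition.USixCentral (SplitAt mem_cent_of odd_order_of_mem)

variable {G : Type u} [Group G] [Finite G] {F : Type*} [Field F] [Fintype F]

/-- A split centraliser of `x` commuting with `z` moves `z` by elements of odd order. -/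
theorem odd_of_splitAt {z x : G} (hz : z * z = 1) (hzx : z * x = x * z)
    (hs : SplitAt z (Subgroup.centralizer ({x} : Set G))) {g : G} (hg : g * x = x * g) :
    Odd (orderOf (g * z * g⁻¹ * z)) := by
  obtain ⟨O, -, hodd, hn, hdec⟩ := hs
  obtain ⟨c, hc, o, ho, rfl⟩ := hdec g (mem_cent_of hg)
  have hzi : z⁻¹ = z := inv_eq_of_mul_eq_one_right hz
  have hm : o * (z * o⁻¹ * z⁻¹) ∈ O := mul_mem ho (hn z (mem_cent_of hzx) _ (inv_mem ho))
  have e : c * o * z * (c * o)⁻¹ * z = c * (o * (z * o⁻¹ * z⁻¹)) * c⁻¹ := by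
    rw [hzi]
    have hc' : c⁻¹ * z = z * c⁻¹ := by rw [inv_mul_eq_iff_eq_mul, ← mul_assoc, hc, mul_inv_cancel_right]
    rw [show c * o * z * (c * o)⁻¹ * z = c * o * z * o⁻¹ * (c⁻¹ * z) by group, hc']
    group
  rw [e]
  have h2 := orderOf_injective (MulAut.conj c).toMonoidHom (MulAut.conj c).injective (o * (z * o⁻¹ * z⁻¹))
  change orderOf (c * (o * (z * o⁻¹ * z⁻¹)) * c⁻¹) = _ at h2
  rw [h2]
  exact odd_order_of_mem hodd hm

namespace Layer

variable {z c : G} {J W : Subgroup G} {φ : ↥(Subgroup.centralizer ({z} : Set G)) →* MulAut (Cfsg.PSp 2 F)}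
  (h : Layer z c J W φ)
include h

/-- The configuration, given that the centralisers of the products `z * w` split. -/
theorem base (hF : Fintype.card F = 3)
    (hsplit : ∀ w ∈ W, w ≠ 1 → SplitAt z (Subgroup.centralizer ({z * w} : Set G))) : Base z J W :=
  let d := h.coreData' hF
  { ord_z := d.ord_z, z_mem := d.z_mem, W_le := d.W_le, card_W := d.card_W, sq_W := d.sq_W, z_not := d.z_not
    z_cent := d.z_cent, centre := d.centre, two := d.two, norm_J := d.norm_J, norm_W := d.norm_W, cyc := d.cyc
    quot := d.quot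
    z_conj := fun _ hw hw1 g =>
      ⟨h.not_conj hF hw hw1 (Or.inl rfl) g, h.not_conj hF hw hw1 (Or.inr rfl) g⟩
    twist := fun w hw hw1 _ hg => odd_of_splitAt h.zz
      (by rw [mul_assoc, h.W_z hw]) (hsplit w hw hw1) hg }

end Layer

end CfsgLib.Recognition.FiTwentyThree
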