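import Cfsg.Agent.Lib.Recognition.FiTwentyThree.TwinFusion

/-!
# The four-group is normal

`z`, the involutions of `W` and their products with `z` each fix a single coset of the normaliser of `W`; a largest
2-subgroup fixing two cosets then shows that `z` is conjugate to an involution of `W` modulo that subgroup.
-/

set_option autoImplicit false
set_option linter.unusedSectionVars false

universe u

namespace CfsgLib.Recognition.FiTwentyThree

open CfsgLib.Recognition.USixTwo CfsgLib.Recognition.USixCentral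

variable {G : Type u} [Group G] [Finite G]

theorem isPGroup_zpowers_of_sq {x : G} (hx : x * x = 1) : IsPGroup 2 (Subgroup.zpowers x) := by
  intro ⟨y, hy⟩
  obtain ⟨n, rfl⟩ := Subgroup.mem_zpowers_iff.1 hy
  refine ⟨1, Subtype.ext ?_⟩
  show (x ^ n) ^ (2 ^ 1) = 1
  rw [pow_one, pow_two, ← (Commute.refl x).mul_zpow n, hx, one_zpow]

namespace Base

variable {z : G} {J W : Subgroup G} (h : Base z J W)
include h

/-- No conjugate of an involution of `W` lies in `J` outside `W`. -/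
theorem no_J {g w : G} (hw : w ∈ W) (hw1 : w ≠ 1) (hb : g * w * g⁻¹ ∈ J) : g * w * g⁻¹ ∈ W := by
  by_contra hbW
  set b := g * w * g⁻¹ with hbdef
  set R := J ⊓ Subgroup.centralizer ({b} : Set G) with hR
  obtain ⟨c, hcw, hc⟩ := h.into hw hw1 (R := R.map (MulAut.conj g⁻¹).toMonoidHom) (by
    rintro _ ⟨r, hr, rfl⟩
    show g⁻¹ * r * g⁻¹⁻¹ * w = w * (g⁻¹ * r * g⁻¹⁻¹)
    have := Subgroup.mem_centralizer_singleton_iff.1 hr.2
    calc g⁻¹ * r * g⁻¹⁻¹ * w = g⁻¹ * (r * b) * g := by rw [hbdef]; group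
      _ = _ := by rw [this, hbdef]; group) ((h.two.to_le inf_le_left).map _)
  set g' := g * c⁻¹ with hg'
  have eb : g' * w * g'⁻¹ = b := by
    rw [hg', hbdef, show g * c⁻¹ * w * (g * c⁻¹)⁻¹ = g * (c⁻¹ * (w * c)) * g⁻¹ by group, ← hcw, inv_mul_cancel_left]
  set y := g' * z * g'⁻¹ with hy
  have hRy : ∀ j ∈ J, j * b = b * j → j * y = y * j := by
    intro j hj hjb
    have h1 := hc _ ⟨j, ⟨hj, Subgroup.mem_centralizer_singleton_iff.2 hjb⟩, rfl⟩
    change c * (g⁻¹ * j * g⁻¹⁻¹) * c⁻¹ * z = z * (c * (g⁻¹ * j * g⁻¹⁻¹) * c⁻¹) at h1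
    calc j * y = g' * (c * (g⁻¹ * j * g⁻¹⁻¹) * c⁻¹ * z) * g'⁻¹ := by rw [hy, hg']; group
      _ = _ := by rw [h1, hy, hg']; group
  have hyz : y * z = z * y := (hRy z h.z_mem (h.z_cent b hb).symm).symm
  have hy2 : y * y = 1 := by
    rw [hy, show g' * z * g'⁻¹ * (g' * z * g'⁻¹) = g' * (z * z) * g'⁻¹ by group, h.zz]; group
  have hyJ : y ∈ J := by
    by_contra hyJ
    exact h.hyper hyz hy2 hyJ hb hRy
  have hcentral : y ∈ W ∨ z * y ∈ W := by
    obtain ⟨w₀, hw₀, hw₀1, -⟩ := h.exists_other (1 : G)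
    obtain ⟨a, ha, ha1, hne⟩ := h.exists_other w₀
    obtain ⟨Q, _, _, q, zb, ab, π, ψ, t⟩ := h.exists_at hw₀ hw₀1 ha ha1 hne
    rcases t.setting.eq_of_cent ((t.mem_Jb (x := ⟨b, t.J_cent hb⟩)).2 hb)
        ((t.mem_Jb (x := ⟨y, t.J_cent hyJ⟩)).2 hyJ) (by
      rintro _ ⟨⟨l, hlm⟩, hl, rfl⟩ hlb
      change l ∈ J at hl
      rw [← map_mul, ← map_mul, t.onto.eq_iff] at hlb
      simp only [Subgroup.coe_mul] at hlb
      rw [← map_mul, ← map_mul]
      refine congrArg q (Subtype.ext (hRy l hl ?_))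
      rcases hlb with e | e
      · exact e.symm
      rcases h.comm_J hb hl with e' | e'
      · exact e'.symm
      · exfalso
        rw [e, ← h.W_cent hw₀ (mul_mem hl hb)] at e'
        exact h.z_not ((mul_right_cancel e' : w₀ = z) ▸ hw₀)) with e | e
    · exact t.centre_of hyJ e
    have hπ : π (q ⟨y * b, t.J_cent (mul_mem hyJ hb)⟩) = 0 := by
      rw [show (⟨y * b, t.J_cent (mul_mem hyJ hb)⟩ : ↥(Subgroup.centralizer ({w₀} : Set G))) =
        ⟨y, t.J_cent hyJ⟩ * ⟨b, t.J_cent hb⟩ from rfl, map_mul,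
        t.setting.π_mul _ ((t.mem_Jb (x := ⟨y, t.J_cent hyJ⟩)).2 hyJ) _ ((t.mem_Jb (x := ⟨b, t.J_cent hb⟩)).2 hb),
        e, add_self_V4]
    have hx := (h.centre _ (mul_mem hyJ hb)).2 (t.centre_of (mul_mem hyJ hb) hπ)
    refine (h.centre y hyJ).1 fun k hk => ?_
    have hk' : g'⁻¹ * k * g' * (z * w) = z * w * (g'⁻¹ * k * g') := by
      have e2 : y * b = g' * (z * w) * g'⁻¹ := by rw [hy, ← eb]; group
      calc g'⁻¹ * k * g' * (z * w) = g'⁻¹ * (k * (y * b)) * g' := by rw [e2]; group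
        _ = _ := by rw [← hx k hk, e2]; group
    have hodd := h.twist_conj (g := g') (c := k) hw hw1 (by
      calc k * (g' * (z * w) * g'⁻¹) = g' * (g'⁻¹ * k * g' * (z * w)) * g'⁻¹ := by group
        _ = _ := by rw [hk']; group)
    rw [← hy] at hodd
    have e3 := h.eq_one_odd (mul_mem (mul_mem (mul_mem hk hyJ) (inv_mem hk)) hyJ) hodd
    have e4 : k * y * k⁻¹ = y := by rw [eq_inv_of_mul_eq_one_left e3, inv_eq_of_mul_eq_one_right hy2]
    exact (mul_inv_eq_iff_eq_mul.1 e4).symm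
  have e := h.z_of_centre hcentral
  refine hbW ?_
  rw [← eb]
  exact h.norm_W g' (mul_inv_eq_iff_eq_mul.1 e) w hw

/-- A conjugate of `z` commuting with it comes with an involution of `W` moved within `W`. -/
theorem of_commute0 {g : G} (hg : g * z * g⁻¹ * z = z * (g * z * g⁻¹)) :
    ∃ w ∈ W, w ≠ 1 ∧ g * w * g⁻¹ ∈ W := by
  set y := g * z * g⁻¹ with hy
  set R := J ⊓ Subgroup.centralizer ({y} : Set G) with hR
  have hRz : ∀ r ∈ R, g⁻¹ * r * g * z = z * (g⁻¹ * r * g) := by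
    intro r hr
    have := Subgroup.mem_centralizer_singleton_iff.1 hr.2
    calc g⁻¹ * r * g * z = g⁻¹ * (r * y) * g := by rw [hy]; group
      _ = _ := by rw [this, hy]; group
  obtain ⟨w, hw, hw1, hfix⟩ := h.exists_fixed (P := R.map (MulAut.conj g⁻¹).toMonoidHom)
    ((h.two.to_le inf_le_left).map _) (by
      rintro _ ⟨r, hr, rfl⟩ x hx
      refine h.norm_W _ ?_ x hx
      show g⁻¹ * r * g⁻¹⁻¹ * z = z * (g⁻¹ * r * g⁻¹⁻¹)
      rw [inv_inv]; exact hRz r hr)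
  set b := g * w * g⁻¹ with hb
  have hRb : ∀ r ∈ R, r * b = b * r := by
    intro r hr
    have := hfix _ ⟨r, hr, rfl⟩
    change g⁻¹ * r * g⁻¹⁻¹ * w = w * (g⁻¹ * r * g⁻¹⁻¹) at this
    calc r * b = g * (g⁻¹ * r * g⁻¹⁻¹ * w) * g⁻¹ := by rw [hb]; group
      _ = _ := by rw [this, hb]; group
  set x := y * b with hx
  have hxe : x = g * (z * w) * g⁻¹ := by rw [hx, hy, hb]; group
  have hcx : ∀ c, c * x = x * c → Odd (orderOf (c * y * c⁻¹ * y)) := fun c hc =>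
    h.twist_conj hw hw1 (hxe ▸ hc)
  have hyx : ∀ j ∈ J, j * y = y * j → j * x = x * j := by
    intro j hj hjy
    have := hRb j ⟨hj, Subgroup.mem_centralizer_singleton_iff.2 hjy⟩
    rw [hx, ← mul_assoc, hjy, mul_assoc, this, ← mul_assoc]
  have hzy : z * y = y * z := hg.symm
  have hxz : x * z = z * x := (hyx z h.z_mem hzy).symm
  have hy2 : y * y = 1 := by
    rw [hy, show g * z * g⁻¹ * (g * z * g⁻¹) = g * (z * z) * g⁻¹ by group, h.zz]; group
  have hyb : y * b = b * y := by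
    rw [hy, hb, show g * z * g⁻¹ * (g * w * g⁻¹) = g * (z * w) * g⁻¹ by group, ← h.W_z hw]; group
  have hxy : x * y = y * x := by rw [hx, mul_assoc, ← hyb]
  have exy : x * y = b := by rw [hx, hyb, mul_assoc, hy2, mul_one]
  have hx2 : x * x = 1 := by
    rw [hxe, show g * (z * w) * g⁻¹ * (g * (z * w) * g⁻¹) = g * (z * (w * z) * w) * g⁻¹ by group, h.W_z hw,
      ← mul_assoc z z, h.zz, one_mul, h.sq_W w hw]
    group
  have hcxJ : ∀ j ∈ J, j * x = x * j → j * y = y * j := by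
    intro j hj hjx
    have hm : j * y * j⁻¹ * y ∈ J := by
      have h1 := h.norm_J y hg _ (inv_mem hj)
      rw [inv_eq_of_mul_eq_one_right hy2] at h1
      rw [show j * y * j⁻¹ * y = j * (y * j⁻¹ * y) by group]
      exact mul_mem hj h1
    have e3 := h.eq_one_odd hm (hcx j hjx)
    exact mul_inv_eq_iff_eq_mul.1 (by rw [eq_inv_of_mul_eq_one_left e3, inv_eq_of_mul_eq_one_right hy2])
  suffices hbJ : b ∈ J from ⟨w, hw, hw1, h.no_J hw hw1 hbJ⟩
  rw [← exy]
  by_cases hyJ : y ∈ J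
  · by_cases hxJ : x ∈ J
    · exact mul_mem hxJ hyJ
    · exact (h.hyper hxz hx2 hxJ hyJ hyx).elim
  · by_cases hxJ : x ∈ J
    · exact (h.hyper hg hy2 hyJ hxJ hcxJ).elim
    · exact h.pair hxz hg hx2 hy2 hxJ hyJ hxy (fun j hj => ⟨hcxJ j hj, hyx j hj⟩) hcx

end Base

namespace Frame

variable {z : G} {J W : Subgroup G} (h : Frame z J W)
include h

theorem mem_M {g : G} (hg : ∀ x ∈ W, g * x * g⁻¹ ∈ W) : g ∈ Subgroup.normalizer (W : Set G) := by
  refine Subgroup.mem_normalizer_iff.2 fun x => ⟨fun hx => hg x hx, fun hx => ?_⟩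
  have e : W.map (MulAut.conj g).toMonoidHom = W := Subgroup.eq_of_le_of_card_ge
    (by rintro _ ⟨p, hp, rfl⟩; exact hg p hp)
    (by rw [Subgroup.card_map_of_injective (MulAut.conj g).injective])
  obtain ⟨p, hp, e'⟩ := e.ge hx
  exact (mul_left_cancel (mul_right_cancel e') : p = x) ▸ hp

theorem cent_le_M {c : G} (hc : c * z = z * c) : c ∈ Subgroup.normalizer (W : Set G) := h.mem_M (h.norm_W c hc)

theorem cent_w_le_M {w c : G} (hw : w ∈ W) (hw1 : w ≠ 1) (hc : c * w = w * c) :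
    c ∈ Subgroup.normalizer (W : Set G) := h.mem_M (h.local_le w hw hw1 c hc)

/-- A conjugate of `z` commuting with it comes from the normaliser of `W`. -/
theorem of_commute {g : G} (hg : g * z * g⁻¹ * z = z * (g * z * g⁻¹)) : g ∈ Subgroup.normalizer (W : Set G) := by
  obtain ⟨w, hw, hw1, hW⟩ := h.of_commute0 hg
  exact h.mem_M (h.normal_of_conj hw hw1 hW rfl)

/-- The marked involutions. -/
def Marked (z : G) (W : Subgroup G) (e : G) : Prop := e = z ∨ ∃ w ∈ W, w ≠ 1 ∧ (e = w ∨ e = z * w)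

/-- A marked involution fixes only the base coset. -/
theorem iso {g e : G} (he : Marked z W e) (hg : g * e * g⁻¹ ∈ Subgroup.normalizer (W : Set G)) :
    g ∈ Subgroup.normalizer (W : Set G) := by
  set t := g * e * g⁻¹ with ht
  have ee : e * e = 1 := by
    rcases he with rfl | ⟨w, hw, -, rfl | rfl⟩
    · exact h.zz
    · exact h.sq_W _ hw
    · rw [mul_assoc, ← mul_assoc w, h.W_z hw, mul_assoc z w w, h.sq_W w hw, mul_one, h.zz]
  have t2 : IsPGroup 2 (Subgroup.zpowers t) := isPGroup_zpowers_of_sq (by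
    rw [ht, show g * e * g⁻¹ * (g * e * g⁻¹) = g * (e * e) * g⁻¹ by group, ee]; group)
  obtain ⟨w', hw', hw1', hc⟩ := h.exists_fixed t2 fun p hp x hx =>
    (Subgroup.mem_normalizer_iff.1 (Subgroup.zpowers_le.2 hg hp) x).1 hx
  obtain ⟨c, hcw, hcz⟩ := h.into hw' hw1' hc t2
  have hcM := h.cent_w_le_M hw' hw1' hcw
  suffices hg' : c * g ∈ Subgroup.normalizer (W : Set G) by
    have := mul_mem (inv_mem hcM) hg'
    rwa [inv_mul_cancel_left] at this
  have h1 := hcz t (Subgroup.mem_zpowers t)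
  rw [show c * t * c⁻¹ = c * g * e * (c * g)⁻¹ by rw [ht]; group] at h1
  set k := c * g with hk
  have h2 : k⁻¹ * z * k * e = e * (k⁻¹ * z * k) := by
    calc k⁻¹ * z * k * e = k⁻¹ * (z * (k * e * k⁻¹)) * k := by group
      _ = _ := by rw [← h1]; group
  rcases he with rfl | ⟨w, hw, hw1, rfl | rfl⟩
  · exact h.of_commute h1
  · have hwk : ∀ r ∈ Subgroup.zpowers (k⁻¹ * z * k), r * e = e * r := fun r hr =>
      Subgroup.mem_centralizer_singleton_iff.1
        (Subgroup.zpowers_le.2 (Subgroup.mem_centralizer_singleton_iff.2 h2) hr)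
    obtain ⟨d, hd, hdz⟩ := h.into hw hw1 hwk (isPGroup_zpowers_of_sq (by
      rw [show k⁻¹ * z * k * (k⁻¹ * z * k) = k⁻¹ * (z * z) * k by group, h.zz]; group))
    have h3 := hdz _ (Subgroup.mem_zpowers _)
    rw [show d * (k⁻¹ * z * k) * d⁻¹ = d * k⁻¹ * z * (d * k⁻¹)⁻¹ by group] at h3
    have := mul_mem (inv_mem (h.cent_w_le_M hw hw1 hd)) (h.of_commute h3)
    rw [inv_mul_cancel_left] at this
    exact inv_inv k ▸ inv_mem this
  · have h3 := (h.split' hw hw1 h2).1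
    refine inv_inv k ▸ inv_mem (h.of_commute (g := k⁻¹) ?_)
    rw [inv_inv]; exact h3

/-- Inside the normaliser, a 2-group is centralised by conjugates of `z` and of an involution of `W`. -/
theorem marked_cent {Q : Subgroup G} (hQ : Q ≤ Subgroup.normalizer (W : Set G)) (h2 : IsPGroup 2 Q) :
    ∃ m ∈ Subgroup.normalizer (W : Set G), ∃ w ∈ W, w ≠ 1 ∧ m * w * m⁻¹ = w ∧
      ∀ q ∈ Q, q * (m * z * m⁻¹) = m * z * m⁻¹ * q ∧ q * w = w * q := by
  obtain ⟨w, hw, hw1, hc⟩ := h.exists_fixed h2 fun p hp x hx => (Subgroup.mem_normalizer_iff.1 (hQ hp) x).1 hx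
  obtain ⟨c, hcw, hcz⟩ := h.into hw hw1 hc h2
  refine ⟨c⁻¹, inv_mem (h.cent_w_le_M hw hw1 hcw), w, hw, hw1, ?_, fun q hq => ⟨?_, hc q hq⟩⟩
  · rw [inv_inv, mul_assoc, ← hcw, inv_mul_cancel_left]
  · calc q * (c⁻¹ * z * c⁻¹⁻¹) = c⁻¹ * (c * q * c⁻¹ * z) * c := by group
      _ = _ := by rw [hcz q hq]; group

/-- `W` is normal. -/
theorem normalizer_eq_top : Subgroup.normalizer (W : Set G) = ⊤ := by
  classical
  by_contra hM
  set M := Subgroup.normalizer (W : Set G) with hMdef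
  set S := {Q : Subgroup G | IsPGroup 2 Q ∧ Q ≤ M ∧ ∃ g ∉ M, ∀ q ∈ Q, g⁻¹ * q * g ∈ M} with hS
  have hne : S.Nonempty := by
    obtain ⟨g, -, hg⟩ := SetLike.exists_of_lt (lt_top_iff_ne_top.2 hM)
    exact ⟨⊥, IsPGroup.of_bot, bot_le, g, hg, fun q hq => by rw [Subgroup.mem_bot.1 hq]; simp⟩
  obtain ⟨Q, ⟨hQ2, hQM, g₀, hg₀, hQg⟩, hmax⟩ :=
    Set.exists_max_image S (fun Q => Nat.card Q) (Set.toFinite S) hne
  obtain ⟨m₁, hm₁, w, hw, hw1, hm₁w, hcent⟩ := h.marked_cent hQM hQ2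
  obtain ⟨m₂, hm₂, w₂, -, -, -, hcent2⟩ := h.marked_cent (Q := Q.map (MulAut.conj g₀⁻¹).toMonoidHom)
    (by rintro _ ⟨q, hq, rfl⟩; show g₀⁻¹ * q * g₀⁻¹⁻¹ ∈ M; rw [inv_inv]; exact hQg q hq) (hQ2.map _)
  set g := g₀ * m₂ with hgdef
  have hgM : g ∉ M := fun e => hg₀ (by have := mul_mem e (inv_mem hm₂); rwa [mul_inv_cancel_right] at this)
  have hQg' : ∀ q ∈ Q, g⁻¹ * q * g ∈ M := by
    intro q hq
    rw [show g⁻¹ * q * g = m₂⁻¹ * (g₀⁻¹ * q * g₀) * m₂ by rw [hgdef]; group]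
    exact mul_mem (mul_mem (inv_mem hm₂) (hQg q hq)) hm₂
  set v := g * z * g⁻¹ with hv
  have hvQ : ∀ q ∈ Q, q * v = v * q := by
    intro q hq
    have := (hcent2 _ ⟨q, hq, rfl⟩).1
    change g₀⁻¹ * q * g₀⁻¹⁻¹ * (m₂ * z * m₂⁻¹) = m₂ * z * m₂⁻¹ * (g₀⁻¹ * q * g₀⁻¹⁻¹) at this
    calc q * v = g₀ * (g₀⁻¹ * q * g₀⁻¹⁻¹ * (m₂ * z * m₂⁻¹)) * g₀⁻¹ := by rw [hv, hgdef]; group
      _ = _ := by rw [this, hv, hgdef]; group
  have hzM : z ∈ M := h.cent_le_M rfl
  -- every marked involution centralising `Q` is moved by the centraliser of `Q` to `v` times an element of `Q`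
  have key : ∀ m ∈ M, ∀ e₀, Marked z W e₀ → e₀ ∈ M → e₀ * e₀ = 1 → (∀ q ∈ Q, q * (m * e₀ * m⁻¹) = m * e₀ * m⁻¹ * q) →
      ∃ k, (∀ q ∈ Q, q * k = k * q) ∧ (∃ q ∈ Q, k * (m * e₀ * m⁻¹) * k⁻¹ = v * q) ∧ g⁻¹ * k ∈ M := by
    intro m hm e₀ he₀ he₀M he₀2 hme
    set e := m * e₀ * m⁻¹ with he
    have hee : e * e = 1 := by
      rw [he, show m * e₀ * m⁻¹ * (m * e₀ * m⁻¹) = m * (e₀ * e₀) * m⁻¹ by group, he₀2]; group
    have hvv : v * v = 1 := by
      rw [hv, show g * z * g⁻¹ * (g * z * g⁻¹) = g * (z * z) * g⁻¹ by group, h.zz]; group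
    set r := e * v with hr
    have hrQ : ∀ q ∈ Q, q * r = r * q := fun q hq => by
      rw [hr, ← mul_assoc, hme q hq, mul_assoc, hvQ q hq, ← mul_assoc]
    have hrQn : ∀ n : ℤ, ∀ q ∈ Q, q * r ^ n = r ^ n * q := fun n q hq => (Commute.zpow_right (hrQ q hq) n).eq
    have hex : ∃ n, 0 < n ∧ r ^ n ∈ Q := ⟨orderOf r, orderOf_pos r, by rw [pow_orderOf_eq_one]; exact one_mem Q⟩
    obtain ⟨hn0, hn⟩ := Nat.find_spec hex
    have hei : e * r = r⁻¹ * e := by
      rw [hr, mul_inv_rev, inv_eq_of_mul_eq_one_right hee, inv_eq_of_mul_eq_one_right hvv,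
        ← mul_assoc e e, hee, one_mul, mul_assoc v, hee, mul_one]
    have hvi : v * r = r⁻¹ * v := by
      rw [hr, mul_inv_rev, inv_eq_of_mul_eq_one_right hee, inv_eq_of_mul_eq_one_right hvv]; group
    have hpow : ∀ x, x * r = r⁻¹ * x → ∀ n : ℕ, x * r ^ n = (r ^ n)⁻¹ * x := fun x hx n => by
      rw [← inv_pow]; exact (SemiconjBy.pow_right (show SemiconjBy x r r⁻¹ from hx) n).eq
    rcases Nat.even_or_odd' (Nat.find hex) with ⟨k, hk | hk⟩
    · exfalso
      have hk0 : 0 < k := by omega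
      have hi : r ^ k ∉ Q := fun hi => Nat.find_min hex (by omega) ⟨hk0, hi⟩
      set i := r ^ k with hidef
      have hii : i * i ∈ Q := by rw [hidef, ← pow_add, show k + k = Nat.find hex by omega]; exact hn
      have hci : ∀ x, x * r = r⁻¹ * x → i * x * i⁻¹ = x * (i * i)⁻¹ := fun x hx => by
        have h1 : x * i = i⁻¹ * x := hpow x hx k
        calc i * x * i⁻¹ = i * (x * i) * (i * i)⁻¹ := by group
          _ = _ := by rw [h1]; group
      have hiM : i ∈ M := by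
        have hmem : i * m * e₀ * (i * m)⁻¹ ∈ M := by
          rw [show i * m * e₀ * (i * m)⁻¹ = i * e * i⁻¹ by rw [he]; group, hci e hei]
          exact mul_mem (mul_mem (mul_mem hm he₀M) (inv_mem hm)) (hQM (inv_mem hii))
        have := mul_mem (h.iso he₀ hmem) (inv_mem hm)
        rwa [mul_inv_cancel_right] at this
      have hiM' : g⁻¹ * i * g ∈ M := by
        refine h.iso (e := z) (Or.inl rfl) ?_
        rw [show g⁻¹ * i * g * z * (g⁻¹ * i * g)⁻¹ = g⁻¹ * (i * v * i⁻¹) * g by rw [hv]; group, hci v hvi,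
          show g⁻¹ * (v * (i * i)⁻¹) * g = z * (g⁻¹ * (i * i)⁻¹ * g) by rw [hv]; group]
        exact mul_mem hzM (hQg' _ (inv_mem hii))
      have hiQ : ∀ q ∈ Q, i * q * i⁻¹ = q := fun q hq => by
        rw [hidef, ← zpow_natCast, ← hrQn k q hq, mul_inv_cancel_right]
      have hi2 : IsPGroup 2 (Subgroup.zpowers i) := by
        obtain ⟨l, hl⟩ := hQ2 ⟨i * i, hii⟩
        have hl' : i ^ 2 ^ (l + 1) = 1 := by
          rw [pow_succ', pow_mul, pow_two]; exact congrArg Subtype.val hl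
        intro ⟨x, hx⟩
        obtain ⟨n, rfl⟩ := Subgroup.mem_zpowers_iff.1 hx
        refine ⟨l + 1, Subtype.ext ?_⟩
        show (i ^ n) ^ (2 ^ (l + 1)) = 1
        rw [← zpow_natCast, ← zpow_mul, mul_comm, zpow_mul, zpow_natCast, hl', one_zpow]
      have hin : Subgroup.zpowers i ≤ Subgroup.normalizer (Q : Set G) := Subgroup.zpowers_le.2
        (Subgroup.mem_normalizer_iff.2 fun q => ⟨fun hq => (hiQ q hq).symm ▸ hq, fun hq => by
          have := hiQ _ hq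
          have e2 : i * q * i⁻¹ = q := mul_left_cancel (mul_right_cancel this)
          rwa [e2] at hq⟩)
      set Q' := Subgroup.zpowers i ⊔ Q with hQ'
      have hQ'M : Q' ≤ M := sup_le (Subgroup.zpowers_le.2 hiM) hQM
      have hQ'g : Q' ≤ M.comap (MulAut.conj g⁻¹).toMonoidHom := sup_le
        (Subgroup.zpowers_le.2 (by show g⁻¹ * i * g⁻¹⁻¹ ∈ M; rw [inv_inv]; exact hiM'))
        (fun q hq => by show g⁻¹ * q * g⁻¹⁻¹ ∈ M; rw [inv_inv]; exact hQg' q hq)
      have hle := hmax Q' ⟨hi2.to_sup_of_normal_right' hQ2 hin, hQ'M, g, hgM, fun q hq => by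
        have := hQ'g hq
        change g⁻¹ * q * g⁻¹⁻¹ ∈ M at this
        rwa [inv_inv] at this⟩
      exact hi (Subgroup.eq_of_le_of_card_ge (le_sup_right : Q ≤ Q') hle ▸
        Subgroup.mem_sup_left (Subgroup.mem_zpowers i))
    · set k' := (r ^ (k + 1))⁻¹ with hk'
      have he' : k' * e * k'⁻¹ = v * r ^ Nat.find hex := by
        rw [hk', inv_inv, ← hpow e hei (k + 1), mul_assoc, ← pow_add, hk,
          show k + 1 + (k + 1) = 1 + (2 * k + 1) by omega, pow_add, pow_one, ← mul_assoc, hr, ← mul_assoc, hee,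
          one_mul]
      refine ⟨k', fun q hq => ?_, ⟨r ^ Nat.find hex, hn, he'⟩, ?_⟩
      · rw [hk', ← zpow_natCast, ← zpow_neg]; exact hrQn _ q hq
      · have hmem : g⁻¹ * k' * m * e₀ * (g⁻¹ * k' * m)⁻¹ ∈ M := by
          rw [show g⁻¹ * k' * m * e₀ * (g⁻¹ * k' * m)⁻¹ = g⁻¹ * (k' * e * k'⁻¹) * g by rw [he]; group, he',
            show g⁻¹ * (v * r ^ Nat.find hex) * g = z * (g⁻¹ * r ^ Nat.find hex * g) by rw [hv]; group]
          exact mul_mem hzM (hQg' _ hn)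
        have := mul_mem (h.iso he₀ hmem) (inv_mem hm)
        rwa [mul_inv_cancel_right] at this
  have hwm : m₁ * w * m₁⁻¹ = w := hm₁w
  obtain ⟨k, hkQ, ⟨q, hq, hkv⟩, hkM⟩ := key m₁ hm₁ z (Or.inl rfl) hzM h.zz fun q hq => (hcent q hq).1
  obtain ⟨l, hlQ, ⟨q', hq', hlv⟩, hlM⟩ := key m₁ hm₁ w (Or.inr ⟨w, hw, hw1, Or.inl rfl⟩)
    (h.cent_le_M (h.W_z hw)) (h.sq_W w hw) fun q hq => by rw [hwm]; exact (hcent q hq).2
  rw [hwm] at hlv
  set m := l⁻¹ * k * m₁ with hmdef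
  have hmM : m ∈ M := by
    rw [hmdef, show l⁻¹ * k * m₁ = (g⁻¹ * l)⁻¹ * (g⁻¹ * k) * m₁ by group]
    exact mul_mem (mul_mem (inv_mem hlM) hkM) hm₁
  -- `z` and `w` differ by an element of `Q` up to conjugation in the normaliser
  have hp : w * (m * z * m⁻¹) ∈ Q := by
    have e1 : m * z * m⁻¹ = l⁻¹ * (v * q) * l := by rw [← hkv, hmdef]; group
    have e2 : v * q = l * w * l⁻¹ * (q'⁻¹ * q) := by rw [hlv]; group
    have e3 : m * z * m⁻¹ = w * (l⁻¹ * (q'⁻¹ * q) * l) := by rw [e1, e2]; group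
    rw [e3, ← mul_assoc, h.sq_W w hw, one_mul, mul_assoc, hlQ _ (mul_mem (inv_mem hq') hq), inv_mul_cancel_left]
    exact mul_mem (inv_mem hq') hq
  set w' := m⁻¹ * w * m with hw'
  have hw'W : w' ∈ W := by
    have := (Subgroup.mem_normalizer_iff.1 (inv_mem hmM) w).1 hw
    rwa [inv_inv] at this
  have hw'1 : w' ≠ 1 := fun e => hw1 (by
    calc w = m * w' * m⁻¹ := by rw [hw']; group
      _ = 1 := by rw [e]; group)
  have e4 : w * (m * z * m⁻¹) = m * (z * w') * m⁻¹ := by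
    rw [← h.W_z hw'W, hw']; group
  rw [e4] at hp
  have := h.iso (g := g⁻¹ * m) (e := z * w') (Or.inr ⟨w', hw'W, hw'1, Or.inr rfl⟩) (by
    rw [show g⁻¹ * m * (z * w') * (g⁻¹ * m)⁻¹ = g⁻¹ * (m * (z * w') * m⁻¹) * g by group]
    exact hQg' _ hp)
  refine hgM ?_
  have h2 := mul_mem hmM (inv_mem this)
  rwa [mul_inv_rev, inv_inv, mul_inv_cancel_left] at h2

end Frame

end CfsgLib.Recognition.FiTwentyThree
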