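import Cfsg.Agent.Lib.Recognition.FiTwentyThree.Outcome
import Cfsg.Agent.Lib.Recognition.FiTwentyThree.TwinBase
import Cfsg.Agent.Lib.Recognition.FiTwentyThree.TwinNormal
import Cfsg.Agent.Lib.Recognition.USixTwoOuter.Isolated

/-!
# The three outcomes

When all the centralisers of the involutions of `W` split, `z` is isolated.
-/

set_option autoImplicit false
set_option linter.unusedSectionVars false
set_option linter.style.haveILetI false

universe u v

namespace CfsgLib.Recognition.FiTwentyThree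

open CfsgLib.Recognition.USixCentral (SplitAt mem_cent_of odd_order_of_mem eq_one_of_two_odd)

variable {G : Type u} [Group G] [Finite G] {F : Type*} [Field F] [Fintype F]

namespace Layer

variable {z c : G} {J W : Subgroup G} {φ : ↥(Subgroup.centralizer ({z} : Set G)) →* MulAut (Cfsg.PSp 2 F)}
  (h : Layer z c J W φ)
include h

/-- An odd subgroup normalised by `J` meets the centraliser of `z` trivially. -/
theorem odd_cap {O : Subgroup G} (hO : Odd (Nat.card O)) (hn : ∀ j ∈ J, ∀ o ∈ O, j * o * j⁻¹ ∈ O) {o : G}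
    (ho : o ∈ O) (hoz : o * z = z * o) : o = 1 := by
  have hpow : ∀ {y}, y ∈ J → ∃ k : ℕ, y ^ 2 ^ k = 1 := fun hy => by
    obtain ⟨k, hk⟩ := h.J_two ⟨_, hy⟩
    exact ⟨k, congrArg Subtype.val hk⟩
  refine eq_one_of_two_odd (hpow (h.cent_le o fun j hj => ?_)) (odd_order_of_mem hO ho)
  have h1 : o * j * o⁻¹ * j⁻¹ ∈ O := by
    rw [show o * j * o⁻¹ * j⁻¹ = o * (j * o⁻¹ * j⁻¹) by group]
    exact mul_mem ho (hn j hj _ (inv_mem ho))
  have h2 := eq_one_of_two_odd (hpow (mul_mem (h.norm o hoz j hj) (inv_mem hj))) (odd_order_of_mem hO h1)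
  calc o * j = o * j * o⁻¹ * j⁻¹ * (j * o) := by group
    _ = _ := by rw [h2, one_mul]

/-- A split centraliser of an involution of `W` isolates `z` in it. -/
theorem split_fix {w : G} (hw : w ∈ W) (hs : SplitAt z (Subgroup.centralizer ({w} : Set G))) {l : G}
    (hl : l * w = w * l) (hc : l * z * l⁻¹ * z = z * (l * z * l⁻¹)) : l * z * l⁻¹ = z := by
  obtain ⟨O, -, hodd, hn, hdec⟩ := hs
  obtain ⟨d, hdz, o, ho, rfl⟩ := hdec l (mem_cent_of hl)
  have hzX : z ∈ Subgroup.centralizer ({w} : Set G) := mem_cent_of (h.W_z hw).symm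
  have hJX : ∀ j ∈ J, j ∈ Subgroup.centralizer ({w} : Set G) := fun j hj => mem_cent_of (h.W_cent w hw j hj).symm
  have hd : o * z * o⁻¹ * z⁻¹ ∈ O := by
    rw [show o * z * o⁻¹ * z⁻¹ = o * (z * o⁻¹ * z⁻¹) by group]
    exact mul_mem ho (hn z hzX _ (inv_mem ho))
  have e : d * o * z * (d * o)⁻¹ = d * (o * z * o⁻¹) * d⁻¹ := by group
  have hdz' : d * z * d⁻¹ = z := mul_inv_eq_iff_eq_mul.2 hdz
  rw [e] at hc ⊢
  have hc' : Commute (o * z * o⁻¹) z := by
    have h1 : d * (o * z * o⁻¹ * z) * d⁻¹ = d * (z * (o * z * o⁻¹)) * d⁻¹ := by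
      calc d * (o * z * o⁻¹ * z) * d⁻¹ = d * (o * z * o⁻¹) * d⁻¹ * (d * z * d⁻¹) := by group
        _ = z * (d * (o * z * o⁻¹) * d⁻¹) := by rw [hdz', hc]
        _ = d * z * d⁻¹ * (d * (o * z * o⁻¹) * d⁻¹) := by rw [hdz']
        _ = _ := by group
    exact mul_left_cancel (mul_right_cancel h1)
  have h1 := h.odd_cap hodd (fun j hj => hn j (hJX j hj)) hd (hc'.mul_left (Commute.refl z).inv_left).eq
  rw [mul_inv_eq_one] at h1
  rw [h1, hdz']

/-- `z` is isolated when all those centralisers split. -/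
theorem supplement (hF : Fintype.card F = 3)
    (hsplit : ∀ w ∈ W, w ≠ 1 → SplitAt z (Subgroup.centralizer ({z * w} : Set G)))
    (hplain : ∀ w ∈ W, w ≠ 1 → SplitAt z (Subgroup.centralizer ({w} : Set G))) :
    Subgroup.centralizer ({z} : Set G) ⊔ Cfsg.oddCore G = ⊤ := by
  refine CfsgLib.Recognition.USixTwoOuter.sup_oddCore_eq_top ⟨h.ord_z, fun g hg => ?_⟩
  have B := h.base hF hsplit
  obtain ⟨w, hw, hw1, hw'⟩ := B.of_commute0 hg.eq.symm
  have hw1' : g * w * g⁻¹ ≠ 1 := fun e => hw1 (conj_eq_one_iff.1 e)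
  obtain ⟨m, hmz, hm⟩ := B.cyc _ hw' hw1' w hw hw1
  have hl : m * g * w = w * (m * g) := by
    rw [← mul_inv_eq_iff_eq_mul]
    refine Eq.trans ?_ hm
    group
  have hmz' : m * z * m⁻¹ = z := mul_inv_eq_iff_eq_mul.2 hmz
  have hc : m * g * z * (m * g)⁻¹ * z = z * (m * g * z * (m * g)⁻¹) := by
    calc m * g * z * (m * g)⁻¹ * z = m * g * z * (m * g)⁻¹ * (m * z * m⁻¹) := by rw [hmz']
      _ = m * (g * z * g⁻¹ * z) * m⁻¹ := by group
      _ = m * (z * (g * z * g⁻¹)) * m⁻¹ := by rw [← hg.eq]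
      _ = m * z * m⁻¹ * (m * g * z * (m * g)⁻¹) := by group
      _ = _ := by rw [hmz']
  have e := h.split_fix hw (hplain w hw hw1) hl hc
  calc g * z * g⁻¹ = m⁻¹ * (m * g * z * (m * g)⁻¹) * m := by group
    _ = m⁻¹ * (m * z * m⁻¹) * m := by rw [e, hmz']
    _ = z := by group

/-- The trichotomy. -/
theorem trichotomy (hF : Fintype.card F = 3) {K : Type v} [Field K] [Fintype K] (hK : Fintype.card K = 4)
    (hS : TwoRecognition.{u, v} F K) (h14 : TransRecognition G) (hFi : IsSimpleGroup Cfsg.Spor.Fi22) :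
    Subgroup.centralizer ({z} : Set G) ⊔ Cfsg.oddCore G = ⊤ ∨ Cfsg.Spor.IsoFi23 G ∨
      (∃ (V : Subgroup G) (_ : V.Normal), Nat.card ↥V = 4 ∧ (∀ w ∈ V, w ^ 2 = 1) ∧
        Nonempty ((G ⧸ V) ≃* MulAut (Cfsg.PSU 6 K 2))) := by
  by_cases hnot : Cfsg.Spor.IsoFi23 G
  · exact Or.inr (Or.inl hnot)
  have hsplit : ∀ w ∈ W, w ≠ 1 → SplitAt z (Subgroup.centralizer ({z * w} : Set G)) := fun w hw hw1 =>
    h.twisted_split hF hK hS h14 hFi hnot hw hw1
  by_cases hall : ∀ w ∈ W, w ≠ 1 → SplitAt z (Subgroup.centralizer ({w} : Set G))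
  · exact Or.inl (h.supplement hF hsplit hall)
  · push Not at hall
    obtain ⟨w, hw, hw1, hns⟩ := hall
    obtain ⟨b, hb, hb1, hbw, hU⟩ := (h.plain_cases hF hK hS h14 hFi hnot hw hw1).resolve_left hns
    obtain ⟨hN, e⟩ := (h.coreData' hF).normal_four_group hK hsplit hw hw1 hb hb1 hbw hU
    exact Or.inr (Or.inr ⟨W, hN, h.card_W, fun v hv => by rw [pow_two]; exact h.W_sq v hv, e⟩)

end Layer

end CfsgLib.Recognition.FiTwentyThree
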