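import Cfsg.Agent.Lib.Recognition.FiTwentyThree.Layer

/-!
# The centre of a Sylow 2-subgroup: `z`, `a` and `z * a` are pairwise not conjugate
-/

set_option autoImplicit false
set_option linter.unusedSectionVars false
set_option linter.style.haveILetI false

namespace CfsgLib.Recognition.FiTwentyThree

variable {G : Type*} [Group G] [Finite G] {F : Type*} [Field F] [Fintype F]

namespace Layer

variable {z c : G} {J W : Subgroup G} {φ : ↥(Subgroup.centralizer ({z} : Set G)) →* MulAut (Cfsg.PSp 2 F)}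
  (h : Layer z c J W φ)
include h

/-- The facts about `a` and `z * a`. -/
theorem axis {a x : G} (ha : a ∈ W) (ha1 : a ≠ 1) (hx : x = a ∨ x = z * a) :
    x ∈ J ∧ x * x = 1 ∧ x ≠ 1 ∧ x ≠ z ∧ (∀ j ∈ J, j * x = x * j) ∧ x ∉ ({1, z} : Set G) ∧
      ∀ g, g * z = z * g → (g * x = x * g ↔ g * a = a * g) := by
  have haJ := h.W_le ha
  have haa := h.W_sq a ha
  have hzaz : z * a * z = a := by
    rw [mul_assoc, h.W_z ha, ← mul_assoc, h.zz, one_mul]
  have hane : a ≠ z := fun e => h.z_not (e ▸ ha)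
  rcases hx with rfl | rfl
  · exact ⟨haJ, haa, ha1, hane, fun j hj => (h.W_cent x ha j hj).symm, fun e => e.elim ha1 hane, fun g _ => Iff.rfl⟩
  · have h1 : z * a ≠ 1 := fun e => hane (by rw [← one_mul a, ← h.zz, mul_assoc, e, mul_one])
    have h2 : z * a ≠ z := fun e => ha1 (mul_eq_left.1 e)
    refine ⟨mul_mem h.z_mem haJ, by rw [← mul_assoc, hzaz, haa], h1, h2, fun j hj => ?_, fun e => e.elim h1 h2,
      fun g hg => ?_⟩
    · rw [← mul_assoc, h.J_z j hj, mul_assoc, ← h.W_cent a ha j hj, mul_assoc]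
    · constructor
      · intro e
        rw [← mul_assoc, hg, mul_assoc, mul_assoc] at e
        exact mul_left_cancel e
      · intro e
        rw [← mul_assoc, hg, mul_assoc, e, mul_assoc]

theorem axis_order {a x : G} (ha : a ∈ W) (ha1 : a ≠ 1) (hx : x = a ∨ x = z * a) : orderOf x = 2 :=
  CfsgLib.Recognition.USixCentral.order_two (h.axis ha ha1 hx).2.1 (h.axis ha ha1 hx).2.2.1

theorem le_C : J ≤ Subgroup.centralizer ({z} : Set G) := fun j hj =>
  Subgroup.mem_centralizer_singleton_iff.2 (h.J_z j hj)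

theorem nonabelian (hW : W ≤ J := h.W_le) : ∃ j ∈ J, ∃ k ∈ J, j * k = z * (k * j) := by
  by_contra hcon
  push Not at hcon
  have hab : ∀ j ∈ J, ∀ k ∈ J, j * k = k * j := fun j hj k hk =>
    (h.comm j hj k hk).resolve_right (hcon j hj k hk)
  have h1 : (J : Set G).ncard ≤ ((W : Set G) ∪ (fun w => z * w) '' (W : Set G)).ncard := by
    refine Set.ncard_le_ncard (fun j hj => ?_) (Set.toFinite _)
    rcases h.centre j hj (hab j hj) with h' | h'
    · exact Or.inl h'
    · exact Or.inr ⟨z * j, h', by show z * (z * j) = j; rw [← mul_assoc, h.zz, one_mul]⟩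
  have h2 := h1.trans ((Set.ncard_union_le _ _).trans
    (Nat.add_le_add_left (Set.ncard_image_le (Set.toFinite _)) _))
  rw [← Nat.card_coe_set_eq, ← Nat.card_coe_set_eq] at h2
  change Nat.card J ≤ Nat.card W + Nat.card W at h2
  rw [h.card_J, h.card_W] at h2
  omega

/-- A 2-subgroup of the centraliser of `z` and `a` normalised by it lies in `J`. -/
theorem two_le_J (hF : Fintype.card F = 3) {a : G} (ha : a ∈ W) (ha1 : a ≠ 1) {P : Subgroup G} (h2 : IsPGroup 2 P)
    (hP : ∀ p ∈ P, p * z = z * p ∧ p * a = a * p)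
    (hn : ∀ d, d * z = z * d → d * a = a * d → ∀ p ∈ P, d * p * d⁻¹ ∈ P) : P ≤ J := by
  have hle : P ≤ Subgroup.centralizer ({z} : Set G) := fun p hp =>
    Subgroup.mem_centralizer_singleton_iff.2 (hP p hp).1
  have hb : (P.subgroupOf (Subgroup.centralizer ({z} : Set G))).map φ = ⊥ := by
    refine CfsgLib.Recognition.USixCentral.two_group_bot hF
      ((h2.comap_of_injective _ Subtype.val_injective).map _) fun s n hn' => ?_
    obtain ⟨p, hp, rfl⟩ := hn'
    obtain ⟨g, hg⟩ := h.surj (MulAut.conj s)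
    obtain ⟨d, hda, hd⟩ := h.exists_fix ha ha1 g
    refine ⟨d * p * d⁻¹, ?_, by rw [map_mul, map_mul, map_inv, hd, hg]⟩
    exact hn d (Subgroup.mem_centralizer_singleton_iff.1 d.2) hda _ (Subgroup.mem_subgroupOf.1 hp)
  intro p hp
  refine h.fix_ker ha ha1 (g := ⟨p, hle hp⟩) (hP p hp).2 (Subgroup.mem_bot.1 (hb ▸ Subgroup.mem_map_of_mem φ ?_))
  exact Subgroup.mem_subgroupOf.2 hp

/-- A 2-subgroup of the centraliser of `z` and `a` with centre in `{1, z, a, z * a}` containing `J` and maximal. -/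
theorem exists_pair {a : G} (ha : a ∈ W) (ha1 : a ≠ 1) :
    ∃ T : Subgroup G, J ≤ T ∧ IsPGroup 2 T ∧ (∀ t ∈ T, t * z = z * t ∧ t * a = a * t) ∧
      (∀ p ∈ T, (∀ t ∈ T, p * t = t * p) → p = 1 ∨ p = z ∨ p = a ∨ p = z * a) ∧
      ∀ g, g * z = z * g → g * a = a * g → IsPGroup 2 ↥(T ⊔ Subgroup.zpowers g) → g ∈ T := by
  haveI : Fact (Nat.Prime 2) := ⟨Nat.prime_two⟩
  set D := Subgroup.centralizer ({z} : Set G) ⊓ Subgroup.centralizer ({a} : Set G) with hD
  have hDmem : ∀ {g}, g ∈ D ↔ g * z = z * g ∧ g * a = a * g := fun {g} =>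
    Subgroup.mem_inf.trans (and_congr Subgroup.mem_centralizer_singleton_iff Subgroup.mem_centralizer_singleton_iff)
  have hJD : J ≤ D := fun j hj => hDmem.2 ⟨h.J_z j hj, (h.W_cent a ha j hj).symm⟩
  obtain ⟨S, hS⟩ := IsPGroup.exists_le_sylow (G := ↥D) (P := J.subgroupOf D)
    (h.J_two.comap_of_injective _ Subtype.val_injective)
  set T := (S : Subgroup ↥D).map D.subtype with hT
  have hTD : T ≤ D := Subgroup.map_subtype_le _
  have hJT : J ≤ T := fun j hj => ⟨⟨j, hJD hj⟩, hS (Subgroup.mem_subgroupOf.2 hj), rfl⟩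
  have hT2 : IsPGroup 2 T := S.isPGroup'.map _
  have hmax : ∀ P : Subgroup G, T ≤ P → IsPGroup 2 P → P ≤ D → P ≤ T := by
    intro P hTP hP2 hPD p hp
    have h1 : (S : Subgroup ↥D) ≤ P.subgroupOf D := fun s hs =>
      Subgroup.mem_subgroupOf.2 (hTP ⟨s, hs, rfl⟩)
    have h2 := S.is_maximal' (hP2.comap_of_injective _ Subtype.val_injective) h1
    exact ⟨⟨p, hPD hp⟩, (h2 ▸ Subgroup.mem_subgroupOf.2 hp : (⟨p, hPD hp⟩ : ↥D) ∈ (S : Subgroup ↥D)), rfl⟩
  refine ⟨T, hJT, hT2, fun t ht => hDmem.1 (hTD ht), fun p hp hcen => ?_, fun g hgz hga h2 => ?_⟩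
  · have hpJ : p ∈ J := h.cent_le p fun j hj => hcen j (hJT hj)
    -- an element of `T` moving the other involutions of `W`
    obtain ⟨s, hsz, hsa, hsw⟩ := h.exists_swap ha ha1
    obtain ⟨b, hb, hb1, hba⟩ : ∃ b ∈ W, b ≠ 1 ∧ b ≠ a := by
      obtain ⟨h1, h1'⟩ := h.conj_W h.c_z ha ha1
      exact ⟨_, h1, h1', h.moves ha ha1⟩
    have hsb : s * b * s⁻¹ ≠ b := fun e => ha1 (mul_eq_right.1 ((hsw b hb hb1 hba).symm.trans e))
    obtain ⟨k, m, hm, hkm⟩ := Nat.exists_eq_pow_mul_and_not_dvd (orderOf_pos s).ne' 2 (by norm_num)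
    have ht2 : IsPGroup 2 (Subgroup.zpowers (s ^ m)) := IsPGroup.of_card (n := k) (by
      rw [Nat.card_zpowers, orderOf_pow, hkm, Nat.gcd_mul_left_left, Nat.mul_div_cancel _ (by
        rcases Nat.eq_zero_or_pos m with e | e
        · exact absurd (e ▸ dvd_zero 2) hm
        · exact e)])
    have hss : ∀ {w}, w ∈ W → s * (s * w * s⁻¹) * s⁻¹ = w := by
      intro w hw
      by_cases h1 : w = 1
      · subst h1; group
      by_cases h2 : w = a
      · subst h2
        rw [mul_inv_eq_iff_eq_mul.2 hsa, mul_inv_eq_iff_eq_mul.2 hsa]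
      · have e1 := hsw w hw h1 h2
        have hm1 : a * w ∈ W := mul_mem ha hw
        have hm2 : a * w ≠ 1 := fun e => h2 (by
          rw [mul_eq_one_iff_eq_inv'] at e; rw [e, inv_eq_of_mul_eq_one_right (h.W_sq a ha)])
        have hm3 : a * w ≠ a := fun e => h1 (mul_eq_left.1 e)
        rw [e1, hsw _ hm1 hm2 hm3, ← mul_assoc, h.W_sq a ha, one_mul]
    have hsm : s ^ m * b * (s ^ m)⁻¹ ≠ b := by
      obtain ⟨r, rfl⟩ : ∃ r, m = 2 * r + 1 := ⟨m / 2, by omega⟩
      have he : ∀ r : ℕ, s ^ (2 * r) * b * (s ^ (2 * r))⁻¹ = b := by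
        intro r
        induction r with
        | zero => simp
        | succ r ih =>
          rw [show 2 * (r + 1) = 2 * r + 2 by ring, pow_add, pow_two,
            show s ^ (2 * r) * (s * s) * b * (s ^ (2 * r) * (s * s))⁻¹ =
              s ^ (2 * r) * (s * (s * b * s⁻¹) * s⁻¹) * (s ^ (2 * r))⁻¹ by group, hss hb, ih]
      intro e
      refine hsb ?_
      rw [pow_succ', show s * s ^ (2 * r) * b * (s * s ^ (2 * r))⁻¹ = s * (s ^ (2 * r) * b * (s ^ (2 * r))⁻¹) * s⁻¹ by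
        group, he] at e
      exact e
    have hsD : s ^ m ∈ D := pow_mem (hDmem.2 ⟨hsz, hsa⟩) m
    obtain ⟨S', hS'⟩ := IsPGroup.exists_le_sylow (G := ↥D)
      (P := (Subgroup.zpowers (s ^ m)).subgroupOf D) (ht2.comap_of_injective _ Subtype.val_injective)
    obtain ⟨u, hu⟩ := MulAction.exists_smul_eq ↥D S' S
    have htT : (u : G) * s ^ m * (u : G)⁻¹ ∈ T := by
      refine ⟨u * ⟨s ^ m, hsD⟩ * u⁻¹, ?_, rfl⟩
      rw [← hu]
      exact ⟨_, hS' (Subgroup.mem_subgroupOf.2 (Subgroup.mem_zpowers _)), rfl⟩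
    set t := (u : G) * s ^ m * (u : G)⁻¹ with ht
    have huz := (hDmem.1 u.2).1
    have hsame : ∀ w ∈ W, t * w = w * t → w = 1 ∨ w = a := by
      intro w hw hwt
      by_contra hcon
      push Not at hcon
      have hall : ∀ v ∈ W, t * v = v * t := by
        intro v hv
        have hva := (hDmem.1 (hTD htT)).2
        by_cases hv1 : v = 1
        · rw [hv1, mul_one, one_mul]
        rcases h.transitive ha ha1 hv hv1 with e | e | e
        · rw [e]; exact hva
        all_goals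
          rcases h.transitive ha ha1 hw hcon.1 with f | f | f
          · exact absurd f hcon.2
          all_goals
            have hprod : t * (a * w) = a * w * t := by rw [← mul_assoc, hva, mul_assoc, hwt, mul_assoc]
            obtain ⟨h1, h1'⟩ := h.conj_W h.c_z ha ha1
            obtain ⟨h2, h2'⟩ := h.conj_W h.c_z h1 h1'
            have hm : a * w ∈ W := mul_mem ha hw
            have hm1 : a * w ≠ 1 := fun e' => hcon.2 (by
              rw [mul_eq_one_iff_eq_inv'] at e'; rw [e', inv_eq_of_mul_eq_one_right (h.W_sq a ha)])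
            rcases h.transitive ha ha1 hm hm1 with g | g | g
            · exact absurd (mul_eq_left.1 g) hcon.1
            all_goals
              first
              | (rw [e, ← f]; exact hwt)
              | (rw [e, ← g]; exact hprod)
              | (exfalso; rw [← f] at g; exact ha1 (mul_eq_right.1 g))
      apply hsm
      have h1 := hall _ (h.norm_W u huz b hb)
      rw [ht] at h1
      rw [mul_inv_eq_iff_eq_mul]
      calc s ^ m * b = (u : G)⁻¹ * ((u : G) * s ^ m * (u : G)⁻¹ * ((u : G) * b * (u : G)⁻¹)) * u := by group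
        _ = _ := by rw [h1]; group
    have hpt := (hcen t htT).symm
    rcases h.centre p hpJ (fun k hk => hcen k (hJT hk)) with hw | hw
    · rcases hsame p hw hpt with e | e
      · exact Or.inl e
      · exact Or.inr (Or.inr (Or.inl e))
    · have htz := (hDmem.1 (hTD htT)).1
      have e : p = z * (z * p) := by rw [← mul_assoc, h.zz, one_mul]
      rcases hsame _ hw (by rw [← mul_assoc, htz, mul_assoc, hpt, mul_assoc]) with e' | e'
      · exact Or.inr (Or.inl (by rw [e, e', mul_one]))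
      · exact Or.inr (Or.inr (Or.inr (by rw [e, e'])))
  · exact hmax _ le_sup_left h2 (sup_le hTD (Subgroup.zpowers_le.2 (hDmem.2 ⟨hgz, hga⟩)))
      (Subgroup.mem_sup_right (Subgroup.mem_zpowers g))

/-- A normalising element fixing `z` fixes `a`. -/
theorem norm_fix {a : G} (ha : a ∈ W) (ha1 : a ≠ 1) {T : Subgroup G} (hJT : J ≤ T)
    (hT : ∀ t ∈ T, t * z = z * t ∧ t * a = a * t)
    (hZ : ∀ p ∈ T, (∀ t ∈ T, p * t = t * p) → p = 1 ∨ p = z ∨ p = a ∨ p = z * a)
    {g : G} (hn : ∀ t, t ∈ T ↔ g * t * g⁻¹ ∈ T) (hg : g * z = z * g) : g * a = a * g := by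
  obtain ⟨h1, h1'⟩ := h.conj_W hg ha ha1
  have hm : g * a * g⁻¹ ∈ T := (hn a).1 (hJT (h.W_le ha))
  rcases hZ _ hm (fun t ht => by
    have h3 : g⁻¹ * t * g ∈ T := (hn _).2 (by simpa [mul_assoc] using ht)
    calc g * a * g⁻¹ * t = g * (a * (g⁻¹ * t * g)) * g⁻¹ := by group
      _ = t * (g * a * g⁻¹) := by rw [← (hT _ h3).2]; group) with e | e | e | e
  · exact absurd e h1'
  · exact absurd (e ▸ h1) h.z_not
  · exact mul_inv_eq_iff_eq_mul.1 e
  · refine absurd ?_ h.z_not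
    have := mul_mem h1 ha
    rwa [e, mul_assoc, h.W_sq a ha, mul_one] at this

/-- The 2-subgroups of `C(z)` are no larger than `T`. -/
theorem card_le {a : G} (ha : a ∈ W) (ha1 : a ≠ 1) {T : Subgroup G} (hJT : J ≤ T) (hT2 : IsPGroup 2 T)
    (hT : ∀ t ∈ T, t * z = z * t ∧ t * a = a * t)
    (hZ : ∀ p ∈ T, (∀ t ∈ T, p * t = t * p) → p = 1 ∨ p = z ∨ p = a ∨ p = z * a)
    (hmax : ∀ g, g * z = z * g → g * a = a * g → IsPGroup 2 ↥(T ⊔ Subgroup.zpowers g) → g ∈ T)
    {P : Subgroup G} (h2 : IsPGroup 2 P) (hP : ∀ p ∈ P, p * z = z * p) : Nat.card P ≤ Nat.card T := by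
  haveI : Fact (Nat.Prime 2) := ⟨Nat.prime_two⟩
  set C := Subgroup.centralizer ({z} : Set G)
  have hTC : T ≤ C := fun t ht => Subgroup.mem_centralizer_singleton_iff.2 (hT t ht).1
  have hPC : P ≤ C := fun t ht => Subgroup.mem_centralizer_singleton_iff.2 (hP t ht)
  obtain ⟨S, hS⟩ := IsPGroup.exists_le_sylow (G := ↥C) (P := T.subgroupOf C)
    (hT2.comap_of_injective _ Subtype.val_injective)
  have heq : (S : Subgroup ↥C) = T.subgroupOf C := by
    by_contra hne
    haveI : Group.IsNilpotent ↥(S : Subgroup ↥C) := S.isPGroup'.isNilpotent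
    have hlt : (T.subgroupOf C).subgroupOf (S : Subgroup ↥C) < ⊤ := by
      rw [lt_top_iff_ne_top, Ne, Subgroup.subgroupOf_eq_top]
      exact fun h' => hne (le_antisymm h' hS)
    obtain ⟨x, hx, hxn⟩ := SetLike.exists_of_lt
      (Group.normalizerCondition_of_isNilpotent (G := ↥(S : Subgroup ↥C)) _ hlt)
    have hnorm : ∀ t, t ∈ T ↔ ((x : ↥C) : G) * t * ((x : ↥C) : G)⁻¹ ∈ T := by
      intro t
      have h1 := Subgroup.mem_normalizer_iff.1 hx
      constructor
      · intro ht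
        exact (h1 ⟨⟨t, hTC ht⟩, hS (Subgroup.mem_subgroupOf.2 ht)⟩).1 ht
      · intro ht
        have h2' := (h1 (x⁻¹ * ⟨⟨_, hTC ht⟩, hS (Subgroup.mem_subgroupOf.2 ht)⟩ * x)).2 (by
          show _ ∈ (T.subgroupOf C).subgroupOf _
          simpa [Subgroup.mem_subgroupOf, mul_assoc] using ht)
        simpa [Subgroup.mem_subgroupOf, mul_assoc] using h2'
    have hxz := Subgroup.mem_centralizer_singleton_iff.1 (x : ↥C).2
    have hxa := h.norm_fix ha ha1 hJT hT hZ hnorm hxz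
    refine hxn (Subgroup.mem_subgroupOf.2 (Subgroup.mem_subgroupOf.2 (hmax _ hxz hxa ?_)))
    have hle : T ⊔ Subgroup.zpowers ((x : ↥C) : G) ≤ (S : Subgroup ↥C).map C.subtype :=
      sup_le (fun t ht => ⟨⟨t, hTC ht⟩, hS (Subgroup.mem_subgroupOf.2 ht), rfl⟩)
        (Subgroup.zpowers_le.2 ⟨(x : ↥C), SetLike.coe_mem x, rfl⟩)
    exact (S.isPGroup'.map _).to_le hle
  obtain ⟨S', hS'⟩ := IsPGroup.exists_le_sylow (G := ↥C) (P := P.subgroupOf C)
    (h2.comap_of_injective _ Subtype.val_injective)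
  obtain ⟨u, hu⟩ := MulAction.exists_smul_eq ↥C S' S
  calc Nat.card P = Nat.card (P.subgroupOf C) := (Nat.card_congr (Subgroup.subgroupOfEquivOfLe hPC).toEquiv).symm
    _ ≤ Nat.card (S' : Subgroup ↥C) := Nat.card_le_card_of_injective _ (Subgroup.inclusion_injective hS')
    _ = Nat.card (S : Subgroup ↥C) := (Sylow.card_eq_multiplicity S').trans (Sylow.card_eq_multiplicity S).symm
    _ = Nat.card T := by rw [heq, Nat.card_congr (Subgroup.subgroupOfEquivOfLe hTC).toEquiv]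

/-- `z` is conjugate neither to `a` nor to `z * a`. -/
theorem not_conj (hF : Fintype.card F = 3) {a x : G} (ha : a ∈ W) (ha1 : a ≠ 1) (hx : x = a ∨ x = z * a) (g : G) :
    g * z * g⁻¹ ≠ x := by
  intro e
  obtain ⟨hxJ, -, hx1, hxz, hxc, -, hxiff⟩ := h.axis ha ha1 hx
  obtain ⟨T, hJT, hT2, hT, hZ, hmax⟩ := h.exists_pair ha ha1
  set Jg := J.map (MulAut.conj g).toMonoidHom with hJg
  have hpull : ∀ {y}, y * x = x * y → g⁻¹ * y * g * z = z * (g⁻¹ * y * g) := by
    intro y hy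
    calc g⁻¹ * y * g * z = g⁻¹ * (y * x) * g := by rw [← e]; group
      _ = _ := by rw [hy, ← e]; group
  have hJgn : ∀ {y}, y * x = x * y → ∀ k ∈ Jg, y * k * y⁻¹ ∈ Jg := by
    rintro y hy _ ⟨j, hj, rfl⟩
    refine ⟨_, h.norm _ (hpull hy) j hj, ?_⟩
    show g * _ * g⁻¹ = y * (g * j * g⁻¹) * y⁻¹
    group
  have hJgx : ∀ k ∈ Jg, k * x = x * k := by
    rintro _ ⟨j, hj, rfl⟩
    show g * j * g⁻¹ * x = x * (g * j * g⁻¹)
    rw [← e, show g * j * g⁻¹ * (g * z * g⁻¹) = g * (j * z) * g⁻¹ by group, h.J_z j hj]; group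
  have hTx : ∀ t ∈ T, t * x = x * t := fun t ht => (hxiff t (hT t ht).1).2 (hT t ht).2
  have h2 : IsPGroup 2 ↥(T ⊔ Jg) := by
    refine hT2.to_sup_of_normal_right' (h.J_two.map _) fun t ht => Subgroup.mem_normalizer_fintype fun k hk => ?_
    exact hJgn (hTx t ht) k hk
  have hsup : ∀ p ∈ T ⊔ Jg, p * x = x * p := fun p hp => by
    have hle : T ⊔ Jg ≤ Subgroup.centralizer ({x} : Set G) :=
      sup_le (fun t ht => Subgroup.mem_centralizer_singleton_iff.2 (hTx t ht))
        (fun k hk => Subgroup.mem_centralizer_singleton_iff.2 (hJgx k hk))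
    exact Subgroup.mem_centralizer_singleton_iff.1 (hle hp)
  have hcard : Nat.card ↥(T ⊔ Jg) ≤ Nat.card T := by
    have h3 := h.card_le ha ha1 hJT hT2 hT hZ hmax (P := (T ⊔ Jg).map (MulAut.conj g⁻¹).toMonoidHom)
      (h2.map _) (by
        rintro _ ⟨p, hp, rfl⟩
        show g⁻¹ * p * g⁻¹⁻¹ * z = z * (g⁻¹ * p * g⁻¹⁻¹)
        rw [inv_inv]; exact hpull (hsup p hp))
    rwa [Subgroup.card_map_of_injective (MulAut.conj g⁻¹).injective] at h3
  have heq : T = T ⊔ Jg := Subgroup.eq_of_le_of_card_ge le_sup_left hcard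
  have hle : Jg ≤ J := h.two_le_J hF ha ha1 (h.J_two.map _) (fun k hk => hT k (heq ▸ Subgroup.mem_sup_right hk))
    fun d hdz hda k hk => hJgn ((hxiff d hdz).2 hda) k hk
  obtain ⟨j, hj, k, hk, hjk⟩ := h.nonabelian
  have h1 : g * j * g⁻¹ * (g * k * g⁻¹) = x * (g * k * g⁻¹ * (g * j * g⁻¹)) := by
    rw [show g * j * g⁻¹ * (g * k * g⁻¹) = g * (j * k) * g⁻¹ by group, hjk, ← e]; group
  rcases h.comm _ (hle ⟨j, hj, rfl⟩) _ (hle ⟨k, hk, rfl⟩) with e' | e'
  · change g * j * g⁻¹ * (g * k * g⁻¹) = g * k * g⁻¹ * (g * j * g⁻¹) at e'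
    rw [e'] at h1
    exact hx1 (mul_eq_right.1 h1.symm)
  · change g * j * g⁻¹ * (g * k * g⁻¹) = z * (g * k * g⁻¹ * (g * j * g⁻¹)) at e'
    rw [e'] at h1
    exact hxz (mul_right_cancel h1).symm

/-- `a` and `z * a` are not conjugate. -/
theorem not_conj_za (hF : Fintype.card F = 3) {a : G} (ha : a ∈ W) (ha1 : a ≠ 1) (g : G) :
    g * a * g⁻¹ ≠ z * a := by
  intro e
  haveI : Fact (Nat.Prime 2) := ⟨Nat.prime_two⟩
  obtain ⟨hxJ, -, -, -, hxc, -, hxiff⟩ := h.axis ha ha1 (x := z * a) (Or.inr rfl)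
  obtain ⟨T, hJT, hT2, hT, hZ, hmax⟩ := h.exists_pair ha ha1
  set X := Subgroup.centralizer ({z * a} : Set G) with hX
  set Tg := T.map (MulAut.conj g).toMonoidHom
  have hTX : T ≤ X := fun t ht => Subgroup.mem_centralizer_singleton_iff.2 ((hxiff t (hT t ht).1).2 (hT t ht).2)
  have hTgX : Tg ≤ X := by
    rintro _ ⟨t, ht, rfl⟩
    refine Subgroup.mem_centralizer_singleton_iff.2 ?_
    show g * t * g⁻¹ * (z * a) = z * a * (g * t * g⁻¹)
    rw [← e, show g * t * g⁻¹ * (g * a * g⁻¹) = g * (t * a) * g⁻¹ by group, (hT t ht).2]; group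
  obtain ⟨S, hS⟩ := IsPGroup.exists_le_sylow (G := ↥X) (P := T.subgroupOf X)
    (hT2.comap_of_injective _ Subtype.val_injective)
  obtain ⟨S', hS'⟩ := IsPGroup.exists_le_sylow (G := ↥X) (P := Tg.subgroupOf X)
    ((hT2.map _).comap_of_injective _ Subtype.val_injective)
  -- `T` is a Sylow 2-subgroup of the centraliser of `z * a`
  have hST : ∀ s ∈ (S : Subgroup ↥X), (s : G) ∈ T := by
    set P := (S : Subgroup ↥X).map X.subtype with hP
    have hTP : T ≤ P := fun t ht => ⟨⟨t, hTX ht⟩, hS (Subgroup.mem_subgroupOf.2 ht), rfl⟩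
    have hP2 : IsPGroup 2 P := S.isPGroup'.map _
    intro s hs
    by_contra hsT
    haveI : Group.IsNilpotent ↥P := hP2.isNilpotent
    have hlt : T.subgroupOf P < ⊤ := by
      rw [lt_top_iff_ne_top, Ne, Subgroup.subgroupOf_eq_top]
      exact fun h' => hsT (h' ⟨s, hs, rfl⟩)
    obtain ⟨x, hx, hxn⟩ := SetLike.exists_of_lt
      (Group.normalizerCondition_of_isNilpotent (G := ↥P) _ hlt)
    have hnorm : ∀ t, t ∈ T ↔ (x : G) * t * (x : G)⁻¹ ∈ T := by
      intro t
      have h1 := Subgroup.mem_normalizer_iff.1 hx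
      constructor
      · intro ht
        exact (h1 ⟨t, hTP ht⟩).1 ht
      · intro ht
        have h2' := (h1 (x⁻¹ * ⟨_, hTP ht⟩ * x)).2 (by simpa [Subgroup.mem_subgroupOf, mul_assoc] using ht)
        simpa [Subgroup.mem_subgroupOf, mul_assoc] using h2'
    have hxz : (x : G) * z = z * x := by
      rw [← mul_inv_eq_iff_eq_mul]
      have hm : (x : G) * z * (x : G)⁻¹ ∈ T := (hnorm z).1 (hJT h.z_mem)
      rcases hZ _ hm (fun t ht => by
        have h3 : (x : G)⁻¹ * t * x ∈ T := (hnorm _).2 (by simpa [mul_assoc] using ht)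
        calc (x : G) * z * (x : G)⁻¹ * t = x * (z * ((x : G)⁻¹ * t * x)) * (x : G)⁻¹ := by group
          _ = t * (x * z * (x : G)⁻¹) := by rw [← (hT _ h3).1]; group) with e' | e' | e' | e'
      · exact absurd (conj_eq_one_iff.1 e') h.z_ne
      · exact e'
      · exact absurd e' (h.not_conj hF ha ha1 (Or.inl rfl) x)
      · exact absurd e' (h.not_conj hF ha ha1 (Or.inr rfl) x)
    refine hxn (Subgroup.mem_subgroupOf.2 (hmax _ hxz (h.norm_fix ha ha1 hJT hT hZ hnorm hxz) ?_))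
    exact hP2.to_le (sup_le hTP (Subgroup.zpowers_le.2 x.2))
  obtain ⟨u, hu⟩ := MulAction.exists_smul_eq ↥X S' S
  have hin : ∀ t ∈ T, (u : G) * g * t * ((u : G) * g)⁻¹ ∈ T := fun t ht => by
    have hm : (⟨g * t * g⁻¹, hTgX ⟨t, ht, rfl⟩⟩ : ↥X) ∈ (S' : Subgroup ↥X) :=
      hS' (Subgroup.mem_subgroupOf.2 ⟨t, ht, rfl⟩)
    have hm2 : u * ⟨g * t * g⁻¹, hTgX ⟨t, ht, rfl⟩⟩ * u⁻¹ ∈ (S : Subgroup ↥X) := by
      rw [← hu]; exact ⟨_, hm, rfl⟩
    have := hST _ hm2
    convert this using 1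
    show _ = (u : G) * (g * t * g⁻¹) * (u : G)⁻¹
    group
  set n := (u : G) * g
  have hn : ∀ t, t ∈ T ↔ n * t * n⁻¹ ∈ T := by
    have hmap : T.map (MulAut.conj n).toMonoidHom = T := Subgroup.eq_of_le_of_card_ge (by
      rintro _ ⟨t, ht, rfl⟩; exact hin t ht) (by rw [Subgroup.card_map_of_injective (MulAut.conj n).injective])
    refine fun t => ⟨hin t, fun ht => ?_⟩
    rw [← hmap] at ht
    obtain ⟨t', ht', e'⟩ := ht
    change n * t' * n⁻¹ = n * t * n⁻¹ at e'
    rwa [← mul_left_cancel (mul_right_cancel e')]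
  have hnz : n * z = z * n := by
    rw [← mul_inv_eq_iff_eq_mul]
    rcases hZ _ (hin z (hJT h.z_mem)) (fun t ht => by
      have h3 : n⁻¹ * t * n ∈ T := (hn _).2 (by simpa [mul_assoc] using ht)
      calc n * z * n⁻¹ * t = n * (z * (n⁻¹ * t * n)) * n⁻¹ := by group
        _ = t * (n * z * n⁻¹) := by rw [← (hT _ h3).1]; group) with e' | e' | e' | e'
    · exact absurd (conj_eq_one_iff.1 e') h.z_ne
    · exact e'
    · exact absurd e' (h.not_conj hF ha ha1 (Or.inl rfl) n)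
    · exact absurd e' (h.not_conj hF ha ha1 (Or.inr rfl) n)
  have h1 : n * a * n⁻¹ = z * a := by
    rw [show n * a * n⁻¹ = (u : G) * (g * a * g⁻¹) * (u : G)⁻¹ from by show (u : G) * g * a * ((u : G) * g)⁻¹ = _; group, e]
    exact mul_inv_eq_iff_eq_mul.2 (Subgroup.mem_centralizer_singleton_iff.1 u.2)
  rw [mul_inv_eq_iff_eq_mul.2 (h.norm_fix ha ha1 hJT hT hZ hn hnz)] at h1
  exact h.z_ne (mul_eq_right.1 h1.symm)

end Layer

end CfsgLib.Recognition.FiTwentyThree
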