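import Cfsg.Agent.Lib.Recognition.FiTwentyThree.TwinCore
import Cfsg.Agent.Lib.Recognition.FiTwentyThree.Fusion
import Cfsg.Agent.Lib.Recognition.USixCentral.Apply
import Cfsg.Agent.Lib.Recognition.USixCentral.Normalise
import Cfsg.Agent.Lib.Recognition.USixTwoOuter.Commuting
import Cfsg.Agent.Lib.Recognition.USixTwoOuter.OuterCoords

/-!
# Coordinates on the centraliser of an involution of `W`

The centraliser of `z` and `w`, modulo `W`, has natural coordinates: the element `c` of order three gives a map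
commuting with the operators and without fixed vectors, which excludes the fixed plane.
-/

set_option autoImplicit false
set_option linter.unusedSectionVars false
set_option linter.style.haveILetI false
set_option maxRecDepth 100000

universe u

namespace CfsgLib.Recognition.FiTwentyThree

open CfsgLib.Recognition.USixTwo (V4 q4 isoGroup)
open CfsgLib.Recognition.USixCentral (Outer4 Setting Onto exists_onto mem_cent_of order_two)
open CfsgLib.Recognition.USixTwoOuter (coreTwo V)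
open CfsgLib.ThreeTransp

variable {G : Type u} [Group G] [Finite G] {F : Type*} [Field F] [Fintype F]

theorem mem_inf_cent {z w x : G} :
    x ∈ Subgroup.centralizer ({z} : Set G) ⊓ Subgroup.centralizer ({w} : Set G) ↔ x * z = z * x ∧ x * w = w * x :=
  Subgroup.mem_inf.trans (and_congr Subgroup.mem_centralizer_singleton_iff Subgroup.mem_centralizer_singleton_iff)

/-- The elements of the automorphism group centralising the inner automorphisms. -/
theorem eq_one_of_comm_inn {P : Type*} [Group P] (hinj : Function.Injective (MulAut.conj : P →* MulAut P))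
    {n : MulAut P} (hn : ∀ s : P, n * MulAut.conj s = MulAut.conj s * n) : n = 1 := by
  refine MulEquiv.ext fun s => hinj ?_
  have h1 : MulAut.conj (n s) = n * MulAut.conj s * n⁻¹ := by
    ext x
    simp
  show MulAut.conj (n s) = MulAut.conj s
  rw [h1, hn, mul_inv_cancel_right]

namespace Layer

variable {z c : G} {J W : Subgroup G} {φ : ↥(Subgroup.centralizer ({z} : Set G)) →* MulAut (Cfsg.PSp 2 F)}
  (h : Layer z c J W φ)
include h

/-- Only the centre of `J` is centralised by `c` modulo the centre. -/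
theorem c_fix_centre {j : G} (hj : j ∈ J)
    (hu : c * j * c⁻¹ * j⁻¹ ∈ W ∨ z * (c * j * c⁻¹ * j⁻¹) ∈ W) : j ∈ W ∨ z * j ∈ W := by
  classical
  have hm : ∀ x : W, c * (x : G) * c⁻¹ * (x : G)⁻¹ ∈ W := fun x =>
    mul_mem (h.norm_W c h.c_z x x.2) (inv_mem x.2)
  let δ : W → W := fun x => ⟨_, hm x⟩
  have hinj : Function.Injective δ := by
    intro x y e
    have e' : c * (x : G) * c⁻¹ * (x : G)⁻¹ = c * (y : G) * c⁻¹ * (y : G)⁻¹ := congrArg Subtype.val e
    have h1 : c * ((y : G)⁻¹ * (x : G)) = (y : G)⁻¹ * (x : G) * c := by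
      refine mul_inv_eq_iff_eq_mul.1 ?_
      calc c * ((y : G)⁻¹ * (x : G)) * c⁻¹
          = (c * (y : G) * c⁻¹)⁻¹ * (c * (x : G) * c⁻¹ * (x : G)⁻¹) * x := by group
        _ = (y : G)⁻¹ * x := by rw [e']; group
    rcases h.c_fix _ (h.W_le (mul_mem (inv_mem y.2) x.2)) h1 with e1 | e1
    · exact Subtype.ext (inv_mul_eq_one.1 e1).symm
    · exact absurd (e1 ▸ mul_mem (inv_mem y.2) x.2) h.z_not
  obtain ⟨e, he, hε⟩ : ∃ e ∈ W, c * j * c⁻¹ * j⁻¹ = e ∨ c * j * c⁻¹ * j⁻¹ = z * e := by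
    rcases hu with hu | hu
    · exact ⟨_, hu, Or.inl rfl⟩
    · exact ⟨_, hu, Or.inr (by rw [← mul_assoc z z, h.zz, one_mul])⟩
  obtain ⟨x, hx⟩ := Finite.surjective_of_injective hinj ⟨e, he⟩
  have hx' : c * (x : G) * c⁻¹ * (x : G)⁻¹ = e := congrArg Subtype.val hx
  set j' := (x : G)⁻¹ * j with hj'
  have hjJ : j' ∈ J := mul_mem (inv_mem (h.W_le x.2)) hj
  have key : c * j' * c⁻¹ = j' ∨ c * j' * c⁻¹ = z * j' := by
    have e2 : c * j' * c⁻¹ = (x : G)⁻¹ * (c * (x : G) * c⁻¹ * (x : G)⁻¹)⁻¹ * (c * j * c⁻¹ * j⁻¹) * j := by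
      rw [hj']; group
    rcases hε with hε | hε <;> rw [hx', hε] at e2
    · exact Or.inl (by rw [e2, inv_mul_cancel_right])
    · refine Or.inr ?_
      rw [e2, ← mul_assoc ((x : G)⁻¹ * e⁻¹) z e, mul_assoc ((x : G)⁻¹) e⁻¹ z,
        show e⁻¹ * z = z * e⁻¹ from (h.W_z (inv_mem he)), ← mul_assoc ((x : G)⁻¹) z e⁻¹,
        h.W_z (inv_mem x.2), hj']
      group
  rcases key with key | key
  · rcases h.c_fix j' hjJ (mul_inv_eq_iff_eq_mul.1 key) with e1 | e1
    · exact Or.inl (by rw [show j = (x : G) by rw [← mul_one (x : G), ← e1, hj', mul_inv_cancel_left]]; exact x.2)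
    · refine Or.inr ?_
      rw [show j = (x : G) * z by rw [← e1, hj', mul_inv_cancel_left], h.W_z x.2, ← mul_assoc, h.zz, one_mul]
      exact x.2
  · exfalso
    have hz : c * z * c⁻¹ = z := by rw [h.c_z, mul_inv_cancel_right]
    have e3 : c * (c * (c * j' * c⁻¹) * c⁻¹) * c⁻¹ = z * z * z * j' := by
      rw [key, show c * (z * j') * c⁻¹ = c * z * c⁻¹ * (c * j' * c⁻¹) by group, hz, key,
        show c * (z * (z * j')) * c⁻¹ = c * z * c⁻¹ * (c * z * c⁻¹) * (c * j' * c⁻¹) by group, hz, key]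
      group
    rw [conj_three h.c3, h.zz, one_mul] at e3
    exact h.z_ne (mul_eq_right.1 e3.symm)

/-- Coordinates on `J` modulo its centre for the centraliser of `z` and `w`. -/
theorem exists_coords (hF : Fintype.card F = 3) {w : G} (hw : w ∈ W) (hw1 : w ≠ 1) :
    ∃ (π : G → V4) (ψ : ↥(Subgroup.centralizer ({z} : Set G) ⊓ Subgroup.centralizer ({w} : Set G)) →*
        (V4 ≃ₗ[ZMod 2] V4)),
      (∀ j ∈ J, ∀ k ∈ J, π (j * k) = π j + π k) ∧ (∀ v, ∃ j ∈ J, π j = v) ∧
      (∀ j ∈ J, π j = 0 ↔ (j ∈ W ∨ z * j ∈ W)) ∧ (∀ j ∈ J, q4 (π j) = 0 ↔ j * j = 1) ∧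
      (∀ (d : ↥(Subgroup.centralizer ({z} : Set G) ⊓ Subgroup.centralizer ({w} : Set G))), ∀ j ∈ J,
        π (d * j * (d : G)⁻¹) = ψ d (π j)) ∧
      (∀ d, ψ d = 1 ↔ (d : G) ∈ J) ∧ Outer4 ψ.range := by
  classical
  haveI := CfsgLib.Classical.psp_isSimpleGroup (F := F) 2 le_rfl (fun _ => hF.ge)
  obtain ⟨hS, hA⟩ := CfsgLib.Recognition.USixTwoOuter.card_aut_psp_three hF
  have hinjP := CfsgLib.KnownC.AutPSp.conj_injective_psp (F := F) (m := 2) (by norm_num)
  set D := Subgroup.centralizer ({z} : Set G) ⊓ Subgroup.centralizer ({w} : Set G) with hD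
  have hJD : J ≤ D := fun j hj => mem_inf_cent.2 ⟨h.J_z j hj, (h.W_cent w hw j hj).symm⟩
  have hDz : ∀ d : ↥D, (d : G) * z = z * d := fun d => (mem_inf_cent.1 d.2).1
  have hDw : ∀ d : ↥D, (d : G) * w = w * d := fun d => (mem_inf_cent.1 d.2).2
  -- the group modulo `W`
  haveI hWn : (W.subgroupOf D).Normal := ⟨fun x hx d => Subgroup.mem_subgroupOf.2 (by
    rw [Subgroup.coe_mul, Subgroup.coe_mul, Subgroup.coe_inv]
    exact h.norm_W d (hDz d) x (Subgroup.mem_subgroupOf.1 hx))⟩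
  obtain ⟨X1, iX, fX, q1, hq1, hk1⟩ : ∃ (X1 : Type u) (_ : Group X1) (_ : Finite X1) (q1 : ↥D →* X1),
      Function.Surjective q1 ∧ ∀ d, q1 d = 1 ↔ (d : G) ∈ W :=
    ⟨↥D ⧸ W.subgroupOf D, inferInstance, inferInstance, QuotientGroup.mk' _, QuotientGroup.mk'_surjective _,
      fun d => by rw [QuotientGroup.mk'_apply, QuotientGroup.eq_one_iff, Subgroup.mem_subgroupOf]⟩
  let zd : ↥D := ⟨z, hJD h.z_mem⟩
  set zb := q1 zd with hzb
  have hzc : ∀ x : X1, x * zb = zb * x := fun x => by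
    obtain ⟨d, rfl⟩ := hq1 x
    rw [hzb, ← map_mul, ← map_mul]
    exact congrArg q1 (Subtype.ext (hDz d))
  have hzb2 : zb * zb = 1 := by
    rw [hzb, ← map_mul, show zd * zd = 1 from Subtype.ext h.zz, map_one]
  have hzb1 : zb ≠ 1 := fun e => h.z_not ((hk1 zd).1 e)
  -- the action of the group
  set φD := φ.comp (Subgroup.inclusion (inf_le_left : D ≤ Subgroup.centralizer ({z} : Set G))) with hφD
  have hφs : Function.Surjective φD := fun s => by
    obtain ⟨g, hg⟩ := h.surj s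
    obtain ⟨d, hd, e⟩ := h.exists_fix hw hw1 g
    exact ⟨⟨d, mem_inf_cent.2 ⟨Subgroup.mem_centralizer_singleton_iff.1 d.2, hd⟩⟩, e.trans hg⟩
  have hφk : ∀ d : ↥D, φD d = 1 ↔ (d : G) ∈ J := fun d => by
    constructor
    · exact fun e => h.fix_ker hw hw1 (hDw d) e
    · exact fun e => (h.ker _).2 ⟨0, by simpa using e⟩
  set φ1' := q1.liftOfSurjective hq1 ⟨φD, fun d hd => MonoidHom.mem_ker.2
    ((hφk d).2 (h.W_le ((hk1 d).1 (MonoidHom.mem_ker.1 hd))))⟩ with hφ1'
  have hlift1 : ∀ d, φ1' (q1 d) = φD d := fun d => MonoidHom.liftOfRightInverse_comp_apply _ _ _ _ d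
  set C1 := Subgroup.centralizer ({zb} : Set X1) with hC1
  have hC1top : ∀ x : X1, x ∈ C1 := fun x => Subgroup.mem_centralizer_singleton_iff.2 (hzc x)
  let r : ↥D →* ↥C1 := q1.codRestrict C1 fun d => hC1top _
  have hr : Function.Surjective r := fun x => by
    obtain ⟨d, hd⟩ := hq1 (x : X1)
    exact ⟨d, Subtype.ext hd⟩
  set φ1 := φ1'.comp C1.subtype with hφ1
  have hφ1r : ∀ d, φ1 (r d) = φD d := hlift1
  have hφ1s : Function.Surjective φ1 := fun s => by
    obtain ⟨d, rfl⟩ := hφs s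
    exact ⟨r d, hφ1r d⟩
  have hkmem : ∀ d, r d ∈ φ1.ker ↔ (d : G) ∈ J := fun d => by rw [MonoidHom.mem_ker, hφ1r, hφk]
  have hexk : ∀ x ∈ φ1.ker, ∃ j : ↥J, r ⟨j, hJD j.2⟩ = x := fun x hx => by
    obtain ⟨d, rfl⟩ := hr x
    exact ⟨⟨d, (hkmem d).1 hx⟩, rfl⟩
  have hreq : ∀ d e : ↥D, r d = r e ↔ (d : G)⁻¹ * e ∈ W := fun d e => by
    rw [← inv_mul_eq_one (a := r d), ← map_inv, ← map_mul, ← Subtype.coe_inj]
    exact hk1 _
  have hc512 : Nat.card φ1.ker = 512 := by
    let f : ↥J →* ↥φ1.ker :=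
      (r.comp (Subgroup.inclusion hJD)).codRestrict _ fun j => (hkmem _).2 j.2
    have hf : Function.Surjective f := fun x => by
      obtain ⟨j, hj⟩ := hexk x x.2
      exact ⟨j, Subtype.ext hj⟩
    have hk : f.ker = W.subgroupOf J := by
      ext j
      rw [MonoidHom.mem_ker, Subgroup.mem_subgroupOf, ← Subtype.coe_inj, ← Subtype.coe_inj]
      exact hk1 _
    have h1 := f.ker.card_mul_index
    rw [Subgroup.index_ker, MonoidHom.range_eq_top.2 hf, Subgroup.card_top, hk,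
      Nat.card_congr (Subgroup.subgroupOfEquivOfLe h.W_le).toEquiv, h.card_W, h.card_J] at h1
    omega
  let zc : ↥C1 := r zd
  have hE : Cfsg.IsExtraspecial 2 ↥φ1.ker := by
    refine CfsgLib.Recognition.USixCentral.extraspecial_nine (w := zc) hc512 (Subtype.ext hzb2)
      ((hkmem _).2 h.z_mem) (fun x _ => Subtype.ext (hzc x)) (fun x hx y hy => ?_) (fun x hx hall => ?_)
    · obtain ⟨j, rfl⟩ := hexk x hx
      obtain ⟨k, rfl⟩ := hexk y hy
      show _ ∨ _ = r zd * _
      simp only [← map_mul]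
      exact (h.comm j j.2 k k.2).imp (fun e => congrArg r (Subtype.ext e)) fun e => congrArg r (Subtype.ext e)
    · obtain ⟨j, rfl⟩ := hexk x hx
      have hcomm : ∀ k ∈ J, (j : G) * k = k * j := fun k hk => by
        rcases h.comm j j.2 k hk with e | e
        · exact e
        exfalso
        have h1 := hall _ ((hkmem ⟨k, hJD hk⟩).2 hk)
        rw [← map_mul, ← map_mul, hreq] at h1
        simp only [Subgroup.coe_mul] at h1
        refine h.z_not ?_
        rwa [e, mul_inv_rev, mul_assoc, inv_eq_of_mul_eq_one_right h.zz, ← h.J_z _ (mul_mem hk j.2),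
          ← mul_assoc, inv_mul_cancel, one_mul] at h1
      rcases h.centre j j.2 hcomm with e | e
      · exact Or.inl (Subtype.ext ((hk1 _).2 e))
      · refine Or.inr ((hreq _ _).2 ?_)
        show (j : G)⁻¹ * z ∈ W
        have h2 := inv_mem e
        rwa [mul_inv_rev, inv_eq_of_mul_eq_one_right h.zz] at h2
  have hker1 : Subgroup.centralizer (φ1.ker : Set ↥C1) ≤ φ1.ker := fun x hx => by
    obtain ⟨d, rfl⟩ := hr x
    refine (hkmem d).2 (h.ker_centre hF (hDz d) fun j hj => Or.inl ?_)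
    have h1 := Subgroup.mem_centralizer_iff.1 hx _ ((hkmem ⟨j, hJD hj⟩).2 hj)
    rw [← map_mul, ← map_mul, hreq] at h1
    simp only [Subgroup.coe_mul] at h1
    have h2 := h.norm_W _ ((Commute.mul_left (h.J_z j hj) (hDz d))).eq _ h1
    convert h2 using 1
    group
  have hInn : Cfsg.Inn (Cfsg.PSp 2 F) ≤ φ1.range := by
    rw [MonoidHom.range_eq_top.2 hφ1s]; exact le_top
  have h2p : IsPGroup 2 φ1.ker := IsPGroup.of_card (n := 9) (by rw [hc512]; rfl)
  have hP := CfsgLib.Recognition.USixCentral.pCore_eq_ker hF φ1.ker φ1 rfl hInn h2p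
  have e1 := (QuotientGroup.quotientMulEquivOfEq hP).trans (QuotientGroup.quotientKerEquivOfSurjective φ1 hφ1s)
  obtain ⟨K, φ40, hyp, hKn, hKidx, hKc⟩ := CfsgLib.Recognition.USixTwoOuter.hyp_of_aut zb (order_two hzb2 hzb1)
    (hP.symm ▸ hE) (hP.symm ▸ (hc512.trans (by norm_num))) (hP.symm ▸ hker1) hF e1
  set Jb := coreTwo zb with hJb
  have hJbmem : ∀ d, q1 d ∈ Jb ↔ (d : G) ∈ J := fun d => by
    rw [← hkmem d, ← hP]
    exact Subgroup.mem_map_iff_mem (x := r d) C1.subtype_injective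
  obtain ⟨f⟩ : Nonempty (ExtraspecialOut.Frame ↥Jb 8) := by
    obtain ⟨k, ⟨f⟩⟩ := ExtraspecialOut.exists_frame hyp.extra.ext
    have hk8 : k = 8 := by
      have hk := ExtraspecialOut.card_E f
      rw [hyp.card_J] at hk
      have : 2 ^ k = 2 ^ 8 := by omega
      exact Nat.pow_right_injective le_rfl this
    exact ⟨hk8 ▸ f⟩
  have hfz : (f.z : X1) = zb := by
    rcases hyp.extra.mem_center_cases f.z.2 (fun q hq => congrArg Subtype.val (f.z_comm ⟨q, hq⟩)) with e' | e'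
    · exact absurd (Subtype.ext e') f.z_ne
    · exact e'
  -- conjugation by `c`
  let π1 : ↥J →* ↥Jb := (q1.comp (Subgroup.inclusion hJD)).codRestrict Jb fun j => (hJbmem _).2 j.2
  have hπ1 : Function.Surjective π1 := fun x => by
    obtain ⟨d, hd⟩ := hq1 (x : X1)
    exact ⟨⟨d, (hJbmem d).1 (hd ▸ x.2)⟩, Subtype.ext hd⟩
  have hπ1eq : ∀ j k : ↥J, π1 j = π1 k ↔ (j : G)⁻¹ * k ∈ W := fun j k => by
    rw [← Subtype.coe_inj, ← inv_mul_eq_one]
    show (q1 _)⁻¹ * q1 _ = 1 ↔ _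
    rw [← map_inv, ← map_mul]
    exact hk1 _
  let cj : ↥J →* ↥J :=
    { toFun := fun j => ⟨c * j * c⁻¹, h.norm c h.c_z j j.2⟩
      map_one' := Subtype.ext (by simp)
      map_mul' := fun j k => Subtype.ext (by simp [mul_assoc]) }
  set α := π1.liftOfSurjective hπ1 ⟨π1.comp cj, fun j hj => by
    have h1 : π1 j = π1 1 := (MonoidHom.mem_ker.1 hj).trans (map_one π1).symm
    rw [hπ1eq] at h1
    refine MonoidHom.mem_ker.2 ?_
    rw [MonoidHom.comp_apply, ← map_one π1, hπ1eq]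
    show (c * (j : G) * c⁻¹)⁻¹ * (1 : G) ∈ W
    have h2 := h.norm_W c h.c_z _ h1
    rw [OneMemClass.coe_one] at h2
    convert h2 using 1
    group⟩ with hα
  have hαj : ∀ j, α (π1 j) = π1 (cj j) := fun j => MonoidHom.liftOfRightInverse_comp_apply _ _ _ _ j
  have hαs : Function.Surjective α := fun x => by
    obtain ⟨j, rfl⟩ := hπ1 x
    refine ⟨π1 ⟨c⁻¹ * j * c, ?_⟩, ?_⟩
    · have := h.norm c⁻¹ (Commute.inv_left h.c_z) j j.2
      rwa [inv_inv] at this
    · rw [hαj]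
      refine congrArg π1 (Subtype.ext ?_)
      show c * (c⁻¹ * (j : G) * c) * c⁻¹ = j
      group
  set αE : MulAut ↥Jb := MulEquiv.ofBijective α ⟨Finite.injective_iff_surjective.2 hαs, hαs⟩ with hαE
  set Cv : V →ₗ[ZMod 2] V := ((ExtraspecialOut.toO f) αE).1.toLinearMap with hCv
  have hCv1 : ∀ j : ↥J, Cv (f.π (π1 j)) = f.π (π1 (cj j)) := fun j => by
    rw [← hαj]; exact ExtraspecialOut.toO_apply f αE (π1 j)
  have hfix : ∀ v, Cv v = v → v = 0 := by
    intro v hv
    obtain ⟨x, rfl⟩ := f.π_surj v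
    obtain ⟨j, rfl⟩ := hπ1 x
    rw [hCv1] at hv
    have h1 : f.π (π1 (cj j) * (π1 j)) = 0 := by
      rw [f.π_mul, hv]
      funext i
      exact CharTwo.add_self_eq_zero _
    have hjinv : (j : G) * (j : G) = z → (j : G)⁻¹ = (j : G) * z := fun s => by
      rw [inv_eq_iff_mul_eq_one, ← mul_assoc, s, h.zz]
    have hjz : (j : G) ∈ W ∨ z * (j : G) ∈ W := by
      refine h.c_fix_centre j.2 ?_
      have hm : c * (j : G) * c⁻¹ * j ∈ J := mul_mem (h.norm c h.c_z _ j.2) j.2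
      obtain ⟨u, hu, hu'⟩ : ∃ u, (u = 1 ∨ u = z) ∧ u * (c * (j : G) * c⁻¹ * j) ∈ W := by
        rcases (f.π_ker _).1 h1 with e | e
        · rw [← map_mul, ← map_one π1, hπ1eq] at e
          have e' : (c * (j : G) * c⁻¹ * (j : G))⁻¹ * 1 ∈ W := e
          rw [mul_one, inv_mem_iff] at e'
          exact ⟨1, Or.inl rfl, by rw [one_mul]; exact e'⟩
        · have e0 : π1 (cj j * j) = π1 ⟨z, h.z_mem⟩ := ((map_mul π1 _ _).trans e).trans (Subtype.ext hfz)
          rw [hπ1eq] at e0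
          have e' : (c * (j : G) * c⁻¹ * (j : G))⁻¹ * z ∈ W := e0
          have e'' := inv_mem e'
          rw [mul_inv_rev, inv_inv, inv_eq_of_mul_eq_one_right h.zz] at e''
          exact ⟨z, Or.inr rfl, e''⟩
      rcases h.sq (j : G) j.2 with s | s
      · rw [inv_eq_of_mul_eq_one_right s]
        rcases hu with rfl | rfl
        · rw [one_mul] at hu'; exact Or.inl hu'
        · exact Or.inr hu'
      · rw [hjinv s, ← mul_assoc (c * (j : G) * c⁻¹), h.J_z _ hm]
        rcases hu with rfl | rfl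
        · rw [one_mul] at hu'
          exact Or.inr (by rw [← mul_assoc, h.zz, one_mul]; exact hu')
        · exact Or.inl hu'
    rcases hjz with hjz | hjz
    · rw [show π1 j = 1 by rw [← map_one π1, hπ1eq, OneMemClass.coe_one, mul_one]; exact inv_mem hjz]
      exact (f.π_ker 1).2 (Or.inl rfl)
    · refine (f.π_ker _).2 (Or.inr ((?_ : π1 j = π1 ⟨z, h.z_mem⟩).trans (Subtype.ext hfz.symm)))
      rw [hπ1eq]
      show (j : G)⁻¹ * z ∈ W
      have h2 := inv_mem hjz
      rwa [mul_inv_rev, inv_eq_of_mul_eq_one_right h.zz] at h2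
  have hCinj : Function.Injective Cv := ((ExtraspecialOut.toO f) αE).1.injective
  -- `K` is the preimage of the inner automorphisms
  have hKC : K ≤ C1 := fun k hk => hC1top k
  have hcardK := CfsgLib.Recognition.USixTwoOuter.card_eq_of_hyp hyp
  have hKinn : ∀ k : X1, ∀ hk : k ∈ K, φ1 ⟨k, hC1top k⟩ ∈ Cfsg.Inn (Cfsg.PSp 2 F) := by
    have hidx : (K.subgroupOf C1).index = 2 := by
      have h1 := (K.subgroupOf C1).card_mul_index
      rw [Nat.card_congr (Subgroup.subgroupOfEquivOfLe hKC).toEquiv, hKidx, mul_comm 2] at h1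
      exact Nat.eq_of_mul_eq_mul_left Nat.card_pos h1
    have hle : Cfsg.Inn (Cfsg.PSp 2 F) ≤ (K.subgroupOf C1).map φ1 := by
      refine CfsgLib.Recognition.USixCentral.inn_le_of_parity hF fun a b ha hb => ?_
      obtain ⟨x, rfl⟩ := hφ1s a
      obtain ⟨y, rfl⟩ := hφ1s b
      rw [← map_mul]
      exact Subgroup.mem_map_of_mem φ1 ((Subgroup.mul_mem_iff_of_index_two hidx).2
        (iff_of_false (fun e => ha (Subgroup.mem_map_of_mem φ1 e)) (fun e => hb (Subgroup.mem_map_of_mem φ1 e))))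
    rcases CfsgLib.Recognition.USixCentral.range_cases hF hle with e | e
    · exact fun k hk => e ▸ Subgroup.mem_map_of_mem φ1 (Subgroup.mem_subgroupOf.2 hk)
    · exfalso
      have htop : K.subgroupOf C1 = ⊤ := eq_top_iff.2 fun x _ => by
        obtain ⟨y, hy, e'⟩ : φ1 x ∈ (K.subgroupOf C1).map φ1 := e ▸ Subgroup.mem_top _
        have h1 : y⁻¹ * x ∈ φ1.ker := MonoidHom.mem_ker.2 (by rw [map_mul, map_inv, e', inv_mul_cancel])
        rw [← hP] at h1
        have h2 : ((y⁻¹ * x : ↥C1) : X1) ∈ K := hyp.J_le ⟨_, h1, rfl⟩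
        have := mul_mem (Subgroup.mem_subgroupOf.1 hy) h2
        rw [Subgroup.coe_mul, Subgroup.coe_inv, mul_inv_cancel_left] at this
        exact this
      rw [htop, Subgroup.index_top] at hidx
      omega
  obtain ⟨k, hk, hops⟩ := CfsgLib.Recognition.USixTwoOuter.exists_ops hyp f
  have hcomm : ∀ i x, Cv ((CfsgLib.Recognition.USixTwoOuter.lin f hyp K hyp.K_le (k i)).toLinearMap x) =
      (CfsgLib.Recognition.USixTwoOuter.lin f hyp K hyp.K_le (k i)).toLinearMap (Cv x) := by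
    intro i v
    obtain ⟨x, rfl⟩ := f.π_surj v
    obtain ⟨j, rfl⟩ := hπ1 x
    obtain ⟨d, hd⟩ := hq1 (k i : X1)
    have hdi : φ ⟨d, (mem_inf_cent.1 d.2).1 |> Subgroup.mem_centralizer_singleton_iff.2⟩ ∈
        Cfsg.Inn (Cfsg.PSp 2 F) := by
      have h1 := hKinn _ (k i).2
      have e : (⟨(k i : X1), hC1top _⟩ : ↥C1) = r d := Subtype.ext hd.symm
      rw [e, hφ1r] at h1
      exact h1
    have hinn := h.inner _ hdi
    change (d : G) * c * (d : G)⁻¹ * c⁻¹ ∈ J at hinn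
    set p := (d : G) * c * (d : G)⁻¹ * c⁻¹ with hp
    have hdj : ∀ u : ↥J, (d : G) * u * (d : G)⁻¹ ∈ J := fun u => h.norm d (hDz d) u u.2
    have hlk : ∀ u : ↥J, CfsgLib.Recognition.USixTwoOuter.lin f hyp K hyp.K_le (k i) (f.π (π1 u)) =
        f.π (π1 ⟨_, hdj u⟩) := fun u => by
      rw [CfsgLib.Recognition.USixTwoOuter.lin_apply hyp f]
      refine congrArg f.π (Subtype.ext ?_)
      show (k i : X1) * q1 _ * (k i : X1)⁻¹ = q1 _
      rw [← hd, ← map_inv, ← map_mul, ← map_mul]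
      rfl
    show Cv (CfsgLib.Recognition.USixTwoOuter.lin f hyp K hyp.K_le (k i) (f.π (π1 j))) =
      CfsgLib.Recognition.USixTwoOuter.lin f hyp K hyp.K_le (k i) (Cv (f.π (π1 j)))
    rw [hlk, hCv1, hCv1, hlk]
    set u : ↥J := cj ⟨_, hdj j⟩
    set v : ↥J := ⟨_, hdj (cj j)⟩
    have huv : (v : G) = p * u * p⁻¹ := by
      show (d : G) * (c * j * c⁻¹) * (d : G)⁻¹ = p * (c * ((d : G) * j * (d : G)⁻¹) * c⁻¹) * p⁻¹
      rw [hp]; group
    have hv : v = ⟨p, hinn⟩ * u * (⟨p, hinn⟩ : ↥J)⁻¹ := Subtype.ext huv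
    rw [hv, map_mul, map_mul, map_inv, f.π_mul, f.π_mul]
    have hinv : f.π (π1 ⟨p, hinn⟩)⁻¹ = f.π (π1 ⟨p, hinn⟩) := by
      have h1 := f.π_mul (π1 ⟨p, hinn⟩) (π1 ⟨p, hinn⟩)⁻¹
      rw [mul_inv_cancel, (f.π_ker 1).2 (Or.inl rfl)] at h1
      exact ((eq_neg_of_add_eq_zero_right h1.symm).trans (ZModModule.neg_eq_self _))
    rw [hinv, add_comm, ← add_assoc, ZModModule.add_self, zero_add]
  obtain ⟨x, hx⟩ := CfsgLib.Recognition.USixTwoOuter.seed_of_commuting hops
    (CfsgLib.Recognition.USixTwoOuter.exists_moved hyp f k hk) hcomm hCinj hfix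
  obtain ⟨e, heq, hiso⟩ := CfsgLib.Recognition.USixTwoOuter.natural_of_seed hyp f k hk hops hx
  obtain ⟨π, ψ, ho⟩ := CfsgLib.Recognition.USixTwoOuter.exists_outer hyp f e heq hiso hKn hKidx hKc
  obtain ⟨m, hm, h4⟩ := CfsgLib.Recognition.USixCentral.exists_scalar ho.model (by
    rintro _ ⟨x, rfl⟩ hx
    refine (ho.ker x).2 ?_
    suffices hx1 : φ1 x = 1 by
      have h1 : x ∈ Cfsg.pCore 2 ↥C1 := hP.symm ▸ (MonoidHom.mem_ker.2 hx1)
      exact ⟨x, h1, rfl⟩
    refine eq_one_of_comm_inn hinjP fun s => ?_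
    have hle : Cfsg.Inn (Cfsg.PSp 2 F) ≤ (isoGroup.comap ψ).map φ1 := by
      refine CfsgLib.Recognition.USixCentral.inn_le_of_parity hF fun a b ha hb => ?_
      obtain ⟨y, rfl⟩ := hφ1s a
      obtain ⟨y', rfl⟩ := hφ1s b
      rw [← map_mul]
      refine Subgroup.mem_map_of_mem φ1 ?_
      have key : ∀ y, φ1 y ∉ (isoGroup.comap ψ).map φ1 → CfsgLib.Recognition.USixTwoOuter.Anti (ψ y) :=
        fun y hy => (ho.model.semi _ ⟨y, rfl⟩).resolve_left fun e =>
          hy (Subgroup.mem_map_of_mem φ1 (⟨e, ho.model.quad _ ⟨y, rfl⟩⟩ : ψ y ∈ isoGroup))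
      refine (⟨fun v => ?_, ho.model.quad _ ⟨_, rfl⟩⟩ : ψ (y * y') ∈ isoGroup)
      rw [map_mul]
      show ψ y (ψ y' (CfsgLib.Recognition.USixTwo.omV v)) = CfsgLib.Recognition.USixTwo.omV (ψ y (ψ y' v))
      rw [key y' hb v, key y ha, key y ha, CfsgLib.Recognition.USixTwoOuter.omV_cube]
    obtain ⟨y, hy, ey⟩ := hle ⟨s, rfl⟩
    rw [← ey]
    refine mul_inv_eq_one.1 ?_
    rw [← map_mul, ← map_mul, ← map_inv, ← map_mul]
    refine MonoidHom.mem_ker.1 (?_ : _ ∈ φ1.ker)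
    have h1 : ψ (x * y * (y * x)⁻¹) = 1 := by
      rw [map_mul, map_inv, map_mul, map_mul, mul_inv_eq_one]
      exact hx (ψ y) ⟨y, rfl⟩ hy
    have h2 := (ho.ker _).1 h1
    obtain ⟨t, ht, et⟩ := h2
    rw [← hP]
    have et2 : t = x * y * (y * x)⁻¹ := C1.subtype_injective et
    rw [← et2]
    exact ht)
  set π0 : G → V4 := fun g => if hg : g ∈ D then m (π (q1 ⟨g, hg⟩)) else 0 with hπ0
  have hπd : ∀ d : ↥D, π0 d = m (π (q1 d)) := fun d => dif_pos d.2
  have hπJ : ∀ g (hg : g ∈ J), π0 g = m (π (q1 ⟨g, hJD hg⟩)) := fun g hg => dif_pos (hJD hg)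
  set ψ0 := (MulAut.conj m).toMonoidHom.comp (ψ.comp r) with hψ0
  have hqJ : ∀ g (hg : g ∈ J), q1 ⟨g, hJD hg⟩ ∈ Jb := fun g hg => (hJbmem _).2 hg
  refine ⟨π0, ψ0, fun j hj k hk => ?_, fun v => ?_, fun j hj => ?_, fun j hj => ?_, fun d j hj => ?_, fun d => ?_, ?_⟩
  · rw [hπJ _ (mul_mem hj hk), hπJ _ hj, hπJ _ hk, ← map_add, ← ho.π_mul _ (hqJ j hj) _ (hqJ k hk), ← map_mul]
    rfl
  · obtain ⟨x, hx, e'⟩ := ho.π_surj (m.symm v)
    obtain ⟨d, rfl⟩ := hq1 x
    exact ⟨d, (hJbmem d).1 hx, by rw [hπd, e', m.apply_symm_apply]⟩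
  · rw [hπJ _ hj, LinearEquiv.map_eq_zero_iff, ho.π_ker _ (hqJ j hj), hk1, hzb, ← inv_mul_eq_one,
      ← map_inv, ← map_mul, hk1]
    show j ∈ W ∨ j⁻¹ * z ∈ W ↔ j ∈ W ∨ z * j ∈ W
    rw [← inv_mem_iff (H := W) (x := z * j), mul_inv_rev, inv_eq_of_mul_eq_one_right h.zz]
  · rw [hπJ _ hj, hm, ho.q_iff _ (hqJ j hj), ← map_mul, hk1]
    show j * j ∈ W ↔ j * j = 1
    refine ⟨fun e' => (h.sq j hj).resolve_right fun e'' => h.z_not (e'' ▸ e'), fun e' => e'.symm ▸ one_mem W⟩
  · have e' : (d : G) * j * (d : G)⁻¹ = ((d * ⟨j, hJD hj⟩ * d⁻¹ : ↥D) : G) := rfl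
    rw [e', hπd, hπJ _ hj, map_mul, map_mul, map_inv]
    have h1 := ho.act (r d) _ (hqJ j hj)
    change m (π ((r d : X1) * q1 ⟨j, hJD hj⟩ * (r d : X1)⁻¹)) = m (ψ (r d) (m.symm (m (π (q1 ⟨j, hJD hj⟩)))))
    rw [m.symm_apply_apply, h1]
  · rw [hψ0, MonoidHom.comp_apply, MonoidHom.comp_apply]
    show MulAut.conj m (ψ (r d)) = 1 ↔ _
    rw [MulEquiv.map_eq_one_iff, ho.ker]
    exact hJbmem d
  · have e' : ψ0.range = ψ.range.map (MulAut.conj m).toMonoidHom := by
      rw [hψ0, MonoidHom.range_comp, MonoidHom.range_comp, MonoidHom.range_eq_top.2 hr, ← MonoidHom.range_eq_map]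
    rw [e']
    exact h4

/-- The coordinates on the centraliser of `w` modulo `w`. -/
theorem quotAt (hF : Fintype.card F = 3) {w a : G} (hw : w ∈ W) (hw1 : w ≠ 1) (ha : a ∈ W) (ha1 : a ≠ 1)
    (hne : a ≠ w) : QuotAt z J w a := by
  classical
  set D := Subgroup.centralizer ({z} : Set G) ⊓ Subgroup.centralizer ({w} : Set G) with hD
  obtain ⟨π0, ψ0, hmul, hsurj, hker0, hq0, hact, hψk, h4⟩ := h.exists_coords hF hw hw1
  have hJw : ∀ j ∈ J, j ∈ Subgroup.centralizer ({w} : Set G) := fun j hj => mem_cent_of (h.W_cent w hw j hj).symm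
  obtain ⟨Q, iQ, fQ, q, hq⟩ := exists_onto w (order_two (h.W_sq w hw) hw1)
  have hzw := hJw z h.z_mem
  have haw := hJw a (h.W_le ha)
  set zq := q ⟨z, hzw⟩ with hzq
  set aq := q ⟨a, haw⟩ with haq
  set Jq := (J.subgroupOf (Subgroup.centralizer ({w} : Set G))).map q with hJq
  set C := Subgroup.centralizer ({zq} : Set Q) with hC
  -- the centraliser of the image of `z`
  let r : ↥D →* ↥C :=
    (q.comp (Subgroup.inclusion (inf_le_right : D ≤ Subgroup.centralizer ({w} : Set G)))).codRestrict C fun d => by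
      refine Subgroup.mem_centralizer_singleton_iff.2 ?_
      show q _ * zq = zq * q _
      rw [hzq, ← map_mul, ← map_mul]
      exact congrArg q (Subtype.ext (mem_inf_cent.1 d.2).1)
  have hr : Function.Surjective r := by
    rintro ⟨x, hx⟩
    obtain ⟨g, rfl⟩ := hq.surj x
    have h1 := Subgroup.mem_centralizer_singleton_iff.1 hx
    rw [hzq, ← map_mul, ← map_mul, hq.eq_iff] at h1
    simp only [Subgroup.coe_mul] at h1
    rcases h1 with e | e
    · exact ⟨⟨g, mem_inf_cent.2 ⟨e.symm, Subgroup.mem_centralizer_singleton_iff.1 g.2⟩⟩, rfl⟩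
    · exfalso
      refine h.not_conj hF hw hw1 (x := z * w) (Or.inr rfl) (g : G)⁻¹ ?_
      rw [inv_inv, mul_assoc, e, mul_assoc (g : G) z w, inv_mul_cancel_left]
  have hrk : ∀ d, r d = 1 ↔ (d : G) = 1 ∨ (d : G) = w := fun d => by
    rw [← Subtype.coe_inj]
    exact hq.ker _
  set ψ := r.liftOfSurjective hr ⟨ψ0, fun d hd => MonoidHom.mem_ker.2 ((hψk d).2 (by
    rcases (hrk d).1 (MonoidHom.mem_ker.1 hd) with e | e <;> rw [e]
    · exact one_mem J
    · exact h.W_le hw))⟩ with hψ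
  have hψr : ∀ d, ψ (r d) = ψ0 d := fun d => MonoidHom.liftOfRightInverse_comp_apply _ _ _ _ d
  set π : Q → V4 := fun y => if hy : ∃ g : ↥(Subgroup.centralizer ({w} : Set G)), (g : G) ∈ J ∧ q g = y then
    π0 (hy.choose : G) else 0 with hπ
  have hπq : ∀ j (hj : j ∈ J), π (q ⟨j, hJw j hj⟩) = π0 j := fun j hj => by
    have hy : ∃ g : ↥(Subgroup.centralizer ({w} : Set G)), (g : G) ∈ J ∧ q g = q ⟨j, hJw j hj⟩ := ⟨_, hj, rfl⟩
    have h1 : π (q ⟨j, hJw j hj⟩) = π0 (hy.choose : G) := dif_pos hy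
    rw [h1]
    obtain ⟨hgJ, hgq⟩ := hy.choose_spec
    rcases hq.eq_iff.1 hgq with e | e
    · exact congrArg π0 e.symm
    · rw [show π0 j = π0 ((hy.choose : G) * w) from congrArg π0 e, hmul _ hgJ _ (h.W_le hw), (hker0 w (h.W_le hw)).2 (Or.inl hw), add_zero]
  have hmemq : ∀ y ∈ Jq, ∃ j, ∃ hj : j ∈ J, q ⟨j, hJw j hj⟩ = y := by
    rintro _ ⟨⟨j, hjm⟩, hj, rfl⟩
    exact ⟨j, hj, rfl⟩
  have hmk : ∀ j (hj : j ∈ J), q ⟨j, hJw j hj⟩ ∈ Jq := fun j hj => ⟨_, hj, rfl⟩
  have hord : ∀ x (hx : x ∈ J), x * x = 1 → x ≠ 1 → x ≠ w → orderOf (q ⟨x, hJw x hx⟩) = 2 := fun x hx h2 h1 hxw =>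
    order_two (by rw [← map_mul, show (⟨x, hJw x hx⟩ : ↥(Subgroup.centralizer ({w} : Set G))) * ⟨x, hJw x hx⟩ = 1
      from Subtype.ext h2, map_one]) fun e => by
        rcases (hq.ker _).1 e with e' | e'
        · exact h1 e'
        · exact hxw e'
  have hzne : z ≠ w := fun e => h.z_not (e ▸ hw)
  have hWle : ∀ x ∈ W, x = 1 ∨ x = w ∨ x = a ∨ x = w * a := by
    intro x hx
    by_contra hc
    simp only [not_or] at hc
    obtain ⟨c1, c2, c3, c4⟩ := hc
    have n1 : w * a ≠ 1 := fun e => hne (by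
      rw [← inv_eq_of_mul_eq_one_right (h.W_sq w hw), inv_eq_of_mul_eq_one_right e])
    have n2 : w * a ≠ w := fun e => ha1 (mul_eq_left.1 e)
    have n3 : w * a ≠ a := fun e => hw1 (mul_eq_right.1 e)
    have hsub : ({1, w, a, w * a, x} : Set G) ⊆ (W : Set G) := by
      intro y hy
      rcases hy with rfl | rfl | rfl | rfl | rfl
      exacts [one_mem _, hw, ha, mul_mem hw ha, hx]
    have hs : ({1, w, a, w * a, x} : Set G).ncard = 5 := by
      rw [Set.ncard_insert_of_notMem, Set.ncard_insert_of_notMem, Set.ncard_insert_of_notMem, Set.ncard_pair]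
      · exact Ne.symm c4
      all_goals simp [hw1.symm, ha1.symm, n1.symm, Ne.symm c1, hne.symm, n2.symm, Ne.symm c2, n3.symm, Ne.symm c3]
    have := Set.ncard_le_ncard hsub (Set.toFinite _)
    rw [hs, ← Nat.card_coe_set_eq] at this
    change 5 ≤ Nat.card W at this
    rw [h.card_W] at this
    omega
  have hwaw : w * a * w = a := by rw [mul_assoc, ← h.W_cent w hw a (h.W_le ha), ← mul_assoc, h.W_sq w hw, one_mul]
  refine ⟨Q, iQ, fQ, q, hzw, haw, π, ψ, hq, ?_⟩
  refine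
    { ord_z := hord z h.z_mem h.zz h.z_ne hzne
      ord_a := hord a (h.W_le ha) (h.W_sq a ha) ha1 hne
      ne := fun e => ?_
      card_J := ?_
      z_mem := hmk z h.z_mem
      a_mem := hmk a (h.W_le ha)
      z_cent := fun y hy => ?_
      a_cent := fun y hy => ?_
      π_mul := fun y hy y' hy' => ?_
      π_surj := fun v => ?_
      π_ker := fun y hy => ?_
      sq := fun y hy => ?_
      norm := fun x hx y hy => ?_
      act := fun x y hy => ?_
      ker := fun x => ?_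
      outer := ?_ }
  · rcases hq.eq_iff.1 e with e' | e'
    · change z = a at e'
      exact h.z_not (e' ▸ ha)
    · change z = a * w at e'
      exact h.z_not (e' ▸ mul_mem ha hw)
  · show Nat.card Jq = 1024
    let f : ↥J →* ↥Jq := (q.comp (Subgroup.inclusion hJw)).codRestrict Jq fun j => hmk j j.2
    have hf : Function.Surjective f := fun x => by
      obtain ⟨j, hj, e⟩ := hmemq x x.2
      exact ⟨⟨j, hj⟩, Subtype.ext e⟩
    have hk : Nat.card f.ker = 2 := by
      have hs : ({1, w} : Set G).ncard = 2 := Set.ncard_pair hw1.symm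
      refine Eq.trans ?_ hs
      rw [← Nat.card_coe_set_eq]
      refine Nat.card_congr ⟨fun x => ⟨((x : ↥J) : G), (hq.ker _).1 (congrArg Subtype.val (MonoidHom.mem_ker.1 x.2))⟩,
        fun x => ⟨⟨x.1, ?_⟩, ?_⟩, fun x => rfl, fun x => rfl⟩
      · rcases x.2 with e | e <;> rw [show x.1 = _ from e]
        · exact one_mem _
        · exact h.W_le hw
      · exact MonoidHom.mem_ker.2 (Subtype.ext ((hq.ker _).2 x.2))
    have h1 := f.ker.card_mul_index
    rw [Subgroup.index_ker, MonoidHom.range_eq_top.2 hf, Subgroup.card_top, hk, h.card_J] at h1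
    omega
  · obtain ⟨j, hj, rfl⟩ := hmemq y hy
    rw [← map_mul, ← map_mul]
    exact congrArg q (Subtype.ext (h.J_z j hj))
  · obtain ⟨j, hj, rfl⟩ := hmemq y hy
    rw [← map_mul, ← map_mul]
    exact congrArg q (Subtype.ext (h.W_cent a ha j hj).symm)
  · obtain ⟨j, hj, rfl⟩ := hmemq y hy
    obtain ⟨k, hk, rfl⟩ := hmemq y' hy'
    rw [← map_mul, hπq j hj, hπq k hk, ← hmul j hj k hk, ← hπq _ (mul_mem hj hk)]
    rfl
  · obtain ⟨j, hj, e⟩ := hsurj v
    exact ⟨_, hmk j hj, by rw [hπq j hj, e]⟩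
  · obtain ⟨j, hj, rfl⟩ := hmemq y hy
    rw [hπq j hj, hker0 j hj]
    constructor
    · rintro (e | e)
      · rcases hWle _ e with e | e | e | e
        · exact Or.inl ((hq.ker _).2 (Or.inl e))
        · exact Or.inl ((hq.ker _).2 (Or.inr e))
        · exact Or.inr (Or.inr (Or.inl (congrArg q (Subtype.ext e))))
        · refine Or.inr (Or.inr (Or.inl (hq.eq_iff.2 (Or.inr ?_))))
          show a = j * w
          rw [e, hwaw]
      · have hjz : ∀ x, z * j = x → j = z * x := fun x e' => by rw [← e', ← mul_assoc, h.zz, one_mul]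
        rcases hWle _ e with e | e | e | e <;> have e' := hjz _ e
        · exact Or.inr (Or.inl (congrArg q (Subtype.ext (e'.trans (mul_one z)))))
        · refine Or.inr (Or.inl (hq.eq_iff.2 (Or.inr ?_)))
          show z = j * w
          rw [e', mul_assoc, h.W_sq w hw, mul_one]
        · refine Or.inr (Or.inr (Or.inr ?_))
          rw [← map_mul]
          exact congrArg q (Subtype.ext e')
        · refine Or.inr (Or.inr (Or.inr ?_))
          rw [← map_mul]
          refine hq.eq_iff.2 (Or.inr ?_)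
          show z * a = j * w
          rw [e', mul_assoc, hwaw]
    · intro e
      have hWor : ∀ x, (x ∈ W ∨ z * x ∈ W) → ((j : G) = x ∨ x = j * w) → (j ∈ W ∨ z * j ∈ W) := by
        intro x hx hjx
        have hj' : j = x ∨ j = x * w := hjx.imp id fun e' => by rw [e', mul_assoc, h.W_sq w hw, mul_one]
        rcases hj' with rfl | rfl
        · exact hx
        · exact hx.imp (fun e' => mul_mem e' hw) fun e' => by rw [← mul_assoc]; exact mul_mem e' hw
      rcases e with e | e | e | e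
      · rcases (hq.ker _).1 e with e' | e' <;> rw [show j = _ from e']
        · exact Or.inl (one_mem _)
        · exact Or.inl hw
      · rcases hq.eq_iff.1 e with e' | e'
        · exact hWor z (Or.inr (by rw [h.zz]; exact one_mem _)) (Or.inl (e' : z = j).symm)
        · exact hWor z (Or.inr (by rw [h.zz]; exact one_mem _)) (Or.inr e')
      · rcases hq.eq_iff.1 e with e' | e'
        · exact hWor a (Or.inl ha) (Or.inl (e' : a = j).symm)
        · exact hWor a (Or.inl ha) (Or.inr e')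
      · rw [← map_mul] at e
        rcases hq.eq_iff.1 e with e' | e'
        · exact hWor (z * a) (Or.inr (by rw [← mul_assoc, h.zz, one_mul]; exact ha)) (Or.inl (e' : z * a = j).symm)
        · exact hWor (z * a) (Or.inr (by rw [← mul_assoc, h.zz, one_mul]; exact ha)) (Or.inr e')
  · obtain ⟨j, hj, rfl⟩ := hmemq y hy
    rw [hπq j hj, ← map_mul]
    split
    · rename_i h0
      exact (hq.ker _).2 (Or.inl ((hq0 j hj).1 h0))
    · rename_i h0
      refine congrArg q (Subtype.ext ?_)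
      exact (h.sq j hj).resolve_left fun e => h0 ((hq0 j hj).2 e)
  · obtain ⟨j, hj, rfl⟩ := hmemq y hy
    obtain ⟨d, hd⟩ := hr ⟨x, Subgroup.mem_centralizer_singleton_iff.2 hx⟩
    have hd' : q ⟨d, (Subgroup.mem_inf.1 d.2).2⟩ = x := congrArg Subtype.val hd
    rw [← hd', ← map_inv, ← map_mul, ← map_mul]
    exact hmk _ (h.norm d (mem_inf_cent.1 d.2).1 j hj)
  · obtain ⟨j, hj, rfl⟩ := hmemq y hy
    obtain ⟨d, rfl⟩ := hr x
    have hm := h.norm d (mem_inf_cent.1 d.2).1 j hj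
    rw [hπq j hj, hψr, ← hact d j hj, ← hπq _ hm]
    refine congrArg π ?_
    show q _ * q _ * (q _)⁻¹ = q _
    rw [← map_inv, ← map_mul, ← map_mul]
    rfl
  · obtain ⟨d, rfl⟩ := hr x
    rw [hψr, hψk]
    constructor
    · exact fun e => hmk _ e
    · intro e
      obtain ⟨j, hj, e'⟩ := hmemq _ e
      rcases hq.eq_iff.1 e' with e'' | e'' <;> change (d : G) = _ at e'' <;> rw [e'']
      · exact hj
      · exact mul_mem hj (h.W_le hw)
  · have e' : ψ.range = ψ0.range := by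
      refine le_antisymm ?_ ?_
      · rintro _ ⟨x, rfl⟩
        obtain ⟨d, rfl⟩ := hr x
        exact ⟨d, (hψr d).symm⟩
      · rintro _ ⟨d, rfl⟩
        exact ⟨r d, hψr d⟩
    rw [e']
    exact h4

/-- The data of the normal four-group argument. -/
theorem coreData' (hF : Fintype.card F = 3) : CoreData z J W :=
  h.coreData hF fun _ hw hw1 _ ha ha1 hne => h.quotAt hF hw hw1 ha ha1 hne

end Layer

end CfsgLib.Recognition.FiTwentyThree
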