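import Cfsg.Prelude.Def_TwoFusion
import Cfsg.Agent.Lib.ThreeTransp.Extraspecial
import Cfsg.Agent.Lib.Recognition.USixCentral.Apply
import Cfsg.Agent.Lib.Recognition.USixTwoOuter.Assemble

/-!
# The configuration of the centraliser in the characterisation of `Fi₂₃`

`J = O₂(C(z))` has centre `W × ⟨z⟩` with `W` the four-group of commutators with the element `c` of order three,
which permutes the involutions of `W` and is inverted modulo `J` by some element.
-/

set_option autoImplicit false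
set_option linter.unusedSectionVars false
set_option linter.style.haveILetI false

namespace CfsgLib.Recognition.FiTwentyThree

open CfsgLib.ThreeTransp.Extraspecial (Extra)

variable {G : Type*} [Group G] [Finite G] {F : Type*} [Field F] [Fintype F]

/-- The configuration. -/
structure Layer (z c : G) (J W : Subgroup G)
    (φ : ↥(Subgroup.centralizer ({z} : Set G)) →* MulAut (Cfsg.PSp 2 F)) : Prop where
  ord_z : orderOf z = 2
  ord_c : orderOf c = 3
  c_z : c * z = z * c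
  z_mem : z ∈ J
  card_J : Nat.card J = 2048
  J_z : ∀ j ∈ J, j * z = z * j
  W_le : W ≤ J
  card_W : Nat.card W = 4
  W_sq : ∀ w ∈ W, w * w = 1
  W_cent : ∀ w ∈ W, ∀ j ∈ J, w * j = j * w
  z_not : z ∉ W
  centre : ∀ j ∈ J, (∀ k ∈ J, j * k = k * j) → j ∈ W ∨ z * j ∈ W
  comm : ∀ j ∈ J, ∀ k ∈ J, j * k = k * j ∨ j * k = z * (k * j)
  sq : ∀ j ∈ J, j * j = 1 ∨ j * j = z
  norm : ∀ g, g * z = z * g → ∀ j ∈ J, g * j * g⁻¹ ∈ J
  norm_W : ∀ g, g * z = z * g → ∀ w ∈ W, g * w * g⁻¹ ∈ W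
  cent_le : ∀ g, (∀ j ∈ J, g * j = j * g) → g ∈ J
  c_fix : ∀ j ∈ J, c * j = j * c → j = 1 ∨ j = z
  c_norm : ∀ g, g * z = z * g → g * c * g⁻¹ * c⁻¹ ∈ J ∨ g * c * g⁻¹ * c ∈ J
  surj : Function.Surjective φ
  ker : ∀ g : ↥(Subgroup.centralizer ({z} : Set G)), φ g = 1 ↔ ∃ i : ℕ, (c ^ i)⁻¹ * (g : G) ∈ J
  inner : ∀ g : ↥(Subgroup.centralizer ({z} : Set G)), φ g ∈ Cfsg.Inn (Cfsg.PSp 2 F) →
    (g : G) * c * (g : G)⁻¹ * c⁻¹ ∈ J
  inv : ∃ s, s * z = z * s ∧ s * c * s⁻¹ * c ∈ J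
  compl : ∃ E₀ : Subgroup G, E₀ ≤ J ∧ z ∈ E₀ ∧ Nat.card E₀ = 512 ∧ ∀ w ∈ W, w ∈ E₀ → w = 1

theorem eq_one_of_orders {G : Type*} [Group G] {x : G} {k : ℕ} (h2 : x ^ 2 ^ k = 1) (h3 : x ^ 3 = 1) : x = 1 := by
  rw [← orderOf_eq_one_iff]
  exact Nat.eq_one_of_dvd_coprimes (Nat.Coprime.pow_left k (by norm_num : Nat.Coprime 2 3))
    (orderOf_dvd_of_pow_eq_one h2) (orderOf_dvd_of_pow_eq_one h3)

theorem conj_three {G : Type*} [Group G] {c : G} (h3 : c ^ 3 = 1) (v : G) :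
    c * (c * (c * v * c⁻¹) * c⁻¹) * c⁻¹ = v := by
  calc c * (c * (c * v * c⁻¹) * c⁻¹) * c⁻¹ = c * c * c * v * (c * c * c)⁻¹ := by simp [mul_assoc]
    _ = v := by rw [show c * c * c = c ^ 3 by rw [pow_succ, pow_two], h3]; simp

theorem mem_commute_coe {H : Subgroup G} {a b : ↥H} (h : a * b = b * a) : (a : G) * b = b * a :=
  congrArg Subtype.val h

/-- The configuration from the hypotheses of the theorem. -/
theorem exists_layer (z : G) (hz : orderOf z = 2) (hF : Fintype.card F = 3)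
    (V E : Subgroup ↥(Subgroup.centralizer ({z} : Set G)))
    (hVE : Cfsg.IsInternalDirectProduct V E (Cfsg.pCore 2 ↥(Subgroup.centralizer ({z} : Set G))))
    (hV : Nat.card ↥V = 4) (hV2 : ∀ v ∈ V, v ^ 2 = 1)
    (hE : Cfsg.IsExtraspecial 2 ↥E) (hEc : Nat.card ↥E = 2 ^ 9)
    (hCJ : Subgroup.centralizer ((Cfsg.pCore 2 ↥(Subgroup.centralizer ({z} : Set G))) : Set ↥(Subgroup.centralizer ({z} : Set G))) ≤ Cfsg.pCore 2 ↥(Subgroup.centralizer ({z} : Set G)))
    (zc c : ↥(Subgroup.centralizer ({z} : Set G))) (hzc : (zc : G) = z) (hc : orderOf c = 3)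
    [hJc : (Cfsg.pCore 2 ↥(Subgroup.centralizer ({z} : Set G)) ⊔ Subgroup.zpowers c).Normal]
    (e : (↥(Subgroup.centralizer ({z} : Set G)) ⧸ (Cfsg.pCore 2 ↥(Subgroup.centralizer ({z} : Set G)) ⊔ Subgroup.zpowers c)) ≃* MulAut (Cfsg.PSp 2 F))
    [hcz : ((Subgroup.zpowers c ⊔ Subgroup.zpowers zc).subgroupOf (Subgroup.centralizer ({c} : Set ↥(Subgroup.centralizer ({z} : Set G))))).Normal]
    (e' : (↥(Subgroup.centralizer ({c} : Set ↥(Subgroup.centralizer ({z} : Set G)))) ⧸ (Subgroup.zpowers c ⊔ Subgroup.zpowers zc).subgroupOf (Subgroup.centralizer ({c} : Set ↥(Subgroup.centralizer ({z} : Set G))))) ≃* Cfsg.PSp 2 F) :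
    ∃ W : Subgroup G, Layer z (c : G) (CfsgLib.Recognition.USixTwoOuter.coreTwo z) W
      (e.toMonoidHom.comp (QuotientGroup.mk' _)) := by
  classical
  haveI : Fact (Nat.Prime 2) := ⟨Nat.prime_two⟩
  obtain ⟨hS, hA⟩ := CfsgLib.Recognition.USixTwoOuter.card_aut_psp_three hF
  haveI := CfsgLib.Classical.psp_isSimpleGroup (F := F) 2 le_rfl (fun _ => hF.ge)
  set J := CfsgLib.Recognition.USixTwoOuter.coreTwo z with hJdef
  haveI hPn : (Cfsg.pCore 2 ↥(Subgroup.centralizer ({z} : Set G))).Normal := inferInstance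
  have hmem : ∀ g : ↥(Subgroup.centralizer ({z} : Set G)), (g : G) ∈ J ↔ g ∈ (Cfsg.pCore 2 ↥(Subgroup.centralizer ({z} : Set G))) := fun g => Subgroup.mem_map_iff_mem (Subgroup.centralizer ({z} : Set G)).subtype_injective
  have hlift : ∀ j ∈ J, ∃ g ∈ (Cfsg.pCore 2 ↥(Subgroup.centralizer ({z} : Set G))), (g : G) = j := fun j hj => hj
  have hcomm : ∀ g : ↥(Subgroup.centralizer ({z} : Set G)), (g : G) * z = z * g := fun g => Subgroup.mem_centralizer_singleton_iff.1 g.2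
  have hzg : ∀ g : ↥(Subgroup.centralizer ({z} : Set G)), g * zc = zc * g := fun g => Subtype.ext (by
    show (g : G) * zc = zc * g
    rw [hzc]; exact hcomm g)
  have hzP : zc ∈ (Cfsg.pCore 2 ↥(Subgroup.centralizer ({z} : Set G))) := hCJ fun p _ => hzg p
  have hzz : z * z = 1 := by rw [← pow_two, ← hz, pow_orderOf_eq_one]
  have hzzc : zc * zc = 1 := Subtype.ext (by show (zc : G) * zc = 1; rw [hzc, hzz])
  have hc3 : c ^ 3 = 1 := hc ▸ pow_orderOf_eq_one c
  have hc1 : c ≠ 1 := fun h => by rw [h, orderOf_one] at hc; omega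
  have hPp : IsPGroup 2 (Cfsg.pCore 2 ↥(Subgroup.centralizer ({z} : Set G))) := CfsgLib.Solvable.Cores.isPGroup_pCore 2
  have hcP : c ∉ (Cfsg.pCore 2 ↥(Subgroup.centralizer ({z} : Set G))) := fun h => hc1 (by
    obtain ⟨k, hk⟩ := hPp ⟨c, h⟩
    exact eq_one_of_orders (congrArg Subtype.val hk) hc3)
  have hc2P : c * c ∉ (Cfsg.pCore 2 ↥(Subgroup.centralizer ({z} : Set G))) := fun h => hcP (by
    have h4 := mul_mem h h
    rwa [show c * c * (c * c) = c ^ 3 * c by simp [pow_succ, mul_assoc], hc3, one_mul] at h4)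
  obtain ⟨hVP, hEP, hVEc, hdisj, hsup⟩ := hVE
  have hdec : ∀ p ∈ (Cfsg.pCore 2 ↥(Subgroup.centralizer ({z} : Set G))), ∃ v ∈ V, ∃ x ∈ E, p = v * x := by
    intro p hp
    have h2 : V ≤ Subgroup.normalizer (E : Set ↥(Subgroup.centralizer ({z} : Set G))) := fun x hx => Subgroup.mem_normalizer_fintype fun y hy => by
      rw [hVEc x hx y hy, mul_inv_cancel_right]; exact hy
    have h1 : p ∈ V ⊔ E := hsup.symm ▸ hp
    rw [← SetLike.mem_coe, Subgroup.coe_mul_of_left_le_normalizer_right V E h2] at h1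
    obtain ⟨v, hv, x, hx, rfl⟩ := Set.mem_mul.1 h1
    exact ⟨v, hv, x, hx, rfl⟩
  have hprod : ∀ v ∈ V, ∀ v' ∈ V, ∀ x ∈ E, ∀ x' ∈ E, v * x = v' * x' → v = v' ∧ x = x' := by
    intro v hv v' hv' x hx x' hx' h
    have h2 : v'⁻¹ * v ∈ V ⊓ E := ⟨V.mul_mem (V.inv_mem hv') hv, by
      rw [show v'⁻¹ * v = x' * x⁻¹ by rw [eq_mul_inv_iff_mul_eq, mul_assoc, h, inv_mul_cancel_left]]
      exact E.mul_mem hx' (E.inv_mem hx)⟩
    rw [hdisj, Subgroup.mem_bot, inv_mul_eq_one] at h2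
    subst h2
    exact ⟨rfl, mul_left_cancel h⟩
  have hVab : ∀ v ∈ V, ∀ v' ∈ V, v * v' = v' * v := by
    intro v hv v' hv'
    have s : ∀ x ∈ V, x⁻¹ = x := fun x hx => inv_eq_of_mul_eq_one_right (by rw [← pow_two]; exact hV2 x hx)
    calc v * v' = (v * v')⁻¹ := (s _ (mul_mem hv hv')).symm
      _ = _ := by rw [mul_inv_rev, s v hv, s v' hv']
  have hPcard : Nat.card (Cfsg.pCore 2 ↥(Subgroup.centralizer ({z} : Set G))) = 2048 := by
    rw [← Nat.card_eq_of_bijective (fun p : ↥V × ↥E => (⟨p.1 * p.2, mul_mem (hVP p.1.2) (hEP p.2.2)⟩ : ↥(Cfsg.pCore 2 ↥(Subgroup.centralizer ({z} : Set G)))))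
      ⟨fun p p' h' => ?_, fun w => ?_⟩, Nat.card_prod, hV, hEc]
    · rfl
    · obtain ⟨h1, h2⟩ := hprod _ p.1.2 _ p'.1.2 _ p.2.2 _ p'.2.2 (congrArg Subtype.val h')
      exact Prod.ext (Subtype.ext h1) (Subtype.ext h2)
    · obtain ⟨v, hv, x, hx, hw⟩ := hdec w w.2
      exact ⟨(⟨v, hv⟩, ⟨x, hx⟩), Subtype.ext hw.symm⟩
  obtain ⟨zE, hX⟩ := CfsgLib.ThreeTransp.Extraspecial.exists_extra hE
  have hzEP : zE ∈ (Cfsg.pCore 2 ↥(Subgroup.centralizer ({z} : Set G))) := hEP hX.z_mem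
  -- commutators and squares in `(Cfsg.pCore 2 ↥(Subgroup.centralizer ({z} : Set G)))`
  have hcomP : ∀ j ∈ (Cfsg.pCore 2 ↥(Subgroup.centralizer ({z} : Set G))), ∀ k ∈ (Cfsg.pCore 2 ↥(Subgroup.centralizer ({z} : Set G))), j * k = k * j ∨ j * k = zE * (k * j) := by
    intro j hj k hk
    obtain ⟨v, hv, x, hx, rfl⟩ := hdec j hj
    obtain ⟨v', hv', x', hx', rfl⟩ := hdec k hk
    have e1 : v * x * (v' * x') = v * v' * (x * x') := by
      rw [mul_assoc, ← mul_assoc x v' x', ← hVEc v' hv' x hx]; group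
    have e2 : v' * x' * (v * x) = v * v' * (x' * x) := by
      rw [mul_assoc, ← mul_assoc x' v x, ← hVEc v hv x' hx', hVab v hv v' hv']; group
    rw [e1, e2]
    rcases hX.conj_cases hx' hx with h | h
    · left
      rw [← mul_inv_eq_iff_eq_mul.1 h]
    · right
      rw [mul_inv_eq_iff_eq_mul.1 h, mul_assoc x' zE, hX.z_comm hx, ← mul_assoc x' x,
        hX.z_comm (E.mul_mem hx' hx) |>.symm, ← mul_assoc, hVEc _ (V.mul_mem hv hv') _ hX.z_mem]
      group
  have hsqP : ∀ j ∈ (Cfsg.pCore 2 ↥(Subgroup.centralizer ({z} : Set G))), j * j = 1 ∨ j * j = zE := by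
    intro j hj
    obtain ⟨v, hv, x, hx, rfl⟩ := hdec j hj
    have e1 : v * x * (v * x) = x * x := by
      rw [mul_assoc, ← mul_assoc x v x, ← hVEc v hv x hx, mul_assoc v x x, ← mul_assoc v v, ← pow_two, hV2 v hv,
        one_mul]
    rw [e1]
    exact hX.sq_cases hx
  obtain ⟨j₀, hj₀, k₀, hk₀, hjk⟩ : ∃ j ∈ E, ∃ k ∈ E, j * k = zE * (k * j) := by
    obtain ⟨x, hx, h1, h2⟩ : ∃ x ∈ E, x ≠ 1 ∧ x ≠ zE := by
      by_contra hcon
      push Not at hcon
      have h3 : (E : Set ↥(Subgroup.centralizer ({z} : Set G))).ncard ≤ ({1, zE} : Set ↥(Subgroup.centralizer ({z} : Set G))).ncard := Set.ncard_le_ncard (fun x hx => by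
        by_cases h : x = 1
        · exact Or.inl h
        · exact Or.inr (hcon x hx h)) (Set.toFinite _)
      rw [Set.ncard_pair (fun h => hX.z_ne h.symm), ← Nat.card_coe_set_eq] at h3
      change Nat.card E ≤ 2 at h3
      omega
    obtain ⟨q, hq, hq'⟩ := hX.exists_conj_eq hx h1 h2
    exact ⟨q, hq, x, hx, by rw [mul_inv_eq_iff_eq_mul.1 hq', ← hX.z_comm hx, mul_assoc]⟩
  -- the fixed points of `c` in `(Cfsg.pCore 2 ↥(Subgroup.centralizer ({z} : Set G)))`
  have hcen_fix : ∀ p ∈ (Cfsg.pCore 2 ↥(Subgroup.centralizer ({z} : Set G))), c * p = p * c → p = 1 ∨ p = zc := by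
    intro p hp hpc
    set N := (Subgroup.zpowers c ⊔ Subgroup.zpowers zc).subgroupOf (Subgroup.centralizer ({c} : Set ↥(Subgroup.centralizer ({z} : Set G)))) with hN
    set R := (((Cfsg.pCore 2 ↥(Subgroup.centralizer ({z} : Set G))).subgroupOf (Subgroup.centralizer ({c} : Set ↥(Subgroup.centralizer ({z} : Set G))))).map (QuotientGroup.mk' N)).map e'.toMonoidHom with hR
    haveI : R.Normal := by
      have h1 : ((Cfsg.pCore 2 ↥(Subgroup.centralizer ({z} : Set G))).subgroupOf (Subgroup.centralizer ({c} : Set ↥(Subgroup.centralizer ({z} : Set G))))).Normal := hPn.comap _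
      exact (h1.map _ (QuotientGroup.mk'_surjective N)).map _ e'.surjective
    have hR2 : IsPGroup 2 R := ((hPp.comap_of_injective _ Subtype.val_injective).map _).map _
    have hRbot : R = ⊥ := (Subgroup.Normal.eq_bot_or_eq_top (H := R) inferInstance).resolve_right fun h => by
      obtain ⟨n, hn⟩ := IsPGroup.iff_card.1 hR2
      rw [h, Subgroup.card_top, hS] at hn
      have h3 : (3 : ℕ) ∣ 2 ^ n := hn ▸ by norm_num
      have := (Nat.prime_dvd_prime_iff_eq (by norm_num) Nat.prime_two).1 (Nat.Prime.dvd_of_dvd_pow (by norm_num) h3)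
      omega
    have hpC : p ∈ (Subgroup.centralizer ({c} : Set ↥(Subgroup.centralizer ({z} : Set G)))) := Subgroup.mem_centralizer_singleton_iff.2 hpc.symm
    have h1 : e' (QuotientGroup.mk' N ⟨p, hpC⟩) ∈ R :=
      Subgroup.mem_map_of_mem _ (Subgroup.mem_map_of_mem _ (Subgroup.mem_subgroupOf.2 hp))
    rw [hRbot, Subgroup.mem_bot, MulEquiv.map_eq_one_iff, QuotientGroup.mk'_apply, QuotientGroup.eq_one_iff,
      hN, Subgroup.mem_subgroupOf] at h1
    have hle : Subgroup.zpowers c ⊔ Subgroup.zpowers zc ≤ Subgroup.zpowers (c * zc) := by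
      have hcm : Commute c zc := hzg c
      refine sup_le (Subgroup.zpowers_le.2 ⟨4, ?_⟩) (Subgroup.zpowers_le.2 ⟨3, ?_⟩)
      · show (c * zc) ^ (4 : ℤ) = c
        rw [show (4 : ℤ) = ((4 : ℕ) : ℤ) from rfl, zpow_natCast, hcm.mul_pow, pow_succ c 3, hc3, one_mul,
          show zc ^ 4 = (zc * zc) * (zc * zc) by simp [pow_succ, mul_assoc], hzzc, one_mul, mul_one]
      · show (c * zc) ^ (3 : ℤ) = zc
        rw [show (3 : ℤ) = ((3 : ℕ) : ℤ) from rfl, zpow_natCast, hcm.mul_pow, hc3, one_mul,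
          show zc ^ 3 = (zc * zc) * zc by simp [pow_succ, mul_assoc], hzzc, one_mul]
    obtain ⟨n, hn⟩ := Subgroup.mem_zpowers_iff.1 (hle h1)
    change (c * zc) ^ n = p at hn
    rw [Commute.mul_zpow (hzg c) n] at hn
    obtain ⟨k, hk⟩ := hPp ⟨c ^ n, by
      rw [show c ^ n = p * (zc ^ n)⁻¹ by rw [← hn]; group]
      exact mul_mem hp (inv_mem (zpow_mem hzP n))⟩
    have h0 : c ^ n = 1 := eq_one_of_orders (congrArg Subtype.val hk) (by
      rw [← zpow_natCast, ← zpow_mul, mul_comm, zpow_mul, zpow_natCast, hc3, one_zpow])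
    rw [h0, one_mul] at hn
    rcases (CfsgLib.ThreeTransp.Extraspecial.mem_zpowers_involution hzzc).1
      (Subgroup.mem_zpowers_iff.2 ⟨n, hn⟩) with h | h
    · exact Or.inl h
    · exact Or.inr h
  have hzE : zE = zc := by
    have hconj : ∀ g : ↥(Subgroup.centralizer ({z} : Set G)), g * zE * g⁻¹ = zE := by
      intro g
      have hj := hPn.conj_mem _ (hEP hj₀) g
      have hk := hPn.conj_mem _ (hEP hk₀) g
      have h1 : g * j₀ * g⁻¹ * (g * k₀ * g⁻¹) = g * zE * g⁻¹ * (g * k₀ * g⁻¹ * (g * j₀ * g⁻¹)) := by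
        rw [show g * j₀ * g⁻¹ * (g * k₀ * g⁻¹) = g * (j₀ * k₀) * g⁻¹ by group, hjk]; group
      rcases hcomP _ hj _ hk with h2 | h2
      · rw [← h2] at h1
        exact absurd (conj_eq_one_iff.1 (mul_eq_right.1 h1.symm)) hX.z_ne
      · rw [h2] at h1
        exact (mul_right_cancel h1).symm
    exact (hcen_fix zE hzEP (mul_inv_eq_iff_eq_mul.1 (hconj c))).resolve_left hX.z_ne
  subst hzE
  -- the centre
  set Z : Subgroup ↥(Subgroup.centralizer ({z} : Set G)) := (Cfsg.pCore 2 ↥(Subgroup.centralizer ({z} : Set G))) ⊓ Subgroup.centralizer ((Cfsg.pCore 2 ↥(Subgroup.centralizer ({z} : Set G))) : Set ↥(Subgroup.centralizer ({z} : Set G))) with hZ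
  have hZmem : ∀ {x}, x ∈ Z ↔ x ∈ (Cfsg.pCore 2 ↥(Subgroup.centralizer ({z} : Set G))) ∧ ∀ k ∈ (Cfsg.pCore 2 ↥(Subgroup.centralizer ({z} : Set G))), k * x = x * k := fun {x} =>
    ⟨fun h => ⟨h.1, Subgroup.mem_centralizer_iff.1 h.2⟩, fun h => ⟨h.1, Subgroup.mem_centralizer_iff.2 h.2⟩⟩
  have hzZ : zE ∈ Z := hZmem.2 ⟨hzEP, fun k _ => hzg k⟩
  have hVZ : ∀ v ∈ V, v ∈ Z := fun v hv => hZmem.2 ⟨hVP hv, fun k hk => by
    obtain ⟨v', hv', x, hx, rfl⟩ := hdec k hk
    rw [mul_assoc, ← hVEc v hv x hx, ← mul_assoc, hVab v' hv' v hv, mul_assoc]⟩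
  have hZdec : ∀ p ∈ Z, ∃ v ∈ V, p = v ∨ p = v * zE := by
    intro p hp
    obtain ⟨hpP, hpc⟩ := hZmem.1 hp
    obtain ⟨v, hv, x, hx, rfl⟩ := hdec p hpP
    refine ⟨v, hv, ?_⟩
    rcases hX.mem_center_cases hx (fun q hq => by
      have h1 := hpc q (hEP hq)
      rw [← mul_assoc, ← hVEc v hv q hq, mul_assoc, mul_assoc] at h1
      exact (mul_left_cancel h1).symm) with rfl | rfl
    · exact Or.inl (mul_one v)
    · exact Or.inr rfl
  have hZcard : Nat.card Z = 8 := by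
    have hinj : ∀ v ∈ V, ∀ v' ∈ V, v = v' * zE → False := fun v hv v' hv' h => by
      exact hX.z_ne ((hprod v hv v' hv' 1 (one_mem _) zE hX.z_mem (by rw [mul_one]; exact h)).2).symm
    rw [← Nat.card_eq_of_bijective (fun p : ↥V × Bool => (⟨if p.2 then (p.1 : ↥(Subgroup.centralizer ({z} : Set G))) * zE else p.1,
        by cases p.2 <;> simp only [Bool.false_eq_true, ↓reduceIte]
           · exact hVZ _ p.1.2
           · exact mul_mem (hVZ _ p.1.2) hzZ⟩ : ↥Z)) ⟨?_, ?_⟩, Nat.card_prod, hV, Nat.card_eq_fintype_card,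
      Fintype.card_bool]
    · rintro ⟨v, b⟩ ⟨v', b'⟩ h
      have h1 := congrArg Subtype.val h
      cases b <;> cases b' <;> simp only [Bool.false_eq_true, ↓reduceIte] at h1
      · exact Prod.ext (Subtype.ext h1) rfl
      · exact (hinj _ v.2 _ v'.2 h1).elim
      · exact (hinj _ v'.2 _ v.2 h1.symm).elim
      · exact Prod.ext (Subtype.ext (mul_right_cancel h1)) rfl
    · intro p
      obtain ⟨v, hv, h | h⟩ := hZdec p p.2
      · exact ⟨(⟨v, hv⟩, false), Subtype.ext (by simp [h])⟩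
      · exact ⟨(⟨v, hv⟩, true), Subtype.ext (by simp [h])⟩
  have hZsq : ∀ p ∈ Z, p * p = 1 := by
    intro p hp
    obtain ⟨v, hv, rfl | rfl⟩ := hZdec p hp
    · rw [← pow_two]; exact hV2 _ hv
    · rw [mul_assoc, ← mul_assoc zE v zE, ← hzg v, mul_assoc v zE zE, hX.z_sq, mul_one, ← pow_two]; exact hV2 _ hv
  have hZn : ∀ g : ↥(Subgroup.centralizer ({z} : Set G)), ∀ p ∈ Z, g * p * g⁻¹ ∈ Z := fun g p hp => by
    obtain ⟨hpP, hpc⟩ := hZmem.1 hp
    refine hZmem.2 ⟨hPn.conj_mem _ hpP g, fun k hk => ?_⟩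
    have h1 := hpc _ (hPn.conj_mem' _ hk g)
    calc k * (g * p * g⁻¹) = g * (g⁻¹ * k * g * p) * g⁻¹ := by group
      _ = _ := by rw [h1]; group
  have hZab : ∀ p ∈ Z, ∀ q ∈ Z, q * p = p * q := fun p hp q hq => (hZmem.1 hp).2 q hq.1
  let δ : ↥Z →* ↥Z :=
    { toFun := fun p => ⟨(p : ↥(Subgroup.centralizer ({z} : Set G))) * (c * p * c⁻¹), mul_mem p.2 (hZn c p p.2)⟩
      map_one' := Subtype.ext (by simp)
      map_mul' := fun p q => Subtype.ext (by
        show (p : ↥(Subgroup.centralizer ({z} : Set G))) * q * (c * ((p : ↥(Subgroup.centralizer ({z} : Set G))) * q) * c⁻¹) = (p : ↥(Subgroup.centralizer ({z} : Set G))) * (c * p * c⁻¹) * ((q : ↥(Subgroup.centralizer ({z} : Set G))) * (c * q * c⁻¹))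
        rw [show c * ((p : ↥(Subgroup.centralizer ({z} : Set G))) * q) * c⁻¹ = c * p * c⁻¹ * (c * q * c⁻¹) by group, mul_assoc (p : ↥(Subgroup.centralizer ({z} : Set G))) (q : ↥(Subgroup.centralizer ({z} : Set G))),
          ← mul_assoc (q : ↥(Subgroup.centralizer ({z} : Set G))) (c * p * c⁻¹), hZab _ (hZn c p p.2) _ q.2]
        group) }
  have hδk : Nat.card δ.ker = 2 := by
    have hs : ({1, zE} : Set ↥(Subgroup.centralizer ({z} : Set G))).ncard = 2 := Set.ncard_pair (fun h => hX.z_ne h.symm)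
    refine Eq.trans ?_ hs
    rw [← Nat.card_coe_set_eq]
    refine Nat.card_congr ⟨fun p => ⟨((p : ↥Z) : ↥(Subgroup.centralizer ({z} : Set G))), hcen_fix _ (p : ↥Z).2.1 ?_⟩,
      fun x => ⟨⟨x.1, ?_⟩, ?_⟩, fun p => rfl, fun x => rfl⟩
    · have h1 : ((p : ↥Z) : ↥(Subgroup.centralizer ({z} : Set G))) * (c * (p : ↥Z) * c⁻¹) = 1 := congrArg Subtype.val (MonoidHom.mem_ker.1 p.2)
      rw [mul_eq_one_iff_eq_inv', inv_eq_of_mul_eq_one_right (hZsq _ (p : ↥Z).2)] at h1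
      exact mul_inv_eq_iff_eq_mul.1 h1
    · rcases x.2 with h | h <;> rw [show x.1 = _ from h]
      · exact one_mem _
      · exact hzZ
    · refine MonoidHom.mem_ker.2 (Subtype.ext ?_)
      show x.1 * (c * x.1 * c⁻¹) = 1
      rcases x.2 with h | h <;> rw [show x.1 = _ from h]
      · simp
      · rw [hzg c, mul_inv_cancel_right, hX.z_sq]
  set W0 := δ.range.map Z.subtype with hW0
  have hW0card : Nat.card W0 = 4 := by
    rw [hW0, Subgroup.card_map_of_injective Z.subtype_injective]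
    have h1 := δ.ker.card_mul_index
    rw [Subgroup.index_ker, hδk, hZcard] at h1
    omega
  have hW0Z : W0 ≤ Z := Subgroup.map_subtype_le _
  have hW0mem : ∀ {x}, x ∈ W0 → ∃ p ∈ Z, x = p * (c * p * c⁻¹) := by
    rintro _ ⟨_, ⟨p, rfl⟩, rfl⟩
    exact ⟨p, p.2, rfl⟩
  have hW0mk : ∀ p ∈ Z, p * (c * p * c⁻¹) ∈ W0 := fun p hp => ⟨_, ⟨⟨p, hp⟩, rfl⟩, rfl⟩
  have hz_not : zE ∉ W0 := by
    intro h
    obtain ⟨p, hp, h1⟩ := hW0mem h
    have h2 : c * p * c⁻¹ = p * zE := by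
      calc c * p * c⁻¹ = p⁻¹ * (p * (c * p * c⁻¹)) := by group
        _ = _ := by rw [← h1, inv_eq_of_mul_eq_one_right (hZsq p hp)]
    have h3 : ∀ q, c * (q * zE) * c⁻¹ = c * q * c⁻¹ * zE := fun q => by
      rw [← mul_assoc c, mul_assoc (c * q), ← hzg c⁻¹, ← mul_assoc]
    have h4 : c * (c * (c * p * c⁻¹) * c⁻¹) * c⁻¹ = p := conj_three hc3 p
    rw [h2, h3, h2, mul_assoc p, hX.z_sq, mul_one, h2] at h4
    exact hX.z_ne (mul_eq_left.1 h4)
  -- the normaliser of `⟨c⟩` modulo `(Cfsg.pCore 2 ↥(Subgroup.centralizer ({z} : Set G)))`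
  have hHdec : ∀ {x}, x ∈ (Cfsg.pCore 2 ↥(Subgroup.centralizer ({z} : Set G))) ⊔ Subgroup.zpowers c → ∃ i : ℕ, i < 3 ∧ (c ^ i)⁻¹ * x ∈ (Cfsg.pCore 2 ↥(Subgroup.centralizer ({z} : Set G))) := by
    intro x hx
    rw [← SetLike.mem_coe, Subgroup.normal_mul] at hx
    obtain ⟨p, hp, y, hy, rfl⟩ := Set.mem_mul.1 hx
    obtain ⟨n, rfl⟩ := Subgroup.mem_zpowers_iff.1 hy
    have hn : c ^ n = c ^ (n % 3).toNat := by
      rw [← zpow_natCast, Int.toNat_of_nonneg (Int.emod_nonneg _ (by norm_num)), zpow_eq_zpow_iff_modEq, hc]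
      exact (Int.mod_modEq n 3).symm
    refine ⟨(n % 3).toNat, by omega, ?_⟩
    rw [hn]
    exact hPn.conj_mem' _ hp (c ^ (n % 3).toNat) |> fun h => by simpa [mul_assoc] using h
  have hcases : ∀ g : ↥(Subgroup.centralizer ({z} : Set G)), g * c * g⁻¹ * c⁻¹ ∈ (Cfsg.pCore 2 ↥(Subgroup.centralizer ({z} : Set G))) ∨ g * c * g⁻¹ * c ∈ (Cfsg.pCore 2 ↥(Subgroup.centralizer ({z} : Set G))) := by
    intro g
    obtain ⟨i, hi, hm⟩ := hHdec (hJc.conj_mem c (Subgroup.mem_sup_right (Subgroup.mem_zpowers c)) g)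
    interval_cases i
    · exfalso
      rw [pow_zero, inv_one, one_mul] at hm
      obtain ⟨k, hk⟩ := hPp ⟨_, hm⟩
      exact hc1 (conj_eq_one_iff.1 (eq_one_of_orders (congrArg Subtype.val hk) (by
        rw [conj_pow, hc3, mul_one, mul_inv_cancel])))
    · left
      have := hPn.conj_mem _ hm c
      rwa [pow_one, show c * (c⁻¹ * (g * c * g⁻¹)) * c⁻¹ = g * c * g⁻¹ * c⁻¹ by group] at this
    · right
      have := hPn.conj_mem' _ hm c
      rwa [pow_two, show c⁻¹ * ((c * c)⁻¹ * (g * c * g⁻¹)) * c = (c ^ 3)⁻¹ * (g * c * g⁻¹ * c) by simp [pow_succ, mul_assoc], hc3,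
        inv_one, one_mul] at this
  have hW0n : ∀ g : ↥(Subgroup.centralizer ({z} : Set G)), ∀ x ∈ W0, g * x * g⁻¹ ∈ W0 := by
    intro g x hx
    obtain ⟨p, hp, rfl⟩ := hW0mem hx
    set q := g * p * g⁻¹ with hq
    have hqZ : q ∈ Z := hZn g p hp
    have hcp : ∀ {u}, u ∈ (Cfsg.pCore 2 ↥(Subgroup.centralizer ({z} : Set G))) → ∀ v ∈ Z, u * v * u⁻¹ = v := fun hu v hv =>
      mul_inv_eq_iff_eq_mul.2 ((hZmem.1 hv).2 _ hu)
    have e : g * (p * (c * p * c⁻¹)) * g⁻¹ = q * (g * c * g⁻¹ * q * (g * c * g⁻¹)⁻¹) := by rw [hq]; group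
    rw [e]
    rcases hcases g with h | h
    · rw [show g * c * g⁻¹ * q * (g * c * g⁻¹)⁻¹ =
        (g * c * g⁻¹ * c⁻¹) * (c * q * c⁻¹) * (g * c * g⁻¹ * c⁻¹)⁻¹ by group, hcp h _ (hZn c q hqZ)]
      exact hW0mk q hqZ
    · rw [show g * c * g⁻¹ * q * (g * c * g⁻¹)⁻¹ =
        (g * c * g⁻¹ * c) * (c⁻¹ * q * c⁻¹⁻¹) * (g * c * g⁻¹ * c)⁻¹ by group, hcp h _ (hZn c⁻¹ q hqZ), inv_inv]
      have hr : c⁻¹ * q * c ∈ Z := by simpa using hZn c⁻¹ q hqZ
      have h1 := hW0mk _ hr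
      rwa [show c * (c⁻¹ * q * c) * c⁻¹ = q by group, hZab _ hqZ _ hr] at h1
  -- some element inverts `c` modulo `(Cfsg.pCore 2 ↥(Subgroup.centralizer ({z} : Set G)))`
  have hinv : ∃ s : ↥(Subgroup.centralizer ({z} : Set G)), s * c * s⁻¹ * c ∈ (Cfsg.pCore 2 ↥(Subgroup.centralizer ({z} : Set G))) := by
    by_contra hcon
    push Not at hcon
    have hM : ∀ g : ↥(Subgroup.centralizer ({z} : Set G)), g * c * g⁻¹ * c⁻¹ ∈ (Cfsg.pCore 2 ↥(Subgroup.centralizer ({z} : Set G))) := fun g => (hcases g).resolve_right (hcon g)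
    let f : ↥(Subgroup.centralizer ({z} : Set G)) ⧸ (Subgroup.centralizer ({c} : Set ↥(Subgroup.centralizer ({z} : Set G)))) → ↥({x : ↥(Subgroup.centralizer ({z} : Set G)) | x ∈ (Cfsg.pCore 2 ↥(Subgroup.centralizer ({z} : Set G))) ∧ x ≠ zE} : Set ↥(Subgroup.centralizer ({z} : Set G))) := fun q =>
      ⟨q.out * c * q.out⁻¹ * c⁻¹, hM _, fun h => by
        have h1 : q.out * c * q.out⁻¹ = zE * c := by rw [← h]; group
        have h3 : (zE * c) ^ 3 = 1 := by rw [← h1, conj_pow, hc3, mul_one, mul_inv_cancel]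
        rw [Commute.mul_pow (show Commute zE c from (hzg c).symm), hc3, mul_one,
          show zE ^ 3 = zE * zE * zE by simp [pow_succ, mul_assoc], hX.z_sq, one_mul] at h3
        exact hX.z_ne h3⟩
    have hf : Function.Injective f := fun q q' h => by
      have h1 := congrArg Subtype.val h
      change q.out * c * q.out⁻¹ * c⁻¹ = q'.out * c * q'.out⁻¹ * c⁻¹ at h1
      rw [← QuotientGroup.out_eq' q, ← QuotientGroup.out_eq' q', QuotientGroup.eq,
        Subgroup.mem_centralizer_singleton_iff]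
      calc q.out⁻¹ * q'.out * c = q.out⁻¹ * (q'.out * c * q'.out⁻¹) * q'.out := by group
        _ = q.out⁻¹ * (q.out * c * q.out⁻¹) * q'.out := by rw [mul_right_cancel h1]
        _ = _ := by group
    have hidx : (Subgroup.centralizer ({c} : Set ↥(Subgroup.centralizer ({z} : Set G)))).index ≤ 2047 := by
      refine (Nat.card_le_card_of_injective f hf).trans ?_
      rw [Nat.card_coe_set_eq, show {x : ↥(Subgroup.centralizer ({z} : Set G)) | x ∈ (Cfsg.pCore 2 ↥(Subgroup.centralizer ({z} : Set G))) ∧ x ≠ zE} = ((Cfsg.pCore 2 ↥(Subgroup.centralizer ({z} : Set G))) : Set ↥(Subgroup.centralizer ({z} : Set G))) \ {zE} from rfl,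
        Set.ncard_diff_singleton_of_mem hzEP, ← Nat.card_coe_set_eq]
      change Nat.card (Cfsg.pCore 2 ↥(Subgroup.centralizer ({z} : Set G))) - 1 ≤ 2047
      omega
    have hCcard : Nat.card (Subgroup.centralizer ({c} : Set ↥(Subgroup.centralizer ({z} : Set G)))) ≤ 6 * 25920 := by
      have h1 := ((Subgroup.zpowers c ⊔ Subgroup.zpowers zE).subgroupOf (Subgroup.centralizer ({c} : Set ↥(Subgroup.centralizer ({z} : Set G))))).card_mul_index
      rw [Subgroup.index_eq_card, Nat.card_congr e'.toEquiv, hS] at h1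
      rw [← h1]
      refine Nat.mul_le_mul_right _ ?_
      refine le_trans (Nat.card_le_card_of_injective (fun x => (⟨((x : ↥(Subgroup.centralizer ({c} : Set ↥(Subgroup.centralizer ({z} : Set G))))) : ↥(Subgroup.centralizer ({z} : Set G))), x.2⟩ :
        ↥(Subgroup.zpowers c ⊔ Subgroup.zpowers zE))) fun x y h =>
          Subtype.ext (Subtype.ext (congrArg Subtype.val h :))) ?_
      have hcm : Commute c zE := hzg c
      have hle : Subgroup.zpowers c ⊔ Subgroup.zpowers zE ≤ Subgroup.zpowers (c * zE) := by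
        refine sup_le (Subgroup.zpowers_le.2 ⟨4, ?_⟩) (Subgroup.zpowers_le.2 ⟨3, ?_⟩)
        · show (c * zE) ^ (4 : ℤ) = c
          rw [show (4 : ℤ) = ((4 : ℕ) : ℤ) from rfl, zpow_natCast, hcm.mul_pow, pow_succ c 3, hc3, one_mul,
            show zE ^ 4 = (zE * zE) * (zE * zE) by simp [pow_succ, mul_assoc], hX.z_sq, one_mul, mul_one]
        · show (c * zE) ^ (3 : ℤ) = zE
          rw [show (3 : ℤ) = ((3 : ℕ) : ℤ) from rfl, zpow_natCast, hcm.mul_pow, hc3, one_mul,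
            show zE ^ 3 = (zE * zE) * zE by simp [pow_succ, mul_assoc], hX.z_sq, one_mul]
      refine (Nat.le_of_dvd Nat.card_pos (Subgroup.card_dvd_of_le hle)).trans ?_
      rw [Nat.card_zpowers]
      refine orderOf_le_of_pow_eq_one (by norm_num) ?_
      rw [hcm.mul_pow, show c ^ 6 = c ^ 3 * c ^ 3 by rw [← pow_add], hc3, one_mul,
        show zE ^ 6 = (zE * zE) * (zE * zE) * (zE * zE) by simp [pow_succ, mul_assoc], hX.z_sq, one_mul, one_mul, one_mul]
    have hHcard : 6144 ≤ Nat.card ↥((Cfsg.pCore 2 ↥(Subgroup.centralizer ({z} : Set G))) ⊔ Subgroup.zpowers c) := by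
      refine Nat.le_of_dvd Nat.card_pos ?_
      rw [show (6144 : ℕ) = 2048 * 3 from rfl]
      refine Nat.Coprime.mul_dvd_of_dvd_of_dvd (by norm_num) ?_ ?_
      · exact hPcard ▸ Subgroup.card_dvd_of_le le_sup_left
      · exact hc ▸ Nat.card_zpowers c ▸ Subgroup.card_dvd_of_le le_sup_right
    have h1 := ((Cfsg.pCore 2 ↥(Subgroup.centralizer ({z} : Set G))) ⊔ Subgroup.zpowers c).card_mul_index
    rw [Subgroup.index_eq_card, Nat.card_congr e.toEquiv, hA, ← (Subgroup.centralizer ({c} : Set ↥(Subgroup.centralizer ({z} : Set G)))).card_mul_index] at h1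
    have h2 := Nat.mul_le_mul hCcard hidx
    omega
  -- assembly
  have hphi : ∀ g : ↥(Subgroup.centralizer ({z} : Set G)), e (QuotientGroup.mk' _ g) = 1 ↔ g ∈ (Cfsg.pCore 2 ↥(Subgroup.centralizer ({z} : Set G))) ⊔ Subgroup.zpowers c := fun g => by
    rw [MulEquiv.map_eq_one_iff, QuotientGroup.mk'_apply, QuotientGroup.eq_one_iff]
  have hWmem : ∀ {x : G}, x ∈ W0.map (Subgroup.centralizer ({z} : Set G)).subtype → ∃ w ∈ W0, (w : G) = x := fun hx => hx
  refine ⟨W0.map (Subgroup.centralizer ({z} : Set G)).subtype,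
    { ord_z := hz
      ord_c := by rw [Subgroup.orderOf_coe, hc]
      c_z := hcomm c
      z_mem := hzc ▸ (hmem _).2 hzEP
      card_J := by
        rw [hJdef, CfsgLib.Recognition.USixTwoOuter.coreTwo, Subgroup.card_map_of_injective (Subgroup.centralizer ({z} : Set G)).subtype_injective]
        exact hPcard
      J_z := fun j hj => by obtain ⟨g, -, rfl⟩ := hlift j hj; exact hcomm g
      W_le := fun x hx => by obtain ⟨w, hw, rfl⟩ := hWmem hx; exact (hmem w).2 (hW0Z hw).1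
      card_W := by rw [Subgroup.card_map_of_injective (Subgroup.centralizer ({z} : Set G)).subtype_injective, hW0card]
      W_sq := fun x hx => by
        obtain ⟨w, hw, rfl⟩ := hWmem hx
        exact congrArg Subtype.val (hZsq w (hW0Z hw))
      W_cent := fun x hx j hj => by
        obtain ⟨w, hw, rfl⟩ := hWmem hx
        obtain ⟨k, hk, rfl⟩ := hlift j hj
        exact mem_commute_coe ((hZmem.1 (hW0Z hw)).2 k hk).symm
      z_not := fun hx => by
        obtain ⟨w, hw, h⟩ := hWmem hx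
        exact hz_not (by rwa [show zE = w from Subtype.ext (hzc.trans h.symm)])
      centre := ?_
      comm := fun j hj k hk => by
        obtain ⟨a, ha, rfl⟩ := hlift j hj
        obtain ⟨b, hb, rfl⟩ := hlift k hk
        exact (hcomP a ha b hb).imp mem_commute_coe fun h =>
          (congrArg Subtype.val h).trans (congrArg (· * ((b : G) * (a : G))) hzc)
      sq := fun j hj => by
        obtain ⟨a, ha, rfl⟩ := hlift j hj
        exact (hsqP a ha).imp (fun h => congrArg Subtype.val h) fun h => (congrArg Subtype.val h).trans hzc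
      norm := fun g hg j hj => by
        obtain ⟨a, ha, rfl⟩ := hlift j hj
        exact (hmem (⟨g, Subgroup.mem_centralizer_singleton_iff.2 hg⟩ * a *
          (⟨g, Subgroup.mem_centralizer_singleton_iff.2 hg⟩)⁻¹)).2 (hPn.conj_mem _ ha _)
      norm_W := fun g hg x hx => by
        obtain ⟨w, hw, rfl⟩ := hWmem hx
        exact ⟨_, hW0n ⟨g, Subgroup.mem_centralizer_singleton_iff.2 hg⟩ w hw, rfl⟩
      cent_le := ?_
      c_fix := fun j hj hjc => by
        obtain ⟨a, ha, rfl⟩ := hlift j hj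
        exact (hcen_fix a ha (Subtype.ext hjc)).imp (fun h => congrArg Subtype.val h)
          fun h => (congrArg Subtype.val h).trans hzc
      c_norm := fun g hg => (hcases ⟨g, Subgroup.mem_centralizer_singleton_iff.2 hg⟩).imp
        (fun h => (hmem _).2 h) fun h => (hmem _).2 h
      surj := e.surjective.comp (QuotientGroup.mk'_surjective _)
      ker := fun g => ?_
      inner := ?_
      inv := ?_
      compl := ?_ }⟩
  · intro j hj hjc
    obtain ⟨a, ha, rfl⟩ := hlift j hj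
    have haZ : a ∈ Z := hZmem.2 ⟨ha, fun k hk => Subtype.ext (hjc _ ((hmem k).2 hk)).symm⟩
    by_cases h : a ∈ W0
    · exact Or.inl ⟨a, h, rfl⟩
    · right
      have hi : (W0.subgroupOf Z).index = 2 := by
        have h1 := (W0.subgroupOf Z).card_mul_index
        rw [Nat.card_congr (Subgroup.subgroupOfEquivOfLe hW0Z).toEquiv, hW0card, hZcard] at h1
        omega
      have h2 := (Subgroup.mul_mem_iff_of_index_two hi (a := ⟨zE, hzZ⟩) (b := ⟨a, haZ⟩)).2
        (iff_of_false hz_not h)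
      exact ⟨zE * a, h2, by show (zE : G) * a = z * a; rw [hzc]⟩
  · intro g hg
    have hgC : g ∈ (Subgroup.centralizer ({z} : Set G)) := Subgroup.mem_centralizer_singleton_iff.2 (hg z (hzc ▸ (hmem _).2 hzEP))
    refine (hmem ⟨g, hgC⟩).2 (hCJ fun p hp => Subtype.ext ?_)
    exact (hg p ((hmem p).2 hp)).symm
  · show e (QuotientGroup.mk' _ g) = 1 ↔ _
    rw [hphi]
    constructor
    · intro h
      obtain ⟨i, -, hi⟩ := hHdec h
      exact ⟨i, by have := (hmem _).2 hi; simpa using this⟩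
    · rintro ⟨i, hi⟩
      have h1 : (c ^ i)⁻¹ * g ∈ (Cfsg.pCore 2 ↥(Subgroup.centralizer ({z} : Set G))) := (hmem _).1 (by simpa using hi)
      have := Subgroup.mul_mem _ (pow_mem (Subgroup.mem_sup_right (Subgroup.mem_zpowers c) :
        c ∈ (Cfsg.pCore 2 ↥(Subgroup.centralizer ({z} : Set G))) ⊔ Subgroup.zpowers c) i) (Subgroup.mem_sup_left h1)
      rwa [mul_inv_cancel_left] at this
  · intro g hg
    set φ := e.toMonoidHom.comp (QuotientGroup.mk' ((Cfsg.pCore 2 ↥(Subgroup.centralizer ({z} : Set G))) ⊔ Subgroup.zpowers c)) with hφ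
    let M : Subgroup ↥(Subgroup.centralizer ({z} : Set G)) :=
      { carrier := {x | x * c * x⁻¹ * c⁻¹ ∈ (Cfsg.pCore 2 ↥(Subgroup.centralizer ({z} : Set G)))}
        one_mem' := by simp
        mul_mem' := fun {x y} hx hy => by
          show x * y * c * (x * y)⁻¹ * c⁻¹ ∈ (Cfsg.pCore 2 ↥(Subgroup.centralizer ({z} : Set G)))
          rw [show x * y * c * (x * y)⁻¹ * c⁻¹ = x * (y * c * y⁻¹ * c⁻¹) * x⁻¹ * (x * c * x⁻¹ * c⁻¹) by group]
          exact mul_mem (hPn.conj_mem _ hy x) hx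
        inv_mem' := fun {x} hx => by
          show x⁻¹ * c * x⁻¹⁻¹ * c⁻¹ ∈ (Cfsg.pCore 2 ↥(Subgroup.centralizer ({z} : Set G)))
          rw [show x⁻¹ * c * x⁻¹⁻¹ * c⁻¹ = x⁻¹ * (x * c * x⁻¹ * c⁻¹)⁻¹ * x by group]
          exact hPn.conj_mem' _ (inv_mem hx) x }
    have hker : φ.ker ≤ M := fun x hx => by
      obtain ⟨i, -, hi⟩ := hHdec ((hphi x).1 hx)
      set p := (c ^ i)⁻¹ * x with hp
      show x * c * x⁻¹ * c⁻¹ ∈ (Cfsg.pCore 2 ↥(Subgroup.centralizer ({z} : Set G)))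
      rw [show x = c ^ i * p by rw [hp, mul_inv_cancel_left],
        show c ^ i * p * c * (c ^ i * p)⁻¹ * c⁻¹ = c ^ i * (p * (c * p⁻¹ * c⁻¹)) * (c ^ i)⁻¹ by group]
      exact hPn.conj_mem _ (mul_mem hi (hPn.conj_mem _ (inv_mem hi) c)) _
    have hsur : Function.Surjective φ := e.surjective.comp (QuotientGroup.mk'_surjective _)
    have hI : Cfsg.Inn (Cfsg.PSp 2 F) ≤ M.map φ := by
      refine CfsgLib.Recognition.USixCentral.inn_le_of_parity hF fun a b ha hb => ?_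
      obtain ⟨x, rfl⟩ := hsur a
      obtain ⟨y, rfl⟩ := hsur b
      rw [← map_mul]
      refine Subgroup.mem_map_of_mem φ ?_
      have h1 : x * c * x⁻¹ * c ∈ (Cfsg.pCore 2 ↥(Subgroup.centralizer ({z} : Set G))) := (hcases x).resolve_left fun h => ha (Subgroup.mem_map_of_mem φ h)
      have h2 : y * c * y⁻¹ * c ∈ (Cfsg.pCore 2 ↥(Subgroup.centralizer ({z} : Set G))) := (hcases y).resolve_left fun h => hb (Subgroup.mem_map_of_mem φ h)
      show x * y * c * (x * y)⁻¹ * c⁻¹ ∈ (Cfsg.pCore 2 ↥(Subgroup.centralizer ({z} : Set G)))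
      rw [show x * y * c * (x * y)⁻¹ * c⁻¹ =
        x * (y * c * y⁻¹ * c) * x⁻¹ * (c * (x * c * x⁻¹ * c) * c⁻¹)⁻¹ by group]
      exact mul_mem (hPn.conj_mem _ h2 x) (inv_mem (hPn.conj_mem _ h1 c))
    obtain ⟨x, hx, hxg⟩ := hI hg
    have h3 : x⁻¹ * g ∈ M := hker (MonoidHom.mem_ker.2 (by rw [map_mul, map_inv, hxg, inv_mul_cancel]))
    have h4 : g ∈ M := by
      have := M.mul_mem hx h3
      rwa [mul_inv_cancel_left] at this
    exact (hmem _).2 h4
  · obtain ⟨s, hs⟩ := hinv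
    exact ⟨s, hcomm s, (hmem _).2 hs⟩
  · refine ⟨E.map (Subgroup.centralizer ({z} : Set G)).subtype, ?_, ⟨zE, hX.z_mem, hzc⟩, ?_, ?_⟩
    · rintro _ ⟨x, hx, rfl⟩
      exact (hmem x).2 (hEP hx)
    · rw [Subgroup.card_map_of_injective (Subgroup.centralizer ({z} : Set G)).subtype_injective, hEc]
      norm_num
    · rintro w hw ⟨x, hx, hxw⟩
      obtain ⟨w0, hw0, rfl⟩ := hWmem hw
      have e1 : x = w0 := Subtype.ext hxw
      subst e1
      rcases hX.mem_center_cases hx (fun q hq => ((hZmem.1 (hW0Z hw0)).2 q (hEP hq)).symm) with h | h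
      · exact congrArg Subtype.val h
      · exact absurd (h ▸ hw0) hz_not

namespace Layer

variable {z c : G} {J W : Subgroup G} {φ : ↥(Subgroup.centralizer ({z} : Set G)) →* MulAut (Cfsg.PSp 2 F)}
  (h : Layer z c J W φ)
include h

theorem zz : z * z = 1 := by rw [← pow_two, ← h.ord_z, pow_orderOf_eq_one]

theorem z_ne : z ≠ 1 := fun e => by have := h.ord_z; rw [e, orderOf_one] at this; omega

theorem c3 : c ^ 3 = 1 := h.ord_c ▸ pow_orderOf_eq_one c

theorem J_two : IsPGroup 2 J := IsPGroup.of_card (n := 11) (by rw [h.card_J]; rfl)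

theorem c_not : c ∉ J := fun hc => by
  obtain ⟨k, hk⟩ := h.J_two ⟨c, hc⟩
  have h1 : c ^ 2 ^ k = 1 := congrArg Subtype.val hk
  have := h.ord_c
  rw [eq_one_of_orders h1 h.c3, orderOf_one] at this
  omega

theorem W_z {w : G} (hw : w ∈ W) : w * z = z * w := h.W_cent w hw z h.z_mem

/-- The element `c` moves every involution of `W`. -/
theorem moves {w : G} (hw : w ∈ W) (h1 : w ≠ 1) : c * w * c⁻¹ ≠ w := fun e => by
  rcases h.c_fix w (h.W_le hw) (mul_inv_eq_iff_eq_mul.1 e) with e' | e'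
  · exact h1 e'
  · exact h.z_not (e' ▸ hw)

theorem conj_W {g w : G} (hg : g * z = z * g) (hw : w ∈ W) (h1 : w ≠ 1) : g * w * g⁻¹ ∈ W ∧ g * w * g⁻¹ ≠ 1 :=
  ⟨h.norm_W g hg w hw, fun e => h1 (conj_eq_one_iff.1 e)⟩

/-- `c` is transitive on the involutions of `W`. -/
theorem transitive {v w : G} (hv : v ∈ W) (hv1 : v ≠ 1) (hw : w ∈ W) (hw1 : w ≠ 1) :
    w = v ∨ w = c * v * c⁻¹ ∨ w = c * (c * v * c⁻¹) * c⁻¹ := by
  obtain ⟨h1, h1'⟩ := h.conj_W h.c_z hv hv1
  obtain ⟨h2, h2'⟩ := h.conj_W h.c_z h1 h1'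
  set v1 := c * v * c⁻¹
  set v2 := c * v1 * c⁻¹
  have e3 : c * v2 * c⁻¹ = v := by
    exact conj_three h.c3 v
  have d1 : v1 ≠ v := h.moves hv hv1
  have d2 : v2 ≠ v1 := h.moves h1 h1'
  have d3 : v ≠ v2 := fun e => h.moves h2 h2' (e3.trans e)
  have hsub : ({1, v, v1, v2} : Set G) ⊆ (W : Set G) := by
    intro x hx
    rcases hx with rfl | rfl | rfl | rfl
    exacts [one_mem _, hv, h1, h2]
  have hcard : ({1, v, v1, v2} : Set G).ncard = 4 := by
    rw [Set.ncard_insert_of_notMem, Set.ncard_insert_of_notMem, Set.ncard_pair d2.symm]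
    · rintro (e | e)
      · exact d1 e.symm
      · exact d3 e
    · rintro (e | e | e)
      · exact hv1 e.symm
      · exact h1' e.symm
      · exact h2' (e : (1 : G) = v2).symm
  have hWc : (W : Set G).ncard = 4 := by rw [← Nat.card_coe_set_eq]; exact h.card_W
  have heq := Set.eq_of_subset_of_ncard_le hsub (by omega) (Set.toFinite _)
  have hwS : w ∈ ({1, v, v1, v2} : Set G) := heq ▸ hw
  exact (hwS : w = 1 ∨ w = v ∨ w = v1 ∨ w = v2).resolve_left hw1

/-- The centraliser of `z` and an involution of `W` covers the automorphism group. -/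
theorem exists_fix {a : G} (ha : a ∈ W) (ha1 : a ≠ 1) (g : ↥(Subgroup.centralizer ({z} : Set G))) :
    ∃ d : ↥(Subgroup.centralizer ({z} : Set G)), (d : G) * a = a * d ∧ φ d = φ g := by
  have hg := Subgroup.mem_centralizer_singleton_iff.1 g.2
  obtain ⟨h1, h1'⟩ := h.conj_W hg ha ha1
  have key : ∀ i : ℕ, c ^ i * ((g : G) * a * (g : G)⁻¹) * (c ^ i)⁻¹ = a →
      ∃ d : ↥(Subgroup.centralizer ({z} : Set G)), (d : G) * a = a * d ∧ φ d = φ g := by
    intro i e
    have hci : c ^ i * z = z * c ^ i := Commute.pow_left h.c_z i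
    refine ⟨⟨c ^ i, Subgroup.mem_centralizer_singleton_iff.2 hci⟩ * g, ?_, ?_⟩
    · show c ^ i * (g : G) * a = a * (c ^ i * g)
      rw [← mul_inv_eq_iff_eq_mul]
      refine Eq.trans ?_ e
      group
    · rw [map_mul, (h.ker _).2 ⟨i, by simp⟩, one_mul]
  rcases h.transitive h1 h1' ha ha1 with e | e | e
  · exact key 0 (by rw [pow_zero, one_mul, inv_one, mul_one]; exact e.symm)
  · exact key 1 (by rw [pow_one]; exact e.symm)
  · exact key 2 (Eq.trans (by simp [pow_two, mul_assoc]) e.symm)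

/-- An element of the centraliser fixing `a` and acting trivially lies in `J`. -/
theorem fix_ker {a : G} (ha : a ∈ W) (ha1 : a ≠ 1) {g : ↥(Subgroup.centralizer ({z} : Set G))}
    (hga : (g : G) * a = a * g) (hg : φ g = 1) : (g : G) ∈ J := by
  obtain ⟨i, hi⟩ := (h.ker g).1 hg
  set j := (c ^ i)⁻¹ * (g : G)
  have hj : c ^ i * j = g := mul_inv_cancel_left _ _
  have hci : c ^ i * a = a * c ^ i := by
    have h1 : c ^ i * (j * a) = a * c ^ i * j := by rw [← mul_assoc, hj, hga, mul_assoc, hj]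
    rw [← h.W_cent a ha j hi, ← mul_assoc] at h1
    exact mul_right_cancel h1
  obtain ⟨k, rfl | rfl | rfl⟩ : ∃ k, i = 3 * k ∨ i = 3 * k + 1 ∨ i = 3 * k + 2 := ⟨i / 3, by omega⟩
  · rw [← hj, pow_mul, h.c3, one_pow, one_mul]; exact hi
  · rw [pow_succ, pow_mul, h.c3, one_pow, one_mul] at hci
    exact absurd (mul_inv_eq_iff_eq_mul.2 hci) (h.moves ha ha1)
  · rw [pow_add, pow_mul, h.c3, one_pow, one_mul, pow_two] at hci
    refine absurd ?_ (h.moves ha ha1)
    calc c * a * c⁻¹ = c * (c * c * a * (c * c)⁻¹) * c⁻¹ := by rw [mul_inv_eq_iff_eq_mul.2 hci]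
      _ = a := Eq.trans (by simp [mul_assoc]) (conj_three h.c3 a)

/-- An element fixing `a` and inverting `c` modulo `J`. -/
theorem exists_swap {a : G} (ha : a ∈ W) (ha1 : a ≠ 1) :
    ∃ s, s * z = z * s ∧ s * a = a * s ∧ ∀ b ∈ W, b ≠ 1 → b ≠ a → s * b * s⁻¹ = a * b := by
  obtain ⟨s₀, hs₀, hinv⟩ := h.inv
  obtain ⟨h1, h1'⟩ := h.conj_W hs₀ ha ha1
  obtain ⟨i, hi⟩ : ∃ i : ℕ, c ^ i * (s₀ * a * s₀⁻¹) * (c ^ i)⁻¹ = a := by
    rcases h.transitive h1 h1' ha ha1 with e | e | e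
    · exact ⟨0, by rw [pow_zero, one_mul, inv_one, mul_one]; exact e.symm⟩
    · exact ⟨1, by rw [pow_one]; exact e.symm⟩
    · exact ⟨2, Eq.trans (by simp [pow_two, mul_assoc]) e.symm⟩
  set s := c ^ i * s₀ with hs
  have hsz : s * z = z * s := Commute.mul_left (Commute.pow_left h.c_z i) hs₀
  have hsa : s * a = a * s := by
    rw [← mul_inv_eq_iff_eq_mul]; refine Eq.trans ?_ hi; rw [hs]; group
  refine ⟨s, hsz, hsa, fun b hb hb1 hba => ?_⟩
  -- conjugation by `s` turns `c` into its inverse on `W`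
  set p := s₀ * c * s₀⁻¹ * c with hp
  have hq : s * c * s⁻¹ = c ^ i * p * (c ^ i)⁻¹ * c⁻¹ := by rw [hs, hp]; group
  have hpi : c ^ i * p * (c ^ i)⁻¹ ∈ J := h.norm _ (Commute.pow_left h.c_z i) p hinv
  have hact : ∀ w ∈ W, s * (c * w * c⁻¹) * s⁻¹ = c⁻¹ * (s * w * s⁻¹) * c := by
    intro w hw
    have hm := h.norm_W c⁻¹ (Commute.inv_left h.c_z) _ (h.norm_W s hsz w hw)
    rw [inv_inv] at hm
    rw [show s * (c * w * c⁻¹) * s⁻¹ = s * c * s⁻¹ * (s * w * s⁻¹) * (s * c * s⁻¹)⁻¹ by group, hq,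
      show c ^ i * p * (c ^ i)⁻¹ * c⁻¹ * (s * w * s⁻¹) * (c ^ i * p * (c ^ i)⁻¹ * c⁻¹)⁻¹ =
        c ^ i * p * (c ^ i)⁻¹ * (c⁻¹ * (s * w * s⁻¹) * c) * (c ^ i * p * (c ^ i)⁻¹)⁻¹ by group,
      ← h.W_cent _ hm _ hpi, mul_inv_cancel_right]
  have hfix : s * a * s⁻¹ = a := mul_inv_eq_iff_eq_mul.2 hsa
  have h1a := (h.conj_W h.c_z ha ha1)
  set a1 := c * a * c⁻¹
  set a2 := c * a1 * c⁻¹
  have e3 : c * a2 * c⁻¹ = a := by
    exact conj_three h.c3 a
  have f1 : s * a1 * s⁻¹ = a2 := by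
    rw [hact a ha, hfix, ← e3]; group
  have f2 : s * a2 * s⁻¹ = a1 := by
    rw [hact a1 h1a.1, f1]; show c⁻¹ * (c * a1 * c⁻¹) * c = a1; group
  have hprod : a * a1 = a2 := by
    have hm : a * a1 ∈ W := mul_mem ha h1a.1
    have hne : a * a1 ≠ 1 := fun e => h.moves ha ha1 (by
      rw [mul_eq_one_iff_eq_inv', inv_eq_of_mul_eq_one_right (h.W_sq a ha)] at e; exact e)
    rcases h.transitive ha ha1 hm hne with e | e | e
    · exact absurd (mul_eq_left.1 e) h1a.2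
    · exact absurd (mul_eq_right.1 e) ha1
    · exact e
  rcases h.transitive ha ha1 hb hb1 with e | e | e
  · exact absurd e hba
  · rw [e, f1]; exact hprod.symm
  · rw [e, f2, show c * (c * a * c⁻¹) * c⁻¹ = a2 from rfl, ← hprod, ← mul_assoc, h.W_sq a ha, one_mul]

end Layer

end CfsgLib.Recognition.FiTwentyThree
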