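import Cfsg.Agent.S0280
import Cfsg.Agent.S0283
import Cfsg.Agent.S2603
import Cfsg.Prelude.Def_KGroupFacts

/-!
# A group over `U₆(2)` of index six with trivial centraliser is the automorphism group
-/

set_option autoImplicit false

namespace CfsgLib.Recognition.FiTwentyThree

variable {K : Type*} [Field K] [Fintype K]

theorem card_psu_six (hK : Fintype.card K = 4) : Nat.card (Cfsg.PSU 6 K 2) = 9196830720 := by
  have h := Cfsg.Agent.S0280.result (F := K) (q := 2) (by rw [hK]; norm_num) 6 (by norm_num)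
  norm_num [Finset.prod_range_succ, Nat.even_iff] at h
  omega

theorem card_mulAut_psu (hK : Fintype.card K = 4) : Nat.card (MulAut (Cfsg.PSU 6 K 2)) = 6 * 9196830720 := by
  haveI hs : IsSimpleGroup (Cfsg.PSU 6 K 2) :=
    Cfsg.Agent.S0283.result (F := K) (q := 2) (by rw [hK]; norm_num) 6 (by norm_num) (by norm_num)
  have hc := card_psu_six hK
  have hcen : Subgroup.center (Cfsg.PSU 6 K 2) = ⊥ := by
    refine (Subgroup.Normal.eq_bot_or_eq_top inferInstance).resolve_right fun e => ?_
    haveI : Finite (Cfsg.PSU 6 K 2) := Nat.finite_of_card_ne_zero (by rw [hc]; norm_num)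
    letI : CommGroup (Cfsg.PSU 6 K 2) := { (inferInstance : Group (Cfsg.PSU 6 K 2)) with
      mul_comm := fun a b => (Subgroup.mem_center_iff.1 (show b ∈ Subgroup.center _ by rw [e]; trivial) a) }
    have hp := IsSimpleGroup.prime_card (α := Cfsg.PSU 6 K 2)
    rw [hc] at hp
    exact absurd hp (by norm_num)
  have hinn : Nat.card (Cfsg.Inn (Cfsg.PSU 6 K 2)) = 9196830720 := by
    rw [← hc]
    refine (Nat.card_congr (MonoidHom.ofInjective (f := (MulAut.conj : Cfsg.PSU 6 K 2 →* _)) ?_).toEquiv).symm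
    refine (injective_iff_map_eq_one _).2 fun s hs' => ?_
    rw [← Subgroup.mem_bot, ← hcen, Subgroup.mem_center_iff]
    intro t
    have h2 : s * t * s⁻¹ = t := congrArg (fun φ : MulAut (Cfsg.PSU 6 K 2) => φ t) hs'
    exact (mul_inv_eq_iff_eq_mul.1 h2).symm
  haveI : Fact (Nat.Prime 2) := ⟨Nat.prime_two⟩
  obtain ⟨φ, hφ, -, hk⟩ := Cfsg.Agent.S2603.result (K := K) (p := 2) (f := 1) (q := 2) (n := 6) le_rfl
    (by norm_num) (by rw [hK]; norm_num) (by norm_num) (by norm_num)
  have h1 := φ.ker.card_mul_index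
  rw [Subgroup.index_ker, MonoidHom.range_eq_top_of_surjective φ hφ, Subgroup.card_top, hk] at h1
  rw [Subgroup.card_eq_card_quotient_mul_card_subgroup (Cfsg.Inn (Cfsg.PSU 6 K 2)), hinn, ← h1]
  norm_num

/-- A group with a normal subgroup `U₆(2)` of index six and trivial centraliser is `Aut U₆(2)`. -/
theorem equiv_mulAut {X : Type*} [Group X] [Finite X] (hK : Fintype.card K = 4) (U : Subgroup X) [U.Normal]
    (e : ↥U ≃* Cfsg.PSU 6 K 2) (hcen : Subgroup.centralizer (U : Set X) = ⊥) (hidx : U.index = 6) :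
    Nonempty (X ≃* MulAut (Cfsg.PSU 6 K 2)) := by
  set f : X →* MulAut (Cfsg.PSU 6 K 2) := (MulAut.congr e).toMonoidHom.comp MulAut.conjNormal with hf
  have hinj : Function.Injective f := by
    refine (injective_iff_map_eq_one f).2 fun x hx => ?_
    have h1 : (MulAut.conjNormal x : MulAut U) = 1 :=
      (MulAut.congr e).injective (hx.trans (map_one (MulAut.congr e)).symm)
    rw [← Subgroup.mem_bot, ← hcen, Subgroup.mem_centralizer_iff]
    intro u hu
    have h2 := congrArg (fun φ : MulAut U => ((φ ⟨u, hu⟩ : U) : X)) h1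
    simp only [MulAut.conjNormal_apply, MulAut.one_apply] at h2
    exact (mul_inv_eq_iff_eq_mul.1 h2).symm
  have hA : Nat.card (MulAut (Cfsg.PSU 6 K 2)) = Nat.card X := by
    rw [card_mulAut_psu hK, ← U.card_mul_index, hidx, Nat.card_congr e.toEquiv, card_psu_six hK]
  haveI : Finite (MulAut (Cfsg.PSU 6 K 2)) := Nat.finite_of_card_ne_zero (by rw [hA]; exact Nat.card_pos.ne')
  exact ⟨MulEquiv.ofBijective f ((Nat.bijective_iff_injective_and_card f).2 ⟨hinj, hA.symm⟩)⟩

end CfsgLib.Recognition.FiTwentyThree
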