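import Cfsg.Agent.Lib.Recognition.FiTwentyThree.TwinNormal
import Cfsg.Agent.Lib.Recognition.FiTwentyThree.TwinAut

/-!
# The outcome `U₆(2)`: a normal four-group with factor group `Aut U₆(2)`
-/

set_option autoImplicit false
set_option linter.unusedSectionVars false

universe u v

namespace CfsgLib.Recognition.FiTwentyThree

open CfsgLib.Recognition.USixTwo CfsgLib.Recognition.USixCentral

variable {G : Type u} [Group G] [Finite G]

/-- What the centraliser of `z` gives by itself. -/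
structure CoreData (z : G) (J W : Subgroup G) : Prop where
  ord_z : orderOf z = 2
  z_mem : z ∈ J
  W_le : W ≤ J
  card_W : Nat.card W = 4
  sq_W : ∀ x ∈ W, x * x = 1
  z_not : z ∉ W
  z_cent : ∀ j ∈ J, j * z = z * j
  centre : ∀ j ∈ J, (∀ k ∈ J, j * k = k * j) ↔ (j ∈ W ∨ z * j ∈ W)
  two : IsPGroup 2 J
  norm_J : ∀ c, c * z = z * c → ∀ j ∈ J, c * j * c⁻¹ ∈ J
  norm_W : ∀ c, c * z = z * c → ∀ x ∈ W, c * x * c⁻¹ ∈ W
  cyc : ∀ w ∈ W, w ≠ 1 → ∀ w' ∈ W, w' ≠ 1 → ∃ c, c * z = z * c ∧ c * w * c⁻¹ = w'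
  swap : ∀ w ∈ W, w ≠ 1 → ∃ c, c * z = z * c ∧ c * w = w * c ∧ ∃ x ∈ W, c * x ≠ x * c
  ker_J : ∀ c, c * z = z * c → (∀ j ∈ J, c * j * c⁻¹ * j⁻¹ ∈ W ∨ z * (c * j * c⁻¹ * j⁻¹) ∈ W) → c ∈ J
  card_le : Nat.card ↥(Subgroup.centralizer ({z} : Set G)) ≤ 318504960
  quot : ∀ w ∈ W, w ≠ 1 → ∀ a ∈ W, a ≠ 1 → a ≠ w → QuotAt z J w a

/-- The outcome at `w` in the quotient of its centraliser by `w`: the image of `a` is central, with a subgroup of
index two over `U₆(2)`. -/
def UAt (K : Type v) [Field K] [Fintype K] (w a : G) : Prop :=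
  ∃ (Q : Type u) (_ : Group Q) (_ : Finite Q) (q : ↥(Subgroup.centralizer ({w} : Set G)) →* Q)
    (ha : a ∈ Subgroup.centralizer ({w} : Set G)),
    Onto w q ∧ (Subgroup.zpowers (q ⟨a, ha⟩)).Normal ∧
    ∃ G₀ : Subgroup Q, q ⟨a, ha⟩ ∈ G₀ ∧ G₀.index = 2 ∧
      ∃ hn : ((Subgroup.zpowers (q ⟨a, ha⟩)).subgroupOf G₀).Normal,
        Nonempty ((↥G₀ ⧸ (Subgroup.zpowers (q ⟨a, ha⟩)).subgroupOf G₀) ≃* Cfsg.PSU 6 K 2)

/-- The centraliser of `W` modulo `W`. -/
structure CW (K : Type v) [Field K] [Fintype K] (W : Subgroup G) (w : G) : Prop where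
  norm : ∀ g, g * w = w * g → ∀ x ∈ W, g * x * g⁻¹ ∈ W
  index : ((Subgroup.centralizer (W : Set G)).subgroupOf (Subgroup.centralizer ({w} : Set G))).index = 2
  card : Nat.card ↥(Subgroup.centralizer (W : Set G)) = 4 * 9196830720
  iso : ∃ φ : ↥(Subgroup.centralizer (W : Set G)) →* Cfsg.PSU 6 K 2, Function.Surjective φ ∧
    ∀ x, φ x = 1 ↔ (x : G) ∈ W

variable {K : Type v} [Field K] [Fintype K]

theorem exists_fixedPointFree_inverted {O : Subgroup G} {z : G} (hz : z * z = 1)
    (hn : ∀ o ∈ O, z * o * z ∈ O) (hfix : ∀ o ∈ O, z * o * z = o → o = 1) : ∀ o ∈ O, z * o * z = o⁻¹ := by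
  set f : O → O := fun o => ⟨(o : G)⁻¹ * (z * o * z), mul_mem (inv_mem o.2) (hn o o.2)⟩ with hf
  have hinj : Function.Injective f := by
    intro o p e
    have e' : (o : G)⁻¹ * (z * o * z) = (p : G)⁻¹ * (z * p * z) := congrArg Subtype.val e
    refine Subtype.ext ?_
    have : z * ((p : G) * (o : G)⁻¹) * z = (p : G) * (o : G)⁻¹ := by
      have hzi : z⁻¹ = z := inv_eq_of_mul_eq_one_right hz
      calc z * ((p : G) * (o : G)⁻¹) * z = z * (p : G) * z * (z * (o : G) * z)⁻¹ := by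
            rw [mul_inv_rev, mul_inv_rev, hzi, mul_assoc (z * (p : G)) z, ← mul_assoc z z, hz, one_mul]; group
        _ = (p : G) * ((p : G)⁻¹ * (z * (p : G) * z)) * (z * (o : G) * z)⁻¹ := by group
        _ = _ := by rw [← e']; group
    exact (mul_inv_eq_one.1 (hfix _ (mul_mem p.2 (inv_mem o.2)) this)).symm
  intro o ho
  obtain ⟨p, hp⟩ := Finite.surjective_of_injective hinj ⟨o, ho⟩
  have e : (p : G)⁻¹ * (z * p * z) = o := congrArg Subtype.val hp
  have hzi : z⁻¹ = z := inv_eq_of_mul_eq_one_right hz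
  rw [← e, mul_inv_rev, mul_inv_rev, mul_inv_rev, inv_inv, hzi]
  calc z * ((p : G)⁻¹ * (z * p * z)) * z = z * (p : G)⁻¹ * z * p * (z * z) := by group
    _ = _ := by rw [hz, mul_one]; group

namespace CoreData

variable {z : G} {J W : Subgroup G} (d : CoreData z J W)
include d

theorem W_cent {x : G} (hx : x ∈ W) {j : G} (hj : j ∈ J) : x * j = j * x :=
  (d.centre x (d.W_le hx)).2 (Or.inl hx) j hj

theorem cw_of_uat (hK : Fintype.card K = 4) {w a : G} (hw : w ∈ W) (hw1 : w ≠ 1) (ha : a ∈ W) (ha1 : a ≠ 1)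
    (hne : a ≠ w) (hU : UAt K w a) : CW K W w := by
  obtain ⟨Q, _, _, q, hac, hq, hnA, G₀, haG, hidx, hn, ⟨e⟩⟩ := hU
  haveI := hn
  have hwa : w * a = a * w := d.W_cent hw (d.W_le ha)
  have hgen : ∀ x ∈ W, x = 1 ∨ x = w ∨ x = a ∨ x = w * a := by
    intro x hx
    classical
    by_contra hc
    simp only [not_or] at hc
    obtain ⟨c1, c2, c3, c4⟩ := hc
    have n1 : w * a ≠ 1 := fun e => hne (by
      rw [← inv_eq_of_mul_eq_one_right (d.sq_W w hw), inv_eq_of_mul_eq_one_right e])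
    have n2 : w * a ≠ w := fun e => ha1 (mul_eq_left.1 e)
    have n3 : w * a ≠ a := fun e => hw1 (mul_eq_right.1 e)
    letI : Fintype W := Fintype.ofFinite _
    have hs : ({1, w, a, w * a, x} : Finset G).card = 5 := by
      simp [hw1.symm, ha1.symm, n1.symm, Ne.symm c1, hne.symm, n2.symm, Ne.symm c2, n3.symm, Ne.symm c3, Ne.symm c4]
    have : ({1, w, a, w * a, x} : Finset G).card ≤ 4 := by
      rw [← d.card_W, Nat.card_eq_fintype_card, ← Finset.card_univ,
        ← Finset.card_map ⟨(Subtype.val : W → G), Subtype.val_injective⟩]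
      refine Finset.card_le_card fun y hy => ?_
      simp only [Finset.mem_insert, Finset.mem_singleton] at hy
      refine Finset.mem_map.2 ⟨⟨y, ?_⟩, Finset.mem_univ _, rfl⟩
      rcases hy with rfl | rfl | rfl | rfl | rfl
      exacts [one_mem _, hw, ha, mul_mem hw ha, hx]
    omega
  set ab := q ⟨a, hac⟩ with hab
  have hab1 : ab ≠ 1 := fun e1 => by
    rcases (hq.ker _).1 e1 with e2 | e2
    · exact ha1 e2
    · exact hne e2
  have hab2 : ab * ab = 1 := by
    rw [hab, ← map_mul, show (⟨a, hac⟩ : ↥(Subgroup.centralizer ({w} : Set G))) * ⟨a, hac⟩ = 1 from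
      Subtype.ext (d.sq_W a ha), map_one]
  have hz2 : ∀ x ∈ Subgroup.zpowers ab, x = 1 ∨ x = ab := by
    intro x hx
    obtain ⟨n, rfl⟩ := Subgroup.mem_zpowers_iff.1 hx
    rcases Int.even_or_odd n with ⟨k, rfl⟩ | ⟨k, rfl⟩
    · exact Or.inl (by rw [← two_mul, zpow_mul, zpow_two, hab2, one_zpow])
    · exact Or.inr (by rw [zpow_add_one, zpow_mul, zpow_two, hab2, one_zpow, one_mul])
  have hconj : ∀ g : ↥(Subgroup.centralizer ({w} : Set G)), (g : G) * a * (g : G)⁻¹ = a ∨ (g : G) * a * (g : G)⁻¹ = a * w := by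
    intro g
    have h1 : q g * ab * (q g)⁻¹ = ab := by
      rcases hz2 _ (hnA.conj_mem ab (Subgroup.mem_zpowers ab) (q g)) with e1 | e1
      · exact absurd (conj_eq_one_iff.1 e1) hab1
      · exact e1
    rw [hab, ← map_inv, ← map_mul, ← map_mul, hq.eq_iff] at h1
    simp only [Subgroup.coe_mul, Subgroup.coe_inv] at h1
    rcases h1 with e1 | e1
    · exact Or.inl e1.symm
    · refine Or.inr ?_
      conv_rhs => rw [e1, mul_assoc _ w w, d.sq_W w hw, mul_one]
  have hnorm : ∀ g, g * w = w * g → ∀ x ∈ W, g * x * g⁻¹ ∈ W := by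
    intro g hg x hx
    have hgw : g * w * g⁻¹ = w := by rw [hg, mul_inv_cancel_right]
    have hga : g * a * g⁻¹ ∈ W := by
      rcases hconj ⟨g, mem_cent_of hg⟩ with e1 | e1 <;> change g * a * g⁻¹ = _ at e1 <;> rw [e1]
      · exact ha
      · exact mul_mem ha hw
    rcases hgen x hx with e1 | e1 | e1 | e1 <;> rw [e1]
    · rw [mul_one, mul_inv_cancel]; exact one_mem W
    · rw [hgw]; exact hw
    · exact hga
    · rw [show g * (w * a) * g⁻¹ = g * w * g⁻¹ * (g * a * g⁻¹) by group, hgw]; exact mul_mem hw hga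
  set π₀ : ↥(G₀.comap q) →* Cfsg.PSU 6 K 2 := (e.toMonoidHom.comp (QuotientGroup.mk' _)).comp (q.subgroupComap G₀)
    with hπ₀
  have hπs : Function.Surjective π₀ := (e.surjective.comp (QuotientGroup.mk'_surjective _)).comp fun x => by
    obtain ⟨y, hy⟩ := hq.surj x
    exact ⟨⟨y, by rw [Subgroup.mem_comap, hy]; exact x.2⟩, Subtype.ext hy⟩
  have hπk : ∀ x, π₀ x = 1 ↔ ((x : ↥(Subgroup.centralizer ({w} : Set G))) : G) ∈ W := by
    intro x
    show e (QuotientGroup.mk' _ (q.subgroupComap G₀ x)) = 1 ↔ _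
    rw [MulEquiv.map_eq_one_iff, QuotientGroup.mk'_apply, QuotientGroup.eq_one_iff, Subgroup.mem_subgroupOf]
    show q (x : ↥(Subgroup.centralizer ({w} : Set G))) ∈ Subgroup.zpowers ab ↔ _
    constructor
    · intro hx
      rcases hz2 _ hx with e1 | e1
      · rcases (hq.ker _).1 e1 with e2 | e2 <;> rw [e2]
        exacts [one_mem W, hw]
      · rw [hab, hq.eq_iff] at e1
        rcases e1 with e2 | e2
        · exact (e2 : a = _) ▸ ha
        · have e3 : ((x : ↥(Subgroup.centralizer ({w} : Set G))) : G) = a * w := by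
            rw [show a = _ from e2, mul_assoc, d.sq_W w hw, mul_one]
          rw [e3]; exact mul_mem ha hw
    · intro hx
      rcases hgen _ hx with e1 | e1 | e1 | e1
      · rw [(hq.ker _).2 (Or.inl e1)]; exact one_mem _
      · rw [(hq.ker _).2 (Or.inr e1)]; exact one_mem _
      · rw [show (x : ↥(Subgroup.centralizer ({w} : Set G))) = ⟨a, hac⟩ from Subtype.ext e1]
        exact Subgroup.mem_zpowers _
      · rw [hq.eq_iff (x := (x : ↥(Subgroup.centralizer ({w} : Set G)))) (y := ⟨a, hac⟩) |>.2 (Or.inr (by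
          show a = _ * w
          rw [e1, hwa, mul_assoc, d.sq_W w hw, mul_one]))]
        exact Subgroup.mem_zpowers _
  haveI hsimp : IsSimpleGroup (Cfsg.PSU 6 K 2) :=
    Cfsg.Agent.S0283.result (F := K) (q := 2) (by rw [hK]; norm_num) 6 (by norm_num) (by norm_num)
  set N := (Subgroup.centralizer (W : Set G)).subgroupOf (Subgroup.centralizer ({w} : Set G)) with hN
  set Fa := (Subgroup.centralizer ({a} : Set G)).subgroupOf (Subgroup.centralizer ({w} : Set G)) with hFa
  have hFN : Fa = N := by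
    refine le_antisymm (fun g hg => Subgroup.mem_subgroupOf.2 (Subgroup.mem_centralizer_iff.2 fun x hx => ?_))
      fun g hg => Subgroup.mem_subgroupOf.2 (Subgroup.mem_centralizer_singleton_iff.2
        ((Subgroup.mem_centralizer_iff.1 (Subgroup.mem_subgroupOf.1 hg)) a ha).symm)
    have hga : Commute (g : G) a := Subgroup.mem_centralizer_singleton_iff.1 (Subgroup.mem_subgroupOf.1 hg)
    have hgw : Commute (g : G) w := Subgroup.mem_centralizer_singleton_iff.1 g.2
    rcases hgen x hx with e1 | e1 | e1 | e1 <;> rw [e1]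
    · rw [one_mul, mul_one]
    · exact hgw.eq.symm
    · exact hga.eq.symm
    · exact (hgw.mul_right hga).eq.symm
  have hpar : ∀ x y : ↥(Subgroup.centralizer ({w} : Set G)), x ∉ Fa → y ∉ Fa → x * y ∈ Fa := by
    intro x y hx hy
    have hx' : (x : G) * a * (x : G)⁻¹ = a * w := (hconj x).resolve_left fun e1 => hx
      (Subgroup.mem_subgroupOf.2 (Subgroup.mem_centralizer_singleton_iff.2 (mul_inv_eq_iff_eq_mul.1 e1)))
    have hy' : (y : G) * a * (y : G)⁻¹ = a * w := (hconj y).resolve_left fun e1 => hy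
      (Subgroup.mem_subgroupOf.2 (Subgroup.mem_centralizer_singleton_iff.2 (mul_inv_eq_iff_eq_mul.1 e1)))
    refine Subgroup.mem_subgroupOf.2 (Subgroup.mem_centralizer_singleton_iff.2 (mul_inv_eq_iff_eq_mul.1 ?_))
    show (x : G) * y * a * ((x : G) * y)⁻¹ = a
    rw [show (x : G) * y * a * ((x : G) * y)⁻¹ = x * ((y : G) * a * (y : G)⁻¹) * (x : G)⁻¹ by group, hy',
      show (x : G) * (a * w) * (x : G)⁻¹ = (x : G) * a * (x : G)⁻¹ * ((x : G) * w * (x : G)⁻¹) by group, hx',
      Subgroup.mem_centralizer_singleton_iff.1 x.2, mul_inv_cancel_right, mul_assoc, d.sq_W w hw, mul_one]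
  have hle : G₀.comap q ≤ Fa := by
    have hnS : ((Fa.subgroupOf (G₀.comap q)).map π₀).Normal := by
      refine Subgroup.Normal.map ⟨fun x hx g => ?_⟩ _ hπs
      rw [Subgroup.mem_subgroupOf] at hx ⊢
      by_cases hg : (g : ↥(Subgroup.centralizer ({w} : Set G))) ∈ Fa
      · exact mul_mem (mul_mem hg hx) (inv_mem hg)
      · refine hpar _ _ (fun h1 => hg ?_) (fun h1 => hg (inv_inv (g : ↥(Subgroup.centralizer ({w} : Set G))) ▸ inv_mem h1))
        have := mul_mem h1 (inv_mem hx)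
        rwa [Subgroup.coe_mul, mul_inv_cancel_right] at this
    rcases Subgroup.Normal.eq_bot_or_eq_top hnS with e1 | e1
    · exfalso
      have hsub : Nat.card ↥(G₀.comap q) ≤ 2 * Nat.card ↥(Fa.subgroupOf (G₀.comap q)) := by
        rw [← (Fa.subgroupOf (G₀.comap q)).card_mul_index, Nat.mul_comm]
        refine Nat.mul_le_mul_right _ ?_
        rcases eq_or_ne (Fa.subgroupOf (G₀.comap q)).index 1 with e2 | e2
        · omega
        obtain ⟨y, hy⟩ : ∃ y, y ∉ Fa.subgroupOf (G₀.comap q) := by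
          by_contra hc
          push Not at hc
          exact e2 (Subgroup.index_eq_one.2 (eq_top_iff.2 fun y _ => hc y))
        refine le_of_eq (Subgroup.index_eq_two_iff.2 ⟨y, fun b => ?_⟩)
        by_cases hb : b ∈ Fa.subgroupOf (G₀.comap q)
        · refine Or.inr ⟨hb, fun h1 => hy ?_⟩
          have := mul_mem (inv_mem hb) h1
          rwa [inv_mul_cancel_left] at this
        · exact Or.inl ⟨hpar _ _ hb hy, hb⟩
      have h4 : Nat.card ↥(Fa.subgroupOf (G₀.comap q)) ≤ 4 := by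
        rw [← d.card_W]
        refine Nat.card_le_card_of_injective (fun x => (⟨((x.1 : ↥(Subgroup.centralizer ({w} : Set G))) : G),
          (hπk x.1).1 (by rw [← Subgroup.mem_bot, ← e1]; exact ⟨x.1, x.2, rfl⟩)⟩ : W)) ?_
        intro x y h1
        exact Subtype.ext (Subtype.ext (Subtype.ext (congrArg Subtype.val h1 :)))
      have h8 := Nat.card_le_card_of_surjective π₀ hπs
      rw [card_psu_six hK] at h8
      omega
    · intro x hx
      obtain ⟨y, hy, e2⟩ : π₀ ⟨x, hx⟩ ∈ (Fa.subgroupOf (G₀.comap q)).map π₀ := e1 ▸ Subgroup.mem_top _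
      have h2 : π₀ (y⁻¹ * ⟨x, hx⟩) = 1 := by rw [map_mul, map_inv, e2, inv_mul_cancel]
      have h3 := (hπk _).1 h2
      have h4 : (y⁻¹ * ⟨x, hx⟩ : ↥(G₀.comap q)).1 ∈ Fa := Subgroup.mem_subgroupOf.2
        (Subgroup.mem_centralizer_singleton_iff.2 (d.W_cent h3 (d.W_le ha)))
      have := mul_mem (show (y : ↥(Subgroup.centralizer ({w} : Set G))) ∈ Fa from hy) h4
      rwa [Subgroup.coe_mul, Subgroup.coe_inv, mul_inv_cancel_left] at this
  have hidx' : (G₀.comap q).index = 2 := by rw [Subgroup.index_comap_of_surjective G₀ hq.surj, hidx]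
  have hFa2 : Fa = G₀.comap q := by
    have hd : Fa.index ∣ 2 := hidx' ▸ Subgroup.index_dvd_of_le hle
    refine (Subgroup.eq_of_le_of_card_ge hle (le_of_eq ?_)).symm
    have hne1 : Fa.index ≠ 1 := fun e1 => by
      obtain ⟨c, -, hcw, x, hx, hcx⟩ := d.swap w hw hw1
      have hm : (⟨c, mem_cent_of hcw⟩ : ↥(Subgroup.centralizer ({w} : Set G))) ∈ N := by
        rw [← hFN, Subgroup.index_eq_one.1 e1]; exact Subgroup.mem_top _
      exact hcx ((Subgroup.mem_centralizer_iff.1 (Subgroup.mem_subgroupOf.1 hm)) x hx).symm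
    have h2 : Fa.index = 2 := ((Nat.dvd_prime Nat.prime_two).1 hd).resolve_left hne1
    have a1 := Fa.card_mul_index
    have a2 := (G₀.comap q).card_mul_index
    rw [h2] at a1
    rw [hidx'] at a2
    omega
  have hWC : Subgroup.centralizer (W : Set G) ≤ Subgroup.centralizer ({w} : Set G) := fun g hg =>
    Subgroup.mem_centralizer_singleton_iff.2 ((Subgroup.mem_centralizer_iff.1 hg) w hw).symm
  set φ : ↥(Subgroup.centralizer (W : Set G)) →* Cfsg.PSU 6 K 2 := π₀.comp
    (((Subgroup.inclusion (le_of_eq (hFN.symm.trans hFa2))).comp (Subgroup.subgroupOfEquivOfLe hWC).symm.toMonoidHom))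
    with hφ
  have hφs : Function.Surjective φ := fun s => by
    obtain ⟨⟨x, hx⟩, rfl⟩ := hπs s
    have hxN : x ∈ N := by rw [← hFN, hFa2]; exact hx
    exact ⟨⟨(x : G), Subgroup.mem_subgroupOf.1 hxN⟩, rfl⟩
  have hφk : ∀ x, φ x = 1 ↔ (x : G) ∈ W := fun x => hπk _
  refine ⟨hnorm, by rw [← hN, ← hFN, hFa2, hidx'], ?_, φ, hφs, hφk⟩
  have h1 := φ.ker.card_mul_index
  rw [Subgroup.index_ker, MonoidHom.range_eq_top_of_surjective φ hφs, Subgroup.card_top, card_psu_six hK] at h1
  rw [← h1, ← d.card_W]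
  congr 1
  have hWC' : W ≤ Subgroup.centralizer (W : Set G) := fun x hx =>
    Subgroup.mem_centralizer_iff.2 fun y hy => d.W_cent hy (d.W_le hx)
  exact Nat.card_congr ⟨fun x => ⟨(x.1 : G), (hφk _).1 x.2⟩, fun x => ⟨⟨x.1, hWC' x.2⟩, (hφk _).2 x.2⟩,
    fun x => rfl, fun x => rfl⟩

/-- **The outcome `U₆(2)`.** -/
theorem normal_four_group (hK : Fintype.card K = 4)
    (hsplit : ∀ w ∈ W, w ≠ 1 → SplitAt z (Subgroup.centralizer ({z * w} : Set G)))
    {w a : G} (hw : w ∈ W) (hw1 : w ≠ 1) (ha : a ∈ W) (ha1 : a ≠ 1) (hne : a ≠ w) (hU : UAt K w a) :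
    ∃ (_ : W.Normal), Nonempty ((G ⧸ W) ≃* MulAut (Cfsg.PSU 6 K 2)) := by
  classical
  have hzz : z * z = 1 := mul_self_of_order_two d.ord_z
  have hcw := d.cw_of_uat hK hw hw1 ha ha1 hne hU
  have hloc : ∀ w' ∈ W, w' ≠ 1 → ∀ g, g * w' = w' * g → ∀ x ∈ W, g * x * g⁻¹ ∈ W := by
    intro w' hw' hw1' g hg x hx
    obtain ⟨c, hcz, ec⟩ := d.cyc w hw hw1 w' hw' hw1'
    have hcz' : c⁻¹ * z = z * c⁻¹ := by rw [inv_mul_eq_iff_eq_mul, ← mul_assoc, hcz, mul_inv_cancel_right]
    have h1 : c⁻¹ * g * c * w = w * (c⁻¹ * g * c) := by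
      calc c⁻¹ * g * c * w = c⁻¹ * (g * (c * w * c⁻¹)) * c := by group
        _ = c⁻¹ * (w' * g) * c := by rw [ec, hg]
        _ = _ := by rw [← ec]; group
    have h2 := d.norm_W c hcz _ (hcw.norm _ h1 _ (d.norm_W c⁻¹ hcz' x hx))
    convert h2 using 1
    group
  have hspl : ∀ w' ∈ W, w' ≠ 1 → ∀ g, g * (z * w') = z * w' * g → g * z = z * g := by
    intro w' hw' hw1' g hg
    obtain ⟨O, hOX, hodd, hOn, hdec⟩ := hsplit w' hw' hw1'
    suffices hO : ∀ o ∈ O, o = 1 by
      obtain ⟨c, hc, o, ho, rfl⟩ := hdec g (mem_cent_of hg)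
      rw [hO o ho, mul_one]; exact hc
    have hcu : ∀ j ∈ J, j ∈ Subgroup.centralizer ({z * w'} : Set G) := fun j hj => mem_cent_of (by
      rw [← mul_assoc, d.z_cent j hj, mul_assoc, ← d.W_cent hw' hj, ← mul_assoc])
    have hpow : ∀ o ∈ O, o * o = 1 → o = 1 := by
      intro o ho h2
      have hd : orderOf o ∣ Nat.card O := Subgroup.orderOf_dvd_natCard O ho
      have ho2 : orderOf o ∣ 2 := orderOf_dvd_of_pow_eq_one (by rw [pow_two, h2])
      rcases (Nat.dvd_prime Nat.prime_two).1 ho2 with e | e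
      · exact orderOf_eq_one_iff.1 e
      · rw [e] at hd
        exact absurd (even_iff_two_dvd.2 hd) (Nat.not_even_iff_odd.2 hodd)
    have hzi : z⁻¹ = z := inv_eq_of_mul_eq_one_right hzz
    have hinv := exists_fixedPointFree_inverted hzz (O := O)
      (fun o ho => by have := hOn z (hcu z d.z_mem) o ho; rwa [hzi] at this)
      (fun o ho hoz => by
        have hoz' : o * z = z * o := by
          conv_lhs => rw [← hoz]
          rw [mul_assoc, hzz, mul_one]
        have hcomm : ∀ j ∈ J, o * j * o⁻¹ * j⁻¹ = 1 := by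
          intro j hj
          have m1 : o * j * o⁻¹ * j⁻¹ ∈ J := mul_mem (d.norm_J o hoz' j hj) (inv_mem hj)
          have m2 : o * j * o⁻¹ * j⁻¹ ∈ O := by
            have := mul_mem ho (hOn j (hcu j hj) o⁻¹ (inv_mem ho))
            rwa [← mul_assoc, ← mul_assoc] at this
          obtain ⟨k, hk⟩ := d.two ⟨_, m1⟩
          refine eq_one_of_two_odd ⟨k, congrArg Subtype.val hk⟩ ?_
          exact hodd.of_dvd_nat (Subgroup.orderOf_dvd_natCard O m2)
        have hoJ : o ∈ J := d.ker_J o hoz' fun j hj => Or.inl (by rw [hcomm j hj]; exact one_mem W)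
        obtain ⟨k, hk⟩ := d.two ⟨o, hoJ⟩
        exact eq_one_of_two_odd ⟨k, congrArg Subtype.val hk⟩
          (hodd.of_dvd_nat (Subgroup.orderOf_dvd_natCard O ho)))
    have hw'i : w'⁻¹ = w' := inv_eq_of_mul_eq_one_right (d.sq_W w' hw')
    have hinvw : ∀ o ∈ O, w' * o * w' = o⁻¹ := by
      intro o ho
      have hou := Subgroup.mem_centralizer_singleton_iff.1 (hOX ho)
      calc w' * o * w' = z * (z * w' * o) * w' := by
            rw [← mul_assoc z, ← mul_assoc z z, hzz, one_mul]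
        _ = z * (o * z * (w' * w')) := by rw [← hou]; group
        _ = z * o * z := by rw [d.sq_W w' hw', mul_one, mul_assoc]
        _ = _ := hinv o ho
    obtain ⟨v, hv, hv1, hvw⟩ : ∃ v ∈ W, v ≠ 1 ∧ v ≠ w' := by
      rcases eq_or_ne w w' with rfl | hn
      · exact ⟨a, ha, ha1, hne⟩
      · exact ⟨w, hw, hw1, hn⟩
    have hfix : ∀ v ∈ W, v ≠ 1 → ∀ o ∈ O, v * o * v = o → o = 1 := by
      intro v hv hv1 o ho he
      have hvo : o * v = v * o := by
        conv_lhs => rw [← he]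
        rw [mul_assoc, d.sq_W v hv, mul_one]
      have m1 := hloc v hv hv1 o hvo w' hw'
      have m2 : o * w' * o⁻¹ * w' ∈ O := by
        have := mul_mem ho (hOn w' (hcu w' (d.W_le hw')) o⁻¹ (inv_mem ho))
        rwa [hw'i, ← mul_assoc, ← mul_assoc] at this
      have h3 : o * w' * o⁻¹ * w' = 1 := by
        refine hpow _ m2 ?_
        exact d.sq_W _ (mul_mem m1 hw')
      refine hpow o ho ?_
      rw [← inv_inj, inv_one, mul_inv_rev]
      calc o⁻¹ * o⁻¹ = w' * o * w' * o⁻¹ := by rw [hinvw o ho]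
        _ = w' * o * w' * o⁻¹ * (w' * w') := by rw [d.sq_W w' hw', mul_one]
        _ = w' * (o * w' * o⁻¹ * w') * w' := by group
        _ = 1 := by rw [h3, mul_one, d.sq_W w' hw']
    have hnW : ∀ v ∈ W, ∀ o ∈ O, v * o * v ∈ O := fun v hv o ho => by
      have := hOn v (hcu v (d.W_le hv)) o ho
      rwa [inv_eq_of_mul_eq_one_right (d.sq_W v hv)] at this
    have i1 := exists_fixedPointFree_inverted (d.sq_W v hv) (hnW v hv) (hfix v hv hv1)
    have hv'1 : w' * v ≠ 1 := fun e => hvw (by rw [← hw'i, inv_eq_of_mul_eq_one_right e])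
    have i2 := exists_fixedPointFree_inverted (d.sq_W _ (mul_mem hw' hv)) (hnW _ (mul_mem hw' hv))
      (hfix _ (mul_mem hw' hv) hv'1)
    intro o ho
    refine hpow o ho ?_
    have e1 : w' * v * o * (w' * v) = o := by
      rw [show w' * v * o * (w' * v) = w' * v * o * (v * w') by rw [d.W_cent hw' (d.W_le hv)],
        show w' * v * o * (v * w') = w' * (v * o * v) * w' by group, i1 o ho, hinvw _ (inv_mem ho), inv_inv]
    rw [i2 o ho] at e1
    nth_rw 1 [← e1]
    rw [inv_mul_cancel]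
  have hcard : ∀ w' ∈ W, w' ≠ 1 → Nat.card ↥(Subgroup.centralizer ({w'} : Set G)) = 8 * 9196830720 := by
    intro w' hw' hw1'
    obtain ⟨c, -, rfl⟩ := d.cyc w hw hw1 w' hw' hw1'
    rw [card_cent_conj]
    have h1 := ((Subgroup.centralizer (W : Set G)).subgroupOf (Subgroup.centralizer ({w} : Set G))).card_mul_index
    rw [hcw.index, Nat.card_congr (Subgroup.subgroupOfEquivOfLe (fun g hg =>
      Subgroup.mem_centralizer_singleton_iff.2 ((Subgroup.mem_centralizer_iff.1 hg) w hw).symm)).toEquiv, hcw.card] at h1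
    omega
  have F : Frame z J W :=
    { ord_z := d.ord_z, z_mem := d.z_mem, W_le := d.W_le, card_W := d.card_W, sq_W := d.sq_W, z_not := d.z_not
      z_cent := d.z_cent, centre := d.centre, two := d.two, norm_J := d.norm_J, norm_W := d.norm_W, cyc := d.cyc
      local_le := hloc, split := hspl, quot := d.quot
      twist := fun w' hw' hw1' g hg => by
        rw [hspl w' hw' hw1' g hg, mul_inv_cancel_right, hzz, orderOf_one]; exact odd_one
      z_conj := fun w' hw' hw1' g => ⟨fun e => by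
        have h1 := hcard w' hw' hw1'
        rw [← e, card_cent_conj] at h1
        have := d.card_le
        omega, fun e => by
        have hle : Subgroup.centralizer ({z * w'} : Set G) ≤ Subgroup.centralizer ({z} : Set G) := fun x hx =>
          Subgroup.mem_centralizer_singleton_iff.2 (hspl w' hw' hw1' x (Subgroup.mem_centralizer_singleton_iff.1 hx))
        have he := Subgroup.eq_of_le_of_card_ge hle (by rw [← e, card_cent_conj])
        obtain ⟨v, hv, hv1, hvw⟩ : ∃ v ∈ W, v ≠ 1 ∧ v ≠ w' := by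
          rcases eq_or_ne w w' with rfl | hn
          · exact ⟨a, ha, ha1, hne⟩
          · exact ⟨w, hw, hw1, hn⟩
        obtain ⟨c, hcz, ec⟩ := d.cyc w' hw' hw1' v hv hv1
        have hc : c ∈ Subgroup.centralizer ({z * w'} : Set G) := he ▸ mem_cent_of hcz
        have hc' := Subgroup.mem_centralizer_singleton_iff.1 hc
        rw [← mul_assoc, hcz, mul_assoc, mul_assoc] at hc'
        exact hvw (by rw [← ec, mul_left_cancel hc', mul_inv_cancel_right])⟩ }
  have hN : W.Normal := Subgroup.normalizer_eq_top_iff.1 F.normalizer_eq_top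
  haveI := hN
  set C := Subgroup.centralizer (W : Set G) with hC
  obtain ⟨φ, hφs, hφk⟩ := hcw.iso
  haveI hCn : C.Normal := inferInstance
  set U := C.map (QuotientGroup.mk' W) with hU'
  haveI : U.Normal := hCn.map _ (QuotientGroup.mk'_surjective W)
  set g₁ : ↥C →* ↥U := (QuotientGroup.mk' W).subgroupMap C with hg₁
  have hg₁s : Function.Surjective g₁ := MonoidHom.subgroupMap_surjective _ C
  have hker : g₁.ker = φ.ker := by
    ext x
    rw [MonoidHom.mem_ker, MonoidHom.mem_ker, hφk, ← QuotientGroup.eq_one_iff (N := W) (x : G)]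
    exact Subtype.ext_iff
  let eU : ↥U ≃* Cfsg.PSU 6 K 2 := (QuotientGroup.quotientKerEquivOfSurjective g₁ hg₁s).symm.trans
    ((QuotientGroup.quotientMulEquivOfEq hker).trans (QuotientGroup.quotientKerEquivOfSurjective φ hφs))
  have hWC : W ≤ C := fun x hx => Subgroup.mem_centralizer_iff.2 fun y hy => d.W_cent hy (d.W_le hx)
  have hJC : J ≤ C := fun j hj => Subgroup.mem_centralizer_iff.2 fun y hy => d.W_cent hy hj
  have hidxC : C.index = 6 := by
    let act : MulAction G {x : G // x ∈ W ∧ x ≠ 1} :=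
      { smul := fun g x => ⟨g * x.1 * g⁻¹, hN.conj_mem _ x.2.1 g, fun e => x.2.2 (conj_eq_one_iff.1 e)⟩
        one_smul := fun x => Subtype.ext (by show (1 : G) * x.1 * (1 : G)⁻¹ = x.1; group)
        mul_smul := fun p p' x => Subtype.ext (by
          show p * p' * x.1 * (p * p')⁻¹ = p * (p' * x.1 * p'⁻¹) * p⁻¹
          group) }
    haveI : MulAction.IsPretransitive G {x : G // x ∈ W ∧ x ≠ 1} := ⟨fun x y => by
      obtain ⟨c, -, e⟩ := d.cyc x.1 x.2.1 x.2.2 y.1 y.2.1 y.2.2
      exact ⟨c, Subtype.ext e⟩⟩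
    have h3 : Nat.card {x : G // x ∈ W ∧ x ≠ 1} = 3 := by
      letI : Fintype W := Fintype.ofFinite _
      refine Eq.trans (Nat.card_congr ⟨fun x => (⟨⟨x.1, x.2.1⟩, fun e => x.2.2 (congrArg Subtype.val e)⟩ :
        {x : W // x ≠ 1}), fun x => ⟨x.1.1, x.1.2, fun e => x.2 (Subtype.ext e)⟩, fun x => rfl, fun x => rfl⟩) ?_
      rw [Nat.card_eq_fintype_card, Fintype.card_subtype_compl, Fintype.card_subtype_eq,
        ← Nat.card_eq_fintype_card, d.card_W]
    have hst : MulAction.stabilizer G (⟨w, hw, hw1⟩ : {x : G // x ∈ W ∧ x ≠ 1}) =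
        Subgroup.centralizer ({w} : Set G) := by
      ext g
      rw [MulAction.mem_stabilizer_iff, Subtype.ext_iff, Subgroup.mem_centralizer_singleton_iff]
      exact mul_inv_eq_iff_eq_mul
    have h1 := MulAction.index_stabilizer_of_transitive G (⟨w, hw, hw1⟩ : {x : G // x ∈ W ∧ x ≠ 1})
    rw [hst, h3] at h1
    rw [← Subgroup.relIndex_mul_index (show C ≤ Subgroup.centralizer ({w} : Set G) from fun g hg =>
      Subgroup.mem_centralizer_singleton_iff.2 ((Subgroup.mem_centralizer_iff.1 hg) w hw).symm), h1,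
      Subgroup.relIndex, hcw.index]
  have hidx : U.index = 6 := by
    rw [hU', Subgroup.index_map_eq C (QuotientGroup.mk'_surjective W) (by rw [QuotientGroup.ker_mk']; exact hWC)]
    exact hidxC
  have hcen : Subgroup.centralizer (U : Set (G ⧸ W)) = ⊥ := by
    haveI hsimp : IsSimpleGroup (Cfsg.PSU 6 K 2) :=
      Cfsg.Agent.S0283.result (F := K) (q := 2) (by rw [hK]; norm_num) 6 (by norm_num) (by norm_num)
    refine eq_bot_iff.2 fun x hx => ?_
    obtain ⟨x, rfl⟩ := QuotientGroup.mk'_surjective W x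
    have hcom : ∀ g ∈ C, (g * x)⁻¹ * (x * g) ∈ W := fun g hg =>
      QuotientGroup.eq.1 (Subgroup.mem_centralizer_iff.1 hx _ ⟨g, hg, rfl⟩)
    have hxz : x * z = z * x := by
      have h1 := hcom z (hJC d.z_mem)
      have h2 := hN.conj_mem _ h1 x
      rw [show x * ((z * x)⁻¹ * (x * z)) * x⁻¹ = z⁻¹ * (x * z * x⁻¹) by group,
        inv_eq_of_mul_eq_one_right hzz] at h2
      exact mul_inv_eq_iff_eq_mul.1 (F.z_of_centre (Or.inr h2))
    have hxJ : x ∈ J := d.ker_J x hxz fun j hj => Or.inl (by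
      have h2 := hN.conj_mem _ (hN.conj_mem _ (hcom j (hJC hj)) x) j
      convert h2 using 1
      group)
    have hxC : x ∈ C := hJC hxJ
    have hzφ : φ ⟨x, hxC⟩ ∈ Subgroup.center (Cfsg.PSU 6 K 2) := by
      refine Subgroup.mem_center_iff.2 fun s => ?_
      obtain ⟨g, rfl⟩ := hφs s
      rw [← map_mul, ← map_mul, ← inv_mul_eq_one, ← map_inv, ← map_mul, hφk]
      exact hcom g g.2
    have hcb : Subgroup.center (Cfsg.PSU 6 K 2) = ⊥ := by
      refine (Subgroup.Normal.eq_bot_or_eq_top inferInstance).resolve_right fun e => ?_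
      haveI : Finite (Cfsg.PSU 6 K 2) := Nat.finite_of_card_ne_zero (by rw [card_psu_six hK]; norm_num)
      letI : CommGroup (Cfsg.PSU 6 K 2) := { (inferInstance : Group (Cfsg.PSU 6 K 2)) with
        mul_comm := fun a b => Subgroup.mem_center_iff.1 (show b ∈ Subgroup.center _ by rw [e]; trivial) a }
      have hp := IsSimpleGroup.prime_card (α := Cfsg.PSU 6 K 2)
      rw [card_psu_six hK] at hp
      exact absurd hp (by norm_num)
    rw [hcb, Subgroup.mem_bot, hφk] at hzφ
    rw [Subgroup.mem_bot]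
    exact (QuotientGroup.eq_one_iff x).2 hzφ
  exact ⟨hN, equiv_mulAut hK U eU hcen hidx⟩

end CoreData

end CfsgLib.Recognition.FiTwentyThree
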