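import Cfsg.Agent.Lib.Recognition.FiTwentyThree.Quotient
import Cfsg.Agent.Lib.Recognition.FiTwentyThree.TwinMain
import Cfsg.Prelude.Def_Spor_Fi23
import Cfsg.Prelude.Def_CaseTheorems

/-!
# The outcomes at `a` and at `z * a`

The centraliser splits over an odd normal subgroup, or gives `U₆(2)` extended, or gives `Fi₂₃`.
-/

set_option autoImplicit false
set_option linter.unusedSectionVars false
set_option linter.style.haveILetI false

universe u v

namespace CfsgLib.Recognition.FiTwentyThree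

open CfsgLib.Recognition.USixCentral (Onto SplitAt mem_cent_of order_two odd_order_of_mem)
open CfsgLib.ThreeTransp.Extraspecial (mem_zpowers_involution)
open scoped commutatorElement

/-- The recognition of `Fi₂₃` by the centraliser of a transposition, as a statement about `G`. -/
def TransRecognition (G : Type u) [Group G] : Prop :=
  ∀ d : G, orderOf d = 2 → Cfsg.IsQuasisimple ↥(Subgroup.centralizer ({d} : Set G)) →
    ∀ [((Subgroup.zpowers d).subgroupOf (Subgroup.centralizer ({d} : Set G))).Normal],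
      Cfsg.Spor.IsoFi22 (↥(Subgroup.centralizer ({d} : Set G)) ⧸
        (Subgroup.zpowers d).subgroupOf (Subgroup.centralizer ({d} : Set G))) →
      (∃ g : G, g * d * g⁻¹ ∈ Subgroup.centralizer ({d} : Set G) ∧ g * d * g⁻¹ ≠ d) → Cfsg.Spor.IsoFi23 G

variable {G : Type u} [Group G] [Finite G] {F : Type*} [Field F] [Fintype F]

theorem zpowers_normal_cent (x : G) :
    ((Subgroup.zpowers x).subgroupOf (Subgroup.centralizer ({x} : Set G))).Normal := ⟨fun v hv c => by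
  obtain ⟨n, hn⟩ := Subgroup.mem_zpowers_iff.1 (Subgroup.mem_subgroupOf.1 hv)
  refine Subgroup.mem_subgroupOf.2 (Subgroup.mem_zpowers_iff.2 ⟨n, ?_⟩)
  show x ^ n = (c : G) * v * (c : G)⁻¹
  rw [← hn, ((Commute.zpow_right (show Commute (c : G) x from Subgroup.mem_centralizer_singleton_iff.1 c.2) n)).eq,
    mul_inv_cancel_right]⟩

theorem onto_mk {x : G} (hxx : x * x = 1)
    [((Subgroup.zpowers x).subgroupOf (Subgroup.centralizer ({x} : Set G))).Normal] :
    Onto x (QuotientGroup.mk' ((Subgroup.zpowers x).subgroupOf (Subgroup.centralizer ({x} : Set G)))) :=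
  ⟨QuotientGroup.mk'_surjective _, fun v => by
    rw [QuotientGroup.mk'_apply, QuotientGroup.eq_one_iff, Subgroup.mem_subgroupOf, mem_zpowers_involution hxx]⟩

/-- A simple group of order at least three has no subgroup closed under the parity rule but itself. -/
theorem top_of_parity {P : Type*} [Group P] [IsSimpleGroup P] {M : Subgroup P}
    (hc : 3 ≤ Nat.card P) (hM : ∀ u w, u ∉ M → w ∉ M → u * w ∈ M) : M = ⊤ := by
  by_contra hne
  obtain ⟨u, hu⟩ : ∃ u, u ∉ M := by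
    by_contra hcon
    push Not at hcon
    exact hne (eq_top_iff.2 fun u _ => hcon u)
  have h2 : M.index = 2 := Subgroup.index_eq_two_iff.2 ⟨u, fun b => by
    by_cases hb : b ∈ M
    · refine Or.inr ⟨hb, fun h' => hu ?_⟩
      have := mul_mem (inv_mem hb) h'
      rwa [inv_mul_cancel_left] at this
    · exact Or.inl ⟨hM b u hb hu, hb⟩⟩
  haveI : M.Normal := Subgroup.normal_of_index_eq_two h2
  rcases Subgroup.Normal.eq_bot_or_eq_top (H := M) inferInstance with e | e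
  · rw [e, Subgroup.index_bot] at h2; omega
  · exact hne e

theorem center_bot_of_noncomm {P : Type*} [Group P] [IsSimpleGroup P] (hnc : ∃ a b : P, a * b ≠ b * a) :
    Subgroup.center P = ⊥ :=
  (Subgroup.Normal.eq_bot_or_eq_top (H := Subgroup.center P) inferInstance).resolve_right fun e => by
    obtain ⟨a, b, hab⟩ := hnc
    exact hab ((Subgroup.mem_center_iff.1 (e ▸ Subgroup.mem_top a) b).symm)

theorem psu_facts {K : Type*} [Field K] [Fintype K] (hK : Fintype.card K = 4) :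
    IsSimpleGroup (Cfsg.PSU 6 K 2) ∧ Nat.card (Cfsg.PSU 6 K 2) = 9196830720 ∧
      ∃ a b : Cfsg.PSU 6 K 2, a * b ≠ b * a := by
  haveI hs : IsSimpleGroup (Cfsg.PSU 6 K 2) :=
    Cfsg.Agent.S0283.result (F := K) (q := 2) (by rw [hK]; norm_num) 6 (by norm_num) (by norm_num)
  refine ⟨hs, card_psu_six hK, ?_⟩
  by_contra hcon
  push Not at hcon
  haveI : Finite (Cfsg.PSU 6 K 2) := Nat.finite_of_card_ne_zero (by rw [card_psu_six hK]; norm_num)
  letI : CommGroup (Cfsg.PSU 6 K 2) := { (inferInstance : Group (Cfsg.PSU 6 K 2)) with mul_comm := hcon }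
  have hp := IsSimpleGroup.prime_card (α := Cfsg.PSU 6 K 2)
  rw [card_psu_six hK] at hp
  exact absurd hp (by norm_num)

namespace Layer

variable {z c : G} {J W : Subgroup G} {φ : ↥(Subgroup.centralizer ({z} : Set G)) →* MulAut (Cfsg.PSp 2 F)}
  (h : Layer z c J W φ) {a x : G} (hF : Fintype.card F = 3) (ha : a ∈ W) (ha1 : a ≠ 1) (hx : x = a ∨ x = z * a)
include h hF ha ha1 hx

section Image

variable {Q : Type u} [Group Q] [Finite Q] {q : ↥(Subgroup.centralizer ({x} : Set G)) →* Q} (hq : Onto x q)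
include hq

omit hF in
theorem J_comm_of_image {y k : ↥(Subgroup.centralizer ({x} : Set G))} (hy : (y : G) ∈ J) (hk : (k : G) ∈ J)
    (e : q y * q k = q k * q y) : (y : G) * k = k * y := by
  obtain ⟨hxJ, hxx, hx1, hxz, hxc, -, -⟩ := h.axis ha ha1 hx
  rw [← map_mul, ← map_mul, hq.eq_iff] at e
  simp only [Subgroup.coe_mul] at e
  rcases h.comm _ hy _ hk with c' | c'
  · exact c'
  · exfalso
    rcases e with e | e
    · rw [← e] at c'
      exact h.z_ne (mul_eq_right.1 (e ▸ c').symm)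
    · rw [c', mul_assoc z, hxc _ (mul_mem hk hy), ← mul_assoc] at e
      have h1 : (1 : G) = z * x := mul_right_cancel ((one_mul _).trans e)
      exact hxz (by rw [← one_mul x, ← h.zz, mul_assoc, ← h1, mul_one])

omit hF in
theorem q_axis (hz : z ∈ Subgroup.centralizer ({x} : Set G)) (ha' : a ∈ Subgroup.centralizer ({x} : Set G)) :
    (x = a → q ⟨a, ha'⟩ = 1) ∧ (x = z * a → q ⟨a, ha'⟩ = q ⟨z, hz⟩) := by
  refine ⟨fun e => (hq.ker _).2 (Or.inr e.symm), fun e => hq.eq_iff.2 (Or.inr ?_)⟩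
  show z = a * x
  rw [e, ← mul_assoc, h.W_z ha, mul_assoc, h.W_sq a ha, mul_one]

/-- A supplement of the odd core of the quotient splits the centraliser. -/
theorem split_of_supplement (hz : z ∈ Subgroup.centralizer ({x} : Set G))
    (hs : Subgroup.centralizer ({q ⟨z, hz⟩} : Set Q) ⊔ Cfsg.oddCore Q = ⊤) :
    SplitAt z (Subgroup.centralizer ({x} : Set G)) := by
  classical
  haveI : Fact (Nat.Prime 2) := ⟨Nat.prime_two⟩
  obtain ⟨hxJ, hxx, hx1, hxz, hxc, -, -⟩ := h.axis ha ha1 hx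
  have hxo := h.axis_order ha ha1 hx
  have hzx : z * x = x * z := hxc z h.z_mem
  haveI hOn : (Cfsg.oddCore Q).Normal := CfsgLib.Involution.ZStar.oddCore_normal
  set N := (Cfsg.oddCore Q).comap q with hN
  let A : Subgroup ↥N := (q.comp N.subtype).ker
  have hA : Nat.card A = 2 := by
    have hs : ({1, x} : Set G).ncard = 2 := Set.ncard_pair hx1.symm
    refine Eq.trans ?_ hs
    rw [← Nat.card_coe_set_eq]
    refine Nat.card_congr ⟨fun v => ⟨(((v : ↥N) : ↥(Subgroup.centralizer ({x} : Set G))) : G), (hq.ker _).1 v.2⟩,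
      fun v => ⟨⟨⟨v.1, ?_⟩, ?_⟩, ?_⟩, fun v => rfl, fun v => rfl⟩
    · rcases v.2 with e | e <;> rw [show v.1 = _ from e]
      · exact one_mem _
      · exact mem_cent_of rfl
    · exact Subgroup.mem_comap.2 (by rw [(hq.ker ⟨v.1, _⟩).2 v.2]; exact one_mem _)
    · refine (hq.ker ⟨v.1, ?_⟩).2 v.2
  have hAi : Odd A.index := by
    rw [Subgroup.index_ker]
    refine CfsgLib.Involution.ZStar.odd_card_oddCore.of_dvd_nat (Subgroup.card_dvd_of_le ?_)
    rintro _ ⟨v, rfl⟩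
    exact v.2
  obtain ⟨B, hB⟩ := Subgroup.exists_right_complement'_of_coprime (N := A)
    (by rw [hA]; exact Nat.coprime_two_left.2 hAi)
  have hBodd : Odd (Nat.card B) := by
    rw [← hB.symm.index_eq_card]; exact hAi
  have hdec : ∀ n : ↥N, ∃ u, (u = 1 ∨ u = x) ∧ ∃ b ∈ B,
      ((n : ↥(Subgroup.centralizer ({x} : Set G))) : G) = u * ((b : ↥(Subgroup.centralizer ({x} : Set G))) : G) := by
    intro n
    obtain ⟨⟨u, b⟩, e⟩ := hB.2 n
    exact ⟨_, (hq.ker _).1 u.2, b, b.2, by rw [← e]; rfl⟩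
  set O := (B.map N.subtype).map (Subgroup.centralizer ({x} : Set G)).subtype with hO
  have hOmem : ∀ b ∈ B, ((b : ↥(Subgroup.centralizer ({x} : Set G))) : G) ∈ O := fun b hb =>
    Subgroup.mem_map_of_mem _ (Subgroup.mem_map_of_mem _ hb)
  have hOX : O ≤ Subgroup.centralizer ({x} : Set G) := Subgroup.map_subtype_le _
  have hOodd : Odd (Nat.card O) := by
    rw [hO, Subgroup.card_map_of_injective (Subgroup.subtype_injective _),
      Subgroup.card_map_of_injective (Subgroup.subtype_injective _)]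
    exact hBodd
  refine ⟨O, hOX, hOodd, fun g hg o ho => ?_, fun g hg => ?_⟩
  · obtain ⟨_, ⟨b, hb, rfl⟩, rfl⟩ := ho
    have hm : (⟨g, hg⟩ : ↥(Subgroup.centralizer ({x} : Set G))) * b * ⟨g, hg⟩⁻¹ ∈ N :=
      (inferInstance : N.Normal).conj_mem _ b.2 _
    obtain ⟨u, hu, b', hb', e⟩ := hdec ⟨_, hm⟩
    change g * _ * g⁻¹ = _ at e
    show g * _ * g⁻¹ ∈ O
    set o := ((b : ↥(Subgroup.centralizer ({x} : Set G))) : G)
    set o' := ((b' : ↥(Subgroup.centralizer ({x} : Set G))) : G)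
    change g * o * g⁻¹ = u * o' at e
    change g * o * g⁻¹ ∈ O
    rcases hu with rfl | hua
    · rw [e, one_mul]
      exact hOmem b' hb'
    · exfalso
      rw [hua] at e
      have hc : Commute x o' := (Subgroup.mem_centralizer_singleton_iff.1 (hOX (hOmem b' hb'))).symm
      have h1 : orderOf (x * o') = orderOf o := by
        rw [← e]
        refine (SemiconjBy.orderOf_eq g ?_).symm
        rw [SemiconjBy]; group
      have h2 : Odd (orderOf (x * o')) := h1 ▸ odd_order_of_mem hOodd (hOmem b hb)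
      have h3 : orderOf (x * o') = orderOf x * orderOf o' :=
        hc.orderOf_mul_eq_mul_orderOf_of_coprime (by
          rw [hxo]; exact Nat.coprime_two_left.2 (odd_order_of_mem hOodd (hOmem b' hb')))
      rw [h3, hxo] at h2
      exact (Nat.not_even_iff_odd.2 h2) (Nat.even_mul.2 (Or.inl even_two))
  · have h1 : q ⟨g, hg⟩ ∈ (Subgroup.centralizer ({q ⟨z, hz⟩} : Set Q) ⊔ Cfsg.oddCore Q : Subgroup Q) :=
      hs ▸ Subgroup.mem_top _
    rw [← SetLike.mem_coe, Subgroup.mul_normal] at h1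
    obtain ⟨v, hv, w, hw, e⟩ := Set.mem_mul.1 h1
    obtain ⟨y, rfl⟩ := hq.surj v
    have hy := h.comm_zb hF ha ha1 hx hq hz (Subgroup.mem_centralizer_singleton_iff.1 hv)
    have hn : y⁻¹ * ⟨g, hg⟩ ∈ N :=
      Subgroup.mem_comap.2 (by rw [map_mul, map_inv, ← e, inv_mul_cancel_left]; exact hw)
    obtain ⟨u, hu, b, hb, e'⟩ := hdec ⟨_, hn⟩
    change (y : G)⁻¹ * g = u * _ at e'
    refine ⟨(y : G) * u, ?_, _, hOmem b hb, by rw [mul_assoc, ← e']; group⟩
    refine Subgroup.mem_centralizer_singleton_iff.1 (mul_mem (mem_cent_of hy) ?_)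
    rcases hu with rfl | hua
    · exact one_mem _
    · rw [hua]; exact mem_cent_of hzx.symm

/-- The central involution of the second outcome. -/
theorem middle_cases {b : G} (hb : b ∈ W) (hb1 : b ≠ 1) (hba : b ≠ a)
    (hz : z ∈ Subgroup.centralizer ({x} : Set G)) (hb' : b ∈ Subgroup.centralizer ({x} : Set G))
    (hmem : ∀ v : ↥(Subgroup.centralizer ({q ⟨z, hz⟩} : Set Q)),
      v ∈ Cfsg.pCore 2 ↥(Subgroup.centralizer ({q ⟨z, hz⟩} : Set Q)) ↔
        (v : Q) ∈ (J.subgroupOf (Subgroup.centralizer ({x} : Set G))).map q)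
    {z₁ : Q} (ho : orderOf z₁ = 2) (hnp : z₁ ∉ Subgroup.zpowers (q ⟨z, hz⟩))
    (h₁ : z₁ ∈ Subgroup.centralizer ({q ⟨z, hz⟩} : Set Q))
    (hm : (⟨z₁, h₁⟩ : ↥(Subgroup.centralizer ({q ⟨z, hz⟩} : Set Q))) ∈
      Cfsg.pCore 2 ↥(Subgroup.centralizer ({q ⟨z, hz⟩} : Set Q)))
    (hcen : ∀ j ∈ Cfsg.pCore 2 ↥(Subgroup.centralizer ({q ⟨z, hz⟩} : Set Q)), j * ⟨z₁, h₁⟩ = ⟨z₁, h₁⟩ * j)
    (hn : (Subgroup.zpowers z₁).Normal) :
    x = a ∧ (z₁ = q ⟨b, hb'⟩ ∨ z₁ = q ⟨z, hz⟩ * q ⟨b, hb'⟩) ∧ ∀ v : Q, v * z₁ = z₁ * v := by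
  have hJX := h.J_le_cent_axis ha ha1 hx
  obtain ⟨y, hy, ey⟩ := (hmem _).1 hm
  change q y = z₁ at ey
  have hyJ : (y : G) ∈ J := Subgroup.mem_subgroupOf.1 hy
  have hzq1 : q ⟨z, hz⟩ * q ⟨z, hz⟩ = 1 := by
    rw [← map_mul, show (⟨z, hz⟩ : ↥(Subgroup.centralizer ({x} : Set G))) * ⟨z, hz⟩ = 1 from Subtype.ext h.zz,
      map_one]
  have hyc : ∀ k ∈ J, (y : G) * k = k * y := fun k hk => by
    refine h.J_comm_of_image ha ha1 hx hq (k := ⟨k, hJX hk⟩) hyJ hk ?_
    have hk' : q ⟨k, hJX hk⟩ ∈ Subgroup.centralizer ({q ⟨z, hz⟩} : Set Q) := mem_cent_of (by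
      rw [← map_mul, ← map_mul]; exact congrArg q (Subtype.ext (h.J_z k hk)))
    have := congrArg Subtype.val (hcen ⟨_, hk'⟩ ((hmem _).2 ⟨⟨k, hJX hk⟩, hk, rfl⟩))
    rw [ey]
    exact this.symm
  have hz1c : ∀ v : Q, v * z₁ = z₁ * v := fun v => by
    have hzz : z₁ * z₁ = 1 := by rw [← pow_two, ← ho, pow_orderOf_eq_one]
    rcases (mem_zpowers_involution hzz).1 (hn.conj_mem z₁ (Subgroup.mem_zpowers z₁) v) with e | e
    · rw [conj_eq_one_iff.1 e, mul_one, one_mul]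
    · exact mul_inv_eq_iff_eq_mul.1 e
  have ha' : a ∈ Subgroup.centralizer ({x} : Set G) := hJX (h.W_le ha)
  obtain ⟨hqa1, hqa2⟩ := h.q_axis ha ha1 hx hq hz ha'
  -- the image of `W`
  have hqW : ∀ w, ∀ hw : w ∈ W, q ⟨w, hJX (h.W_le hw)⟩ = 1 ∨ q ⟨w, hJX (h.W_le hw)⟩ = q ⟨z, hz⟩ ∨
      q ⟨w, hJX (h.W_le hw)⟩ = q ⟨b, hb'⟩ ∨ q ⟨w, hJX (h.W_le hw)⟩ = q ⟨z, hz⟩ * q ⟨b, hb'⟩ := by
    intro w hw
    have hqa : q ⟨a, ha'⟩ = 1 ∨ q ⟨a, ha'⟩ = q ⟨z, hz⟩ := hx.imp hqa1 hqa2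
    rcases h.W_cases ha ha1 hb hb1 hba hw with rfl | rfl | rfl | rfl
    · exact Or.inl ((hq.ker _).2 (Or.inl rfl))
    · exact hqa.imp id fun e => Or.inl e
    · exact Or.inr (Or.inr (Or.inl rfl))
    · rw [show (⟨a * b, _⟩ : ↥(Subgroup.centralizer ({x} : Set G))) = ⟨a, ha'⟩ * ⟨b, hb'⟩ from rfl, map_mul]
      rcases hqa with e | e <;> rw [e]
      · exact Or.inr (Or.inr (Or.inl (one_mul _)))
      · exact Or.inr (Or.inr (Or.inr rfl))
  have hz1ne : z₁ ≠ 1 := fun e => by rw [e, orderOf_one] at ho; omega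
  have hz1z : z₁ ≠ q ⟨z, hz⟩ := fun e => hnp (e ▸ Subgroup.mem_zpowers _)
  have hval : z₁ = q ⟨b, hb'⟩ ∨ z₁ = q ⟨z, hz⟩ * q ⟨b, hb'⟩ := by
    rcases h.centre _ hyJ hyc with hw | hw
    · rcases hqW _ hw with e | e | e | e <;> rw [← ey]
      · exact absurd (ey.symm.trans e) hz1ne
      · exact absurd (ey.symm.trans e) hz1z
      · exact Or.inl e
      · exact Or.inr e
    · have e0 : q y = q ⟨z, hz⟩ * q ⟨z * (y : G), hJX (h.W_le hw)⟩ := by
        rw [← map_mul]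
        refine congrArg q (Subtype.ext ?_)
        show (y : G) = z * (z * y)
        rw [← mul_assoc, h.zz, one_mul]
      rcases hqW _ hw with e | e | e | e <;> rw [e] at e0
      · rw [mul_one] at e0
        exact absurd (ey.symm.trans e0) hz1z
      · rw [hzq1] at e0
        exact absurd (ey.symm.trans e0) hz1ne
      · exact Or.inr (ey.symm.trans e0)
      · rw [← mul_assoc, hzq1, one_mul] at e0
        exact Or.inl (ey.symm.trans e0)
  refine ⟨?_, hval, hz1c⟩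
  rcases hx with hxa | hxa
  · exact hxa
  exfalso
  obtain ⟨s, hsz, hsa, hsb⟩ := h.exists_swap ha ha1
  have hs : s ∈ Subgroup.centralizer ({x} : Set G) :=
    mem_cent_of (((h.axis ha ha1 (Or.inr hxa)).2.2.2.2.2.2 s hsz).2 hsa)
  have hqz : q ⟨z, hz⟩ ≠ 1 := fun e => by
    rcases (hq.ker _).1 e with e' | e'
    · exact h.z_ne e'
    · exact (h.axis ha ha1 (Or.inr hxa)).2.2.2.1 e'.symm
  have hconj : q ⟨s, hs⟩ * q ⟨b, hb'⟩ * (q ⟨s, hs⟩)⁻¹ = q ⟨z, hz⟩ * q ⟨b, hb'⟩ := by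
    rw [← hqa2 hxa, ← map_inv, ← map_mul, ← map_mul, ← map_mul]
    exact congrArg q (Subtype.ext (hsb b hb hb1 hba))
  have hconjz : q ⟨s, hs⟩ * q ⟨z, hz⟩ * (q ⟨s, hs⟩)⁻¹ = q ⟨z, hz⟩ := by
    rw [← map_inv, ← map_mul, ← map_mul]
    exact congrArg q (Subtype.ext (mul_inv_eq_iff_eq_mul.2 hsz))
  have hfix : q ⟨s, hs⟩ * z₁ * (q ⟨s, hs⟩)⁻¹ = z₁ := mul_inv_eq_iff_eq_mul.2 (hz1c _)
  rcases hval with e | e <;> rw [e] at hfix
  · exact hqz (mul_eq_right.1 (hconj.symm.trans hfix))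
  · rw [← conj_mul, hconjz, hconj, ← mul_assoc, hzq1, one_mul] at hfix
    exact hqz (mul_eq_right.1 hfix.symm)

end Image

omit hF in
/-- An isomorphism of the quotient with `Fi₂₂` gives `Fi₂₃`. -/
theorem fiTwentyThree (h14 : TransRecognition G) (hFi : IsSimpleGroup Cfsg.Spor.Fi22)
    [((Subgroup.zpowers x).subgroupOf (Subgroup.centralizer ({x} : Set G))).Normal]
    (e : Cfsg.Spor.IsoFi22 (↥(Subgroup.centralizer ({x} : Set G)) ⧸
      (Subgroup.zpowers x).subgroupOf (Subgroup.centralizer ({x} : Set G)))) :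
    Cfsg.Spor.IsoFi23 G := by
  obtain ⟨hxJ, hxx, hx1, hxz, hxc, -, hxiff⟩ := h.axis ha ha1 hx
  have hJX := h.J_le_cent_axis ha ha1 hx
  have hq := onto_mk hxx
  obtain ⟨ee⟩ := e
  haveI := hFi
  haveI hsimp : IsSimpleGroup (↥(Subgroup.centralizer ({x} : Set G)) ⧸
      (Subgroup.zpowers x).subgroupOf (Subgroup.centralizer ({x} : Set G))) := ee.isSimpleGroup
  set q := QuotientGroup.mk' ((Subgroup.zpowers x).subgroupOf (Subgroup.centralizer ({x} : Set G))) with hqdef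
  obtain ⟨j, hj, k, hk, hjk⟩ := h.nonabelian
  have hnc : ∃ u v : ↥(Subgroup.centralizer ({x} : Set G)) ⧸
      (Subgroup.zpowers x).subgroupOf (Subgroup.centralizer ({x} : Set G)), u * v ≠ v * u := by
    refine ⟨q ⟨j, hJX hj⟩, q ⟨k, hJX hk⟩, fun e => ?_⟩
    have := h.J_comm_of_image ha ha1 hx hq (y := ⟨j, hJX hj⟩) (k := ⟨k, hJX hk⟩) hj hk e
    rw [this] at hjk
    exact h.z_ne (mul_eq_right.1 hjk.symm)
  set D := commutator ↥(Subgroup.centralizer ({x} : Set G)) with hD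
  have hDmap : D.map q = ⊤ := by
    rw [hD, commutator_def, Subgroup.map_commutator, Subgroup.map_top_of_surjective q hq.surj]
    refine (Subgroup.Normal.eq_bot_or_eq_top (Subgroup.commutator_normal ⊤ ⊤)).resolve_left fun e => ?_
    obtain ⟨u, v, huv⟩ := hnc
    refine huv ?_
    have h1 := Subgroup.commutator_mem_commutator (Subgroup.mem_top u) (Subgroup.mem_top v)
    rw [e, Subgroup.mem_bot, commutatorElement_eq_one_iff_mul_comm] at h1
    exact h1
  have hmemD : ∀ g g' v : ↥(Subgroup.centralizer ({x} : Set G)), (g : G) * g' * (g : G)⁻¹ * (g' : G)⁻¹ = v → v ∈ D :=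
    fun g g' v hv => by
      rw [show v = ⁅g, g'⁆ from Subtype.ext hv.symm]
      exact Subgroup.commutator_mem_commutator (Subgroup.mem_top _) (Subgroup.mem_top _)
  have hxD : (⟨x, mem_cent_of rfl⟩ : ↥(Subgroup.centralizer ({x} : Set G))) ∈ D := by
    obtain ⟨b, hb, hb1, hba⟩ := h.exists_other ha ha1
    obtain ⟨s, hsz, hsa, hsb⟩ := h.exists_swap ha ha1
    have hA : (⟨a, hJX (h.W_le ha)⟩ : ↥(Subgroup.centralizer ({x} : Set G))) ∈ D :=
      hmemD ⟨s, mem_cent_of ((hxiff s hsz).2 hsa)⟩ ⟨b, hJX (h.W_le hb)⟩ _ (by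
        show s * b * s⁻¹ * b⁻¹ = a
        rw [hsb b hb hb1 hba, mul_inv_cancel_right])
    have hZ : (⟨z, hJX h.z_mem⟩ : ↥(Subgroup.centralizer ({x} : Set G))) ∈ D :=
      hmemD ⟨j, hJX hj⟩ ⟨k, hJX hk⟩ _ (by
        show j * k * j⁻¹ * k⁻¹ = z
        rw [hjk]; group)
    rcases hx with hxa | hxa
    · rwa [show (⟨x, mem_cent_of rfl⟩ : ↥(Subgroup.centralizer ({x} : Set G))) = ⟨a, hJX (h.W_le ha)⟩ from
        Subtype.ext hxa]
    · rw [show (⟨x, mem_cent_of rfl⟩ : ↥(Subgroup.centralizer ({x} : Set G))) =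
        ⟨z, hJX h.z_mem⟩ * ⟨a, hJX (h.W_le ha)⟩ from Subtype.ext hxa]
      exact mul_mem hZ hA
  have hperf : D = ⊤ := eq_top_iff.2 fun v _ => by
    obtain ⟨d, hd, ed⟩ : q v ∈ D.map q := hDmap ▸ Subgroup.mem_top _
    rcases hq.eq_iff.1 ed with e' | e'
    · exact (show v = d from Subtype.ext e') ▸ hd
    · exact (show v = d * ⟨x, mem_cent_of rfl⟩ from Subtype.ext e') ▸ mul_mem hd hxD
  have hcen : Subgroup.center ↥(Subgroup.centralizer ({x} : Set G)) =
      (Subgroup.zpowers x).subgroupOf (Subgroup.centralizer ({x} : Set G)) := by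
    refine le_antisymm (fun v hv => ?_) fun v hv => Subgroup.mem_center_iff.2 fun w => ?_
    · rw [← QuotientGroup.eq_one_iff, ← Subgroup.mem_bot, ← center_bot_of_noncomm hnc, Subgroup.mem_center_iff]
      intro u
      obtain ⟨w, rfl⟩ := hq.surj u
      show q w * q v = q v * q w
      rw [← map_mul, ← map_mul, Subgroup.mem_center_iff.1 hv w]
    · obtain ⟨n, e'⟩ := Subgroup.mem_zpowers_iff.1 (Subgroup.mem_subgroupOf.1 hv)
      refine Subtype.ext ?_
      show (w : G) * v = v * w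
      rw [← e']
      exact (Commute.zpow_right (show Commute (w : G) x from Subgroup.mem_centralizer_singleton_iff.1 w.2) n).eq
  have hqs : Cfsg.IsQuasisimple ↥(Subgroup.centralizer ({x} : Set G)) :=
    ⟨⟨hperf⟩, ((QuotientGroup.quotientMulEquivOfEq hcen).trans ee).isSimpleGroup⟩
  refine h14 x (h.axis_order ha ha1 hx) hqs ⟨ee⟩ ?_
  obtain ⟨h1, h1'⟩ := h.conj_W h.c_z ha ha1
  have hne := h.moves ha ha1
  rcases hx with hxa | hxa
  · refine ⟨c, ?_, fun e => hne (by rw [hxa] at e; exact e)⟩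
    exact hJX (by rw [hxa]; exact h.W_le h1)
  · have e0 : c * x * c⁻¹ = z * (c * a * c⁻¹) := by
      rw [hxa, ← mul_assoc, h.c_z, mul_assoc z, mul_assoc z]
    refine ⟨c, hJX (e0 ▸ mul_mem h.z_mem (h.W_le h1)), fun e => hne ?_⟩
    rw [e0, hxa] at e
    exact mul_left_cancel e

variable {K : Type v} [Field K] [Fintype K] (hK : Fintype.card K = 4) (hS : TwoRecognition.{u, v} F K)
  (h14 : TransRecognition G) (hFi : IsSimpleGroup Cfsg.Spor.Fi22) (hnot : ¬ Cfsg.Spor.IsoFi23 G)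
include hK hS h14 hFi hnot

/-- The outcome at `x`: split, or the second one, at `a` only. -/
theorem split_or_middle : SplitAt z (Subgroup.centralizer ({x} : Set G)) ∨ (x = a ∧
    ∃ b, ∃ _ : b ∈ W, ∃ _ : b ≠ 1, ∃ _ : b ≠ a,
      ∃ (Q : Type u) (_ : Group Q) (_ : Finite Q) (q : ↥(Subgroup.centralizer ({x} : Set G)) →* Q)
        (hz : z ∈ Subgroup.centralizer ({x} : Set G)) (hb' : b ∈ Subgroup.centralizer ({x} : Set G)) (z₁ : Q),
      Onto x q ∧ (z₁ = q ⟨b, hb'⟩ ∨ z₁ = q ⟨z, hz⟩ * q ⟨b, hb'⟩) ∧ (∀ v : Q, v * z₁ = z₁ * v) ∧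
      (Subgroup.zpowers z₁).Normal ∧ z₁ ∉ Subgroup.zpowers (q ⟨z, hz⟩) ∧
      ∃ (G₀ : Subgroup Q) (_ : z₁ ∈ G₀), G₀.index = 2 ∧
        ∃ hn : ((Subgroup.zpowers z₁).subgroupOf G₀).Normal,
          Nonempty ((↥G₀ ⧸ (Subgroup.zpowers z₁).subgroupOf G₀) ≃* Cfsg.PSU 6 K 2)) := by
  obtain ⟨hxJ, hxx, hx1, hxz, hxc, -, hxiff⟩ := h.axis ha ha1 hx
  have hJX := h.J_le_cent_axis ha ha1 hx
  haveI := zpowers_normal_cent x
  set q := QuotientGroup.mk' ((Subgroup.zpowers x).subgroupOf (Subgroup.centralizer ({x} : Set G))) with hqdef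
  have hq : Onto x q := onto_mk hxx
  obtain ⟨-, halts, hmem⟩ := h.two_alts hF ha ha1 hx hq hS (hJX h.z_mem)
  rcases halts with hs | ⟨z₁, ho, hnp, ⟨h₁, hm, hcen⟩, hn, hG⟩ | hf
  · exact Or.inl (h.split_of_supplement hF ha ha1 hx hq _ hs)
  · obtain ⟨b, hb, hb1, hba⟩ := h.exists_other ha ha1
    obtain ⟨hxa, hval, hc⟩ := h.middle_cases hF ha ha1 hx hq hb hb1 hba _ (hJX (h.W_le hb)) hmem ho hnp h₁ hm hcen hn
    exact Or.inr ⟨hxa, b, hb, hb1, hba, _, inferInstance, inferInstance, q, _, _, z₁, hq, hval, hc, hn, hnp, hG⟩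
  · exact absurd (h.fiTwentyThree ha ha1 hx h14 hFi hf) hnot

end Layer

namespace Layer

variable {z c : G} {J W : Subgroup G} {φ : ↥(Subgroup.centralizer ({z} : Set G)) →* MulAut (Cfsg.PSp 2 F)}
  (h : Layer z c J W φ) (hF : Fintype.card F = 3)
  {K : Type v} [Field K] [Fintype K] (hK : Fintype.card K = 4) (hS : TwoRecognition.{u, v} F K)
  (h14 : TransRecognition G) (hFi : IsSimpleGroup Cfsg.Spor.Fi22) (hnot : ¬ Cfsg.Spor.IsoFi23 G)
include h hF hK hS h14 hFi hnot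

/-- The centralisers of the `z * a` split. -/
theorem twisted_split {a : G} (ha : a ∈ W) (ha1 : a ≠ 1) :
    SplitAt z (Subgroup.centralizer ({z * a} : Set G)) := by
  rcases h.split_or_middle hF ha ha1 (x := z * a) (Or.inr rfl) hK hS h14 hFi hnot with hs | ⟨hxa, -⟩
  · exact hs
  · exact absurd (mul_eq_right.1 hxa) h.z_ne

/-- The centraliser of `a` splits or gives `U₆(2)`. -/
theorem plain_cases {a : G} (ha : a ∈ W) (ha1 : a ≠ 1) :
    SplitAt z (Subgroup.centralizer ({a} : Set G)) ∨ ∃ b ∈ W, b ≠ 1 ∧ b ≠ a ∧ UAt K a b := by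
  classical
  rcases h.split_or_middle hF ha ha1 (x := a) (Or.inl rfl) hK hS h14 hFi hnot with
    hs | ⟨-, b, hb, hb1, hba, Q, _, _, q, hz, hb', z₁, hq, hval, hcen, hn, hnp, G₀, hz₁, hidx, hN, ⟨e⟩⟩
  · exact Or.inl hs
  right
  refine ⟨b, hb, hb1, hba, ?_⟩
  rcases hval with rfl | hz1
  · exact ⟨Q, inferInstance, inferInstance, q, hb', hq, hn, G₀, hz₁, hidx, hN, ⟨e⟩⟩
  exfalso
  obtain ⟨hUs, hUc, hUnc⟩ := psu_facts hK
  haveI := hUs
  haveI := hN
  obtain ⟨O, hOX, hodd, hOn, hdec⟩ := h.twisted_split hF hK hS h14 hFi hnot hb hb1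
  have hz1e : z₁ = q (⟨z, hz⟩ * ⟨b, hb'⟩) := by rw [map_mul]; exact hz1
  have hzb2 : z₁ * z₁ = 1 := by
    rw [hz1e, ← map_mul, show (⟨z, hz⟩ : ↥(Subgroup.centralizer ({a} : Set G))) * ⟨b, hb'⟩ *
      (⟨z, hz⟩ * ⟨b, hb'⟩) = 1 from Subtype.ext (h.axis hb hb1 (Or.inr rfl)).2.1, map_one]
  -- the preimage of `G₀` and its map onto `U₆(2)`
  set P := G₀.comap q with hP
  set π := (e.toMonoidHom.comp (QuotientGroup.mk' _)).comp (q.subgroupComap G₀) with hπ
  have hπs : Function.Surjective π := (e.surjective.comp (QuotientGroup.mk'_surjective _)).comp fun x => by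
    obtain ⟨y, hy⟩ := hq.surj x
    exact ⟨⟨y, by rw [Subgroup.mem_comap, hy]; exact x.2⟩, Subtype.ext hy⟩
  have hπk : ∀ p, π p = 1 → q (p : ↥(Subgroup.centralizer ({a} : Set G))) = 1 ∨
      q (p : ↥(Subgroup.centralizer ({a} : Set G))) = z₁ := by
    intro p hp
    have hp' : e (QuotientGroup.mk' _ (q.subgroupComap G₀ p)) = 1 := hp
    rw [MulEquiv.map_eq_one_iff, QuotientGroup.mk'_apply, QuotientGroup.eq_one_iff, Subgroup.mem_subgroupOf] at hp'
    exact (mem_zpowers_involution hzb2).1 hp'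
  set M : Subgroup ↥P :=
    ((Subgroup.centralizer ({z * b} : Set G)).subgroupOf (Subgroup.centralizer ({a} : Set G))).subgroupOf P with hM
  have hconj : ∀ g : ↥(Subgroup.centralizer ({a} : Set G)),
      (g : G) * (z * b) * (g : G)⁻¹ = z * b ∨ (g : G) * (z * b) * (g : G)⁻¹ = z * b * a := by
    intro g
    have h1 : q (g * (⟨z, hz⟩ * ⟨b, hb'⟩) * g⁻¹) = q (⟨z, hz⟩ * ⟨b, hb'⟩) := by
      rw [map_mul, map_mul, map_inv, ← hz1e, hcen, mul_inv_cancel_right]
    exact hq.eq_iff.1 h1.symm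
  have hMmem : ∀ p : ↥P, p ∈ M ↔
      ((p : ↥(Subgroup.centralizer ({a} : Set G))) : G) * (z * b) *
        ((p : ↥(Subgroup.centralizer ({a} : Set G))) : G)⁻¹ = z * b := fun p => by
    rw [hM, Subgroup.mem_subgroupOf, Subgroup.mem_subgroupOf, Subgroup.mem_centralizer_singleton_iff,
      mul_inv_eq_iff_eq_mul]
  have hpar : ∀ p p' : ↥P, p ∉ M → p' ∉ M → p * p' ∈ M := by
    intro p p' hp hp'
    set g := ((p : ↥(Subgroup.centralizer ({a} : Set G))) : G) with hg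
    set g' := ((p' : ↥(Subgroup.centralizer ({a} : Set G))) : G) with hg'
    have e1 : g * (z * b) * g⁻¹ = z * b * a := (hconj p).resolve_left fun e => hp ((hMmem p).2 e)
    have e2 : g' * (z * b) * g'⁻¹ = z * b * a := (hconj p').resolve_left fun e => hp' ((hMmem p').2 e)
    have e3 : g * a * g⁻¹ = a := mul_inv_eq_iff_eq_mul.2
      (Subgroup.mem_centralizer_singleton_iff.1 (p : ↥(Subgroup.centralizer ({a} : Set G))).2)
    refine (hMmem _).2 ?_
    show g * g' * (z * b) * (g * g')⁻¹ = z * b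
    rw [show g * g' * (z * b) * (g * g')⁻¹ = g * (g' * (z * b) * g'⁻¹) * g⁻¹ by group, e2,
      show g * (z * b * a) * g⁻¹ = g * (z * b) * g⁻¹ * (g * a * g⁻¹) by group, e1, e3, mul_assoc, h.W_sq a ha, mul_one]
  have htop : M.map π = ⊤ := top_of_parity (by rw [hUc]; norm_num) fun u w hu hw => by
    obtain ⟨p, rfl⟩ := hπs u
    obtain ⟨p', rfl⟩ := hπs w
    rw [← map_mul]
    exact Subgroup.mem_map_of_mem π (hpar p p' (fun hp => hu (Subgroup.mem_map_of_mem π hp))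
      fun hp => hw (Subgroup.mem_map_of_mem π hp))
  have hMX : ∀ p ∈ M, ((p : ↥(Subgroup.centralizer ({a} : Set G))) : G) ∈
      Subgroup.centralizer ({z * b} : Set G) := fun p hp => hp
  let ι : ↥P →* G := (Subgroup.centralizer ({a} : Set G)).subtype.comp P.subtype
  set N := (M ⊓ O.comap ι).map π with hN'
  haveI : N.Normal := ⟨fun u hu w => by
    obtain ⟨p, hp, rfl⟩ := hu
    obtain ⟨m, hm, rfl⟩ : w ∈ M.map π := htop ▸ Subgroup.mem_top _
    refine ⟨m * p * m⁻¹, ⟨M.mul_mem (M.mul_mem hm hp.1) (M.inv_mem hm), ?_⟩, by rw [map_mul, map_mul, map_inv]⟩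
    refine Subgroup.mem_comap.2 ?_
    rw [map_mul, map_mul, map_inv]
    exact hOn _ (hMX m hm) _ hp.2⟩
  have hNodd : Odd (Nat.card N) := by
    refine (hodd.of_dvd_nat ?_)
    refine dvd_trans (Subgroup.card_map_dvd _ π) ?_
    refine dvd_trans (Subgroup.card_dvd_of_le inf_le_right) ?_
    exact Subgroup.card_comap_dvd_of_injective O ι
      ((Subgroup.subtype_injective _).comp (Subgroup.subtype_injective _))
  have hNbot : N = ⊥ := (Subgroup.Normal.eq_bot_or_eq_top (H := N) inferInstance).resolve_right fun e' => by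
    rw [e', Subgroup.card_top, hUc] at hNodd
    exact absurd hNodd (by decide)
  -- `z` in `M`
  have hzP : (⟨z, hz⟩ : ↥(Subgroup.centralizer ({a} : Set G))) ∈ P := by
    obtain ⟨j, hj, k, hk, hjk⟩ := h.nonabelian
    have hJX := h.J_le_cent_axis ha ha1 (Or.inl rfl)
    have e0 : (⟨z, hz⟩ : ↥(Subgroup.centralizer ({a} : Set G))) =
        ⟨j, hJX hj⟩ * ⟨k, hJX hk⟩ * (⟨j, hJX hj⟩)⁻¹ * (⟨k, hJX hk⟩)⁻¹ := Subtype.ext (by
      show z = j * k * j⁻¹ * k⁻¹
      rw [hjk]; group)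
    rw [hP, Subgroup.mem_comap, e0, map_mul, map_mul, map_mul, map_inv, map_inv,
      Subgroup.mul_mem_iff_of_index_two hidx, Subgroup.mul_mem_iff_of_index_two hidx,
      Subgroup.mul_mem_iff_of_index_two hidx, inv_mem_iff, inv_mem_iff]
    tauto
  set zP : ↥P := ⟨⟨z, hz⟩, hzP⟩ with hzPdef
  have hzbz : Commute z (z * b) := (Commute.refl z).mul_right (h.W_z hb).symm
  have hzM : zP ∈ M := (hMmem _).2 (mul_inv_eq_iff_eq_mul.2 hzbz)
  have hcz : π zP ∈ Subgroup.center (Cfsg.PSU 6 K 2) := by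
    refine Subgroup.mem_center_iff.2 fun u => ?_
    obtain ⟨m, hm, rfl⟩ : u ∈ M.map π := htop ▸ Subgroup.mem_top _
    rw [← mul_inv_eq_iff_eq_mul, ← mul_inv_eq_one, ← map_mul, ← map_inv, ← map_mul, ← map_inv, ← map_mul,
      ← Subgroup.mem_bot, ← hNbot]
    refine ⟨_, ⟨M.mul_mem (M.mul_mem (M.mul_mem hm hzM) (M.inv_mem hm)) (M.inv_mem hzM), ?_⟩, rfl⟩
    refine Subgroup.mem_comap.2 ?_
    show ι m * z * (ι m)⁻¹ * z⁻¹ ∈ O
    obtain ⟨d, hdz, o, ho, ed⟩ := hdec _ (hMX m hm)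
    change ι m = d * o at ed
    have hzX : z ∈ Subgroup.centralizer ({z * b} : Set G) := mem_cent_of hzbz
    have hdX : d ∈ Subgroup.centralizer ({z * b} : Set G) := by
      rw [show d = ι m * o⁻¹ by rw [ed]; group]
      exact mul_mem (hMX m hm) (inv_mem (hOX ho))
    have e1 : d * z⁻¹ * d⁻¹ = z⁻¹ := mul_inv_eq_iff_eq_mul.2 (Commute.inv_right hdz).eq
    rw [ed, show d * o * z * (d * o)⁻¹ * z⁻¹ = d * (o * (z * o⁻¹ * z⁻¹)) * d⁻¹ by
      conv_lhs => rw [← e1]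
      group]
    exact hOn d hdX _ (mul_mem ho (hOn z hzX _ (inv_mem ho)))
  rw [center_bot_of_noncomm hUnc, Subgroup.mem_bot] at hcz
  rcases hπk zP hcz with e' | e'
  · change q ⟨z, hz⟩ = 1 at e'
    rcases (hq.ker _).1 e' with e2 | e2
    · exact h.z_ne e2
    · have e3 : z = a := e2
      exact h.z_not (by rw [e3]; exact ha)
  · change q ⟨z, hz⟩ = z₁ at e'
    exact hnp (e' ▸ Subgroup.mem_zpowers _)

end Layer

end CfsgLib.Recognition.FiTwentyThree
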