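import Cfsg.Agent.Lib.Recognition.FiTwentyThree.Fusion
import Cfsg.Prelude.Def_Spor_Fi22

/-!
# The centraliser of `a`, or of `z * a`, modulo that involution

It satisfies the hypotheses of the characterisation of `U₆(2)` and `Fi₂₂` by a centraliser with two-core
`2 × 2¹⁺⁸`.
-/

set_option autoImplicit false
set_option linter.unusedSectionVars false
set_option linter.style.haveILetI false

universe u v

namespace CfsgLib.Recognition.FiTwentyThree

open CfsgLib.Recognition.USixCentral (Onto mem_cent_of)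

/-- The three outcomes of that characterisation. -/
def TwoAlts (K : Type v) [Field K] [Fintype K] {Q : Type u} [Group Q] (z : Q) : Prop :=
  Subgroup.centralizer ({z} : Set Q) ⊔ Cfsg.oddCore Q = ⊤ ∨
    (∃ z₁ : Q, orderOf z₁ = 2 ∧ z₁ ∉ Subgroup.zpowers z ∧
      (∃ h₁ : z₁ ∈ Subgroup.centralizer ({z} : Set Q),
        (⟨z₁, h₁⟩ : ↥(Subgroup.centralizer ({z} : Set Q))) ∈ Cfsg.pCore 2 ↥(Subgroup.centralizer ({z} : Set Q)) ∧
        ∀ j ∈ Cfsg.pCore 2 ↥(Subgroup.centralizer ({z} : Set Q)), j * ⟨z₁, h₁⟩ = ⟨z₁, h₁⟩ * j) ∧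
      (Subgroup.zpowers z₁).Normal ∧
      ∃ (G₀ : Subgroup Q) (_ : z₁ ∈ G₀), G₀.index = 2 ∧
        ∃ hn : ((Subgroup.zpowers z₁).subgroupOf G₀).Normal,
          Nonempty ((↥G₀ ⧸ (Subgroup.zpowers z₁).subgroupOf G₀) ≃* Cfsg.PSU 6 K 2)) ∨
    Cfsg.Spor.IsoFi22 Q

/-- The characterisation itself, as a statement about all groups. -/
def TwoRecognition (F : Type*) [Field F] [Fintype F] (K : Type v) [Field K] [Fintype K] : Prop :=
  ∀ (Q : Type u) [Group Q] [Finite Q] (z : Q), orderOf z = 2 →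
    ∀ (A E : Subgroup ↥(Subgroup.centralizer ({z} : Set Q))),
      Cfsg.IsInternalDirectProduct A E (Cfsg.pCore 2 ↥(Subgroup.centralizer ({z} : Set Q))) → Nat.card ↥A = 2 →
      Cfsg.IsExtraspecial 2 ↥E → Nat.card ↥E = 2 ^ 9 →
      ∀ zc : ↥(Subgroup.centralizer ({z} : Set Q)), (zc : Q) = z →
      ⁅Cfsg.pCore 2 ↥(Subgroup.centralizer ({z} : Set Q)), Cfsg.pCore 2 ↥(Subgroup.centralizer ({z} : Set Q))⁆ =
        Subgroup.zpowers zc →
      Subgroup.centralizer ((Cfsg.pCore 2 ↥(Subgroup.centralizer ({z} : Set Q))) :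
        Set ↥(Subgroup.centralizer ({z} : Set Q))) ≤ Cfsg.pCore 2 ↥(Subgroup.centralizer ({z} : Set Q)) →
      Nonempty ((↥(Subgroup.centralizer ({z} : Set Q)) ⧸ Cfsg.pCore 2 ↥(Subgroup.centralizer ({z} : Set Q))) ≃*
        MulAut (Cfsg.PSp 2 F)) →
      TwoAlts.{u, v} K z

variable {G : Type u} [Group G] [Finite G] {F : Type*} [Field F] [Fintype F]

namespace Layer

variable {z c : G} {J W : Subgroup G} {φ : ↥(Subgroup.centralizer ({z} : Set G)) →* MulAut (Cfsg.PSp 2 F)}
  (h : Layer z c J W φ)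
include h

/-- Another involution of `W`. -/
theorem exists_other {a : G} (ha : a ∈ W) (ha1 : a ≠ 1) : ∃ b ∈ W, b ≠ 1 ∧ b ≠ a :=
  ⟨_, (h.conj_W h.c_z ha ha1).1, (h.conj_W h.c_z ha ha1).2, h.moves ha ha1⟩

theorem W_inv {w : G} (hw : w ∈ W) : w⁻¹ = w := inv_eq_of_mul_eq_one_right (h.W_sq w hw)

/-- The elements of `W`. -/
theorem W_cases {a b w : G} (ha : a ∈ W) (ha1 : a ≠ 1) (hb : b ∈ W) (hb1 : b ≠ 1) (hba : b ≠ a) (hw : w ∈ W) :
    w = 1 ∨ w = a ∨ w = b ∨ w = a * b := by
  by_cases hw1 : w = 1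
  · exact Or.inl hw1
  right
  by_contra hcon
  simp only [not_or] at hcon
  obtain ⟨n1, n2, n3⟩ := hcon
  have hab1 : a * b ≠ 1 := fun e => hba (by
    rw [mul_eq_one_iff_eq_inv', h.W_inv ha] at e; exact e)
  have hsub : ({1, a, b, a * b, w} : Set G) ⊆ (W : Set G) := by
    intro x hx
    rcases hx with rfl | rfl | rfl | rfl | rfl
    exacts [one_mem _, ha, hb, mul_mem ha hb, hw]
  have hc : ({1, a, b, a * b, w} : Set G).ncard = 5 := by
    rw [Set.ncard_insert_of_notMem, Set.ncard_insert_of_notMem, Set.ncard_insert_of_notMem, Set.ncard_pair]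
    · exact fun e => n3 e.symm
    · rintro (e | e)
      · exact ha1 (mul_eq_right.1 e.symm)
      · exact n2 e.symm
    · rintro (e | e | e)
      · exact hba e.symm
      · exact hb1 (mul_eq_left.1 (e : a = a * b).symm)
      · exact n1 (e : a = w).symm
    · rintro (e | e | e | e)
      · exact ha1 e.symm
      · exact hb1 e.symm
      · exact hab1 e.symm
      · exact hw1 (e : (1 : G) = w).symm
  have := Set.ncard_le_ncard hsub (Set.toFinite _)
  rw [hc, ← Nat.card_coe_set_eq] at this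
  change 5 ≤ Nat.card W at this
  rw [h.card_W] at this
  omega

theorem J_dec {E₀ : Subgroup G} (hE : E₀ ≤ J) (hc : Nat.card E₀ = 512) (hd : ∀ w ∈ W, w ∈ E₀ → w = 1)
    {j : G} (hj : j ∈ J) : ∃ w ∈ W, ∃ e ∈ E₀, j = w * e := by
  let f : ↥W × ↥E₀ → ↥J := fun p => ⟨(p.1 : G) * p.2, mul_mem (h.W_le p.1.2) (hE p.2.2)⟩
  have hf : Function.Injective f := fun p p' e => by
    have e' : (p.1 : G) * p.2 = (p'.1 : G) * p'.2 := congrArg Subtype.val e
    have h1 : (p'.1 : G)⁻¹ * p.1 = 1 := hd _ (mul_mem (inv_mem p'.1.2) p.1.2) (by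
      rw [show (p'.1 : G)⁻¹ * p.1 = (p'.2 : G) * (p.2 : G)⁻¹ by
        rw [eq_mul_inv_iff_mul_eq, mul_assoc, e', inv_mul_cancel_left]]
      exact mul_mem p'.2.2 (inv_mem p.2.2))
    rw [inv_mul_eq_one] at h1
    rw [← h1] at e'
    exact Prod.ext (Subtype.ext h1.symm) (Subtype.ext (mul_left_cancel e'))
  have hb : Function.Bijective f := (Nat.bijective_iff_injective_and_card f).2
    ⟨hf, by rw [Nat.card_prod, h.card_W, hc, h.card_J]⟩
  obtain ⟨p, hp⟩ := hb.2 ⟨j, hj⟩
  exact ⟨_, p.1.2, _, p.2.2, (congrArg Subtype.val hp).symm⟩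

section At

variable (hF : Fintype.card F = 3) {a x : G} (ha : a ∈ W) (ha1 : a ≠ 1) (hx : x = a ∨ x = z * a)
include hF ha ha1 hx

omit hF in
theorem J_le_cent_axis : J ≤ Subgroup.centralizer ({x} : Set G) := fun j hj =>
  mem_cent_of ((h.axis ha ha1 hx).2.2.2.2.1 j hj)

variable {Q : Type u} [Group Q] [Finite Q] {q : ↥(Subgroup.centralizer ({x} : Set G)) →* Q} (hq : Onto x q)
include hq

/-- An element whose image commutes with the image of `z` commutes with `z`. -/
theorem comm_zb (hz : z ∈ Subgroup.centralizer ({x} : Set G)) {y : ↥(Subgroup.centralizer ({x} : Set G))}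
    (hy : q y * q ⟨z, hz⟩ = q ⟨z, hz⟩ * q y) : (y : G) * z = z * y := by
  rw [← map_mul, ← map_mul, hq.eq_iff] at hy
  simp only [Subgroup.coe_mul] at hy
  rcases hy with e | e
  · exact e.symm
  · exfalso
    have e' : (y : G)⁻¹ * z * y = z * x := by
      rw [mul_assoc, e, mul_assoc, inv_mul_cancel_left]
    rcases hx with hxa | hxa
    · exact h.not_conj hF ha ha1 (Or.inr rfl) (y : G)⁻¹ (by rw [inv_inv, e', hxa])
    · exact h.not_conj hF ha ha1 (Or.inl rfl) (y : G)⁻¹ (by rw [inv_inv, e', hxa, ← mul_assoc, h.zz, one_mul])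

/-- The hypotheses of the characterisation, and its outcome. -/
theorem two_alts {K : Type v} [Field K] [Fintype K] (hS : TwoRecognition.{u, v} F K)
    (hz : z ∈ Subgroup.centralizer ({x} : Set G)) :
    orderOf (q ⟨z, hz⟩) = 2 ∧ TwoAlts K (q ⟨z, hz⟩) ∧
      ∀ v : ↥(Subgroup.centralizer ({q ⟨z, hz⟩} : Set Q)),
        v ∈ Cfsg.pCore 2 ↥(Subgroup.centralizer ({q ⟨z, hz⟩} : Set Q)) ↔
          (v : Q) ∈ (J.subgroupOf (Subgroup.centralizer ({x} : Set G))).map q := by
  classical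
  haveI : Fact (Nat.Prime 2) := ⟨Nat.prime_two⟩
  obtain ⟨hxJ, hxx, hx1, hxz, hxc, -, hxiff⟩ := h.axis ha ha1 hx
  have hJX := h.J_le_cent_axis ha ha1 hx
  -- the centraliser of both and its map onto the centraliser of the image
  set D : Subgroup ↥(Subgroup.centralizer ({z} : Set G)) :=
    (Subgroup.centralizer ({a} : Set G)).subgroupOf (Subgroup.centralizer ({z} : Set G)) with hD
  have hDa : ∀ d : ↥D, ((d : ↥(Subgroup.centralizer ({z} : Set G))) : G) * a =
      a * ((d : ↥(Subgroup.centralizer ({z} : Set G))) : G) := fun d =>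
    Subgroup.mem_centralizer_singleton_iff.1 (Subgroup.mem_subgroupOf.1 d.2)
  have hDz : ∀ d : ↥D, ((d : ↥(Subgroup.centralizer ({z} : Set G))) : G) * z =
      z * ((d : ↥(Subgroup.centralizer ({z} : Set G))) : G) := fun d =>
    Subgroup.mem_centralizer_singleton_iff.1 (d : ↥(Subgroup.centralizer ({z} : Set G))).2
  have hDx : ∀ d : ↥D, ((d : ↥(Subgroup.centralizer ({z} : Set G))) : G) * x =
      x * ((d : ↥(Subgroup.centralizer ({z} : Set G))) : G) := fun d => (hxiff _ (hDz d)).2 (hDa d)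
  let ι : ↥D →* ↥(Subgroup.centralizer ({x} : Set G)) :=
    { toFun := fun d => ⟨((d : ↥(Subgroup.centralizer ({z} : Set G))) : G), mem_cent_of (hDx d)⟩
      map_one' := Subtype.ext rfl
      map_mul' := fun _ _ => Subtype.ext rfl }
  set zq := q ⟨z, hz⟩ with hzq
  let r : ↥D →* ↥(Subgroup.centralizer ({zq} : Set Q)) := (q.comp ι).codRestrict _ fun d =>
    mem_cent_of (by
      show q (ι d) * zq = zq * q (ι d)
      rw [hzq, ← map_mul, ← map_mul]
      exact congrArg q (Subtype.ext (hDz d)))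
  have hrv : ∀ d, ((r d : ↥(Subgroup.centralizer ({zq} : Set Q))) : Q) = q (ι d) := fun d => rfl
  have hr : Function.Surjective r := fun v => by
    obtain ⟨y, hy⟩ := hq.surj (v : Q)
    have hv := Subgroup.mem_centralizer_singleton_iff.1 v.2
    rw [← hy, hzq] at hv
    have hyz := h.comm_zb hF ha ha1 hx hq hz hv
    have hyx : (y : G) * x = x * y := Subgroup.mem_centralizer_singleton_iff.1 y.2
    refine ⟨⟨⟨y, mem_cent_of hyz⟩, Subgroup.mem_subgroupOf.2 (mem_cent_of ((hxiff _ hyz).1 hyx))⟩, Subtype.ext ?_⟩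
    rw [hrv]
    exact (congrArg q (Subtype.ext rfl)).trans hy
  have hr1 : ∀ d, r d = 1 ↔ ((d : ↥(Subgroup.centralizer ({z} : Set G))) : G) = 1 ∨
      ((d : ↥(Subgroup.centralizer ({z} : Set G))) : G) = x := fun d => by
    rw [← Subtype.coe_inj, hrv, OneMemClass.coe_one, hq.ker]
    rfl
  have hreq : ∀ d e, r d = r e ↔ ((e : ↥(Subgroup.centralizer ({z} : Set G))) : G) =
      ((d : ↥(Subgroup.centralizer ({z} : Set G))) : G) ∨ ((e : ↥(Subgroup.centralizer ({z} : Set G))) : G) =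
      ((d : ↥(Subgroup.centralizer ({z} : Set G))) : G) * x := fun d e => by
    rw [← Subtype.coe_inj, hrv, hrv, hq.eq_iff]
    rfl
  have hφJ : ∀ g : ↥(Subgroup.centralizer ({z} : Set G)), (g : G) ∈ J → φ g = 1 := fun g hg =>
    (h.ker g).2 ⟨0, by rwa [pow_zero, inv_one, one_mul]⟩
  set φ' := φ.comp D.subtype with hφ'
  have hle : r.ker ≤ φ'.ker := fun d hd => by
    refine hφJ _ ?_
    rcases (hr1 d).1 (MonoidHom.mem_ker.1 hd) with e | e <;>
      rw [show ((D.subtype d : ↥(Subgroup.centralizer ({z} : Set G))) : G) = _ from e]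
    · exact one_mem _
    · exact hxJ
  set ψ := r.liftOfSurjective hr ⟨φ', hle⟩ with hψ
  have hψr : ∀ d, ψ (r d) = φ (d : ↥(Subgroup.centralizer ({z} : Set G))) :=
    fun d => MonoidHom.liftOfRightInverse_comp_apply _ _ _ _ d
  have htop : ψ.range = ⊤ := eq_top_iff.2 fun s _ => by
    obtain ⟨g, rfl⟩ := h.surj s
    obtain ⟨d, hda, hd⟩ := h.exists_fix ha ha1 g
    exact ⟨r ⟨d, Subgroup.mem_subgroupOf.2 (mem_cent_of hda)⟩, by rw [hψr]; exact hd⟩
  let jf : ↥J → ↥D := fun j => ⟨⟨j, h.le_C j.2⟩, Subgroup.mem_subgroupOf.2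
    (mem_cent_of (h.W_cent a ha j j.2).symm)⟩
  have hjmul : ∀ j k : ↥J, r (jf j) * r (jf k) = r (jf (j * k)) := fun j k => (map_mul r _ _).symm
  have hmem : ∀ d, r d ∈ ψ.ker ↔ ((d : ↥(Subgroup.centralizer ({z} : Set G))) : G) ∈ J := fun d => by
    rw [MonoidHom.mem_ker, hψr]
    exact ⟨h.fix_ker ha ha1 (hDa d), hφJ _⟩
  have hex : ∀ v ∈ ψ.ker, ∃ j : ↥J, r (jf j) = v := fun v hv => by
    obtain ⟨d, rfl⟩ := hr v
    exact ⟨⟨_, (hmem d).1 hv⟩, rfl⟩
  let f : ↥J →* ↥(Subgroup.centralizer ({zq} : Set Q)) :=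
    { toFun := fun j => r (jf j), map_one' := map_one r, map_mul' := fun j k => (hjmul j k).symm }
  have hfrange : ψ.ker = f.range := Subgroup.ext fun v =>
    ⟨fun hv => hex v hv, by rintro ⟨j, rfl⟩; exact (hmem _).2 j.2⟩
  have h2 : IsPGroup 2 ψ.ker := by
    rw [hfrange, MonoidHom.range_eq_map]
    exact (h.J_two.of_equiv Subgroup.topEquiv.symm).map f
  have hInn : Cfsg.Inn (Cfsg.PSp 2 F) ≤ ψ.range := htop ▸ le_top
  have hP := CfsgLib.Recognition.USixCentral.pCore_eq_ker hF ψ.ker ψ rfl hInn h2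
  have hiso : Nonempty ((↥(Subgroup.centralizer ({zq} : Set Q)) ⧸
      Cfsg.pCore 2 ↥(Subgroup.centralizer ({zq} : Set Q))) ≃* MulAut (Cfsg.PSp 2 F)) :=
    ⟨(QuotientGroup.quotientMulEquivOfEq hP).trans ((QuotientGroup.quotientKerEquivRange ψ).trans
      ((MulEquiv.subgroupCongr htop).trans Subgroup.topEquiv))⟩
  -- the direct product
  obtain ⟨E₀, hE₀, hzE, hEc, hEW⟩ := h.compl
  obtain ⟨b, hb, hb1, hba⟩ := h.exists_other ha ha1
  let jb : ↥J := ⟨b, h.W_le hb⟩
  let jz : ↥J := ⟨z, h.z_mem⟩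
  have hjz : (f jz : Q) = zq := rfl
  have hfeq : ∀ j k : ↥J, f j = f k ↔ (k : G) = j ∨ (k : G) = (j : G) * x := fun j k => hreq (jf j) (jf k)
  have hbb : f jb * f jb = 1 := by
    rw [← map_mul, show jb * jb = 1 from Subtype.ext (h.W_sq b hb), map_one]
  have hfb : f jb ≠ 1 := fun e => by
    rcases (hfeq jb 1).1 (e.trans (map_one f).symm) with e' | e'
    · exact hb1 e'.symm
    · have e0 : (1 : G) = b * x := e'
      have e'' : b = x := by
        rw [← mul_one b, ← hxx, ← mul_assoc, ← e0, one_mul]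
      rcases hx with hxa | hxa
      · exact hba (e''.trans hxa)
      · refine h.z_not ?_
        have := mul_mem hb ha
        rwa [e'', hxa, mul_assoc, h.W_sq a ha, mul_one] at this
  have hxE : x ∉ E₀ := fun e => by
    rcases hx with hxa | hxa
    · exact ha1 (hEW a ha (hxa ▸ e))
    · refine ha1 (hEW a ha ?_)
      have := mul_mem hzE e
      rwa [hxa, ← mul_assoc, h.zz, one_mul] at this
  let g : ↥E₀ →* ↥(Subgroup.centralizer ({zq} : Set Q)) := f.comp (Subgroup.inclusion hE₀)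
  have hginj : Function.Injective g := fun e e' hee => by
    rcases (hfeq _ _).1 hee with h' | h'
    · exact Subtype.ext (h' : (e' : G) = e).symm
    · refine absurd ?_ hxE
      have := mul_mem (inv_mem e.2) e'.2
      rwa [show (e' : G) = (e : G) * x from h', inv_mul_cancel_left] at this
  set A := Subgroup.zpowers (f jb) with hA
  set E := g.range with hEdef
  have hAc : Nat.card A = 2 := by
    rw [hA, Nat.card_zpowers]
    exact orderOf_eq_prime (by rw [pow_two, hbb]) hfb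
  have hEcard : Nat.card E = 512 := by
    rw [← hEc]; exact (Nat.card_congr (MonoidHom.ofInjective hginj).toEquiv).symm
  have hfcomm : ∀ j k : ↥J, f j * f k = f k * f j → (j : G) * k = k * j := fun j k e => by
    rw [← map_mul, ← map_mul, hfeq] at e
    rcases h.comm j j.2 k k.2 with c' | c'
    · exact c'
    · exfalso
      simp only [Subgroup.coe_mul] at e
      rcases e with e | e
      · rw [e] at c'
        exact h.z_ne (mul_eq_right.1 c'.symm)
      · rw [c', mul_assoc z, hxc _ (mul_mem k.2 j.2), ← mul_assoc] at e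
        have h1 : (1 : G) = z * x := mul_right_cancel ((one_mul _).trans e)
        exact hxz (by rw [← one_mul x, ← h.zz, mul_assoc, ← h1, mul_one])
  have hEext : Cfsg.IsExtraspecial 2 ↥E := by
    refine CfsgLib.Recognition.USixCentral.extraspecial_nine (w := g ⟨z, hzE⟩) hEcard ?_ ⟨_, rfl⟩ ?_ ?_ ?_
    · rw [← map_mul, show (⟨z, hzE⟩ : ↥E₀) * ⟨z, hzE⟩ = 1 from Subtype.ext h.zz, map_one]
    · rintro _ ⟨e, rfl⟩
      rw [← map_mul, ← map_mul]
      exact congrArg g (Subtype.ext (h.J_z e (hE₀ e.2)))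
    · rintro _ ⟨e, rfl⟩ _ ⟨e', rfl⟩
      rcases h.comm e (hE₀ e.2) e' (hE₀ e'.2) with c' | c'
      · exact Or.inl (by rw [← map_mul, ← map_mul]; exact congrArg g (Subtype.ext c'))
      · exact Or.inr (by rw [← map_mul, ← map_mul, ← map_mul]; exact congrArg g (Subtype.ext c'))
    · rintro _ ⟨e, rfl⟩ hall
      have hc : ∀ k ∈ J, (e : G) * k = k * e := by
        intro k hk
        obtain ⟨w, hw, e', he', rfl⟩ := h.J_dec hE₀ hEc hEW hk
        have h0 : (e : G) * e' = e' * e :=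
          hfcomm (Subgroup.inclusion hE₀ e) (Subgroup.inclusion hE₀ ⟨e', he'⟩) (hall _ ⟨_, rfl⟩)
        rw [← mul_assoc, ← h.W_cent w hw e (hE₀ e.2), mul_assoc, h0, ← mul_assoc]
      rcases h.centre e (hE₀ e.2) hc with e1 | e1
      · exact Or.inl (by rw [show e = 1 from Subtype.ext (hEW _ e1 e.2), map_one])
      · refine Or.inr (congrArg g (Subtype.ext ?_))
        have := hEW _ e1 (mul_mem hzE e.2)
        show (e : G) = z
        rw [← one_mul (e : G), ← h.zz, mul_assoc, this, mul_one]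
  have hAPf : A ≤ f.range := Subgroup.zpowers_le.2 ⟨jb, rfl⟩
  have hEP : E ≤ f.range := by rintro _ ⟨e, rfl⟩; exact ⟨_, rfl⟩
  have hA2 : ∀ v ∈ A, v = 1 ∨ v = f jb := fun v hv =>
    (CfsgLib.ThreeTransp.Extraspecial.mem_zpowers_involution hbb).1 hv
  have hprod : Cfsg.IsInternalDirectProduct A E (Cfsg.pCore 2 ↥(Subgroup.centralizer ({zq} : Set Q))) := by
    rw [hP, hfrange]
    refine ⟨hAPf, hEP, ?_, ?_, le_antisymm (sup_le hAPf hEP) ?_⟩
    · rintro v hv _ ⟨e, rfl⟩
      rcases hA2 v hv with rfl | rfl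
      · rw [one_mul, mul_one]
      · show f jb * f _ = f _ * f jb
        rw [← map_mul, ← map_mul]
        exact congrArg f (Subtype.ext (h.W_cent b hb e (hE₀ e.2)))
    · refine eq_bot_iff.2 fun v hv => ?_
      rcases hA2 v hv.1 with rfl | rfl
      · exact one_mem _
      exfalso
      obtain ⟨e, he⟩ := hv.2
      rcases (hfeq _ _).1 he with e' | e' <;> change b = _ at e'
      · exact hb1 (hEW b hb (e' ▸ e.2))
      · have h1 : b * x ∈ E₀ := by rw [e', mul_assoc, hxx, mul_one]; exact e.2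
        rcases hx with hxa | hxa <;> rw [hxa] at h1
        · refine hba ?_
          have := hEW _ (mul_mem hb ha) h1
          rwa [mul_eq_one_iff_eq_inv, h.W_inv ha] at this
        · have h2' : b * a ∈ E₀ := by
            have := mul_mem hzE h1
            rwa [← mul_assoc, ← h.W_z hb, mul_assoc b, ← mul_assoc z, h.zz, one_mul] at this
          refine hba ?_
          have := hEW _ (mul_mem hb ha) h2'
          rwa [mul_eq_one_iff_eq_inv, h.W_inv ha] at this
    · rintro _ ⟨j, rfl⟩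
      obtain ⟨w, hw, e, he, hjwe⟩ := h.J_dec hE₀ hEc hEW j.2
      have hj' : j = ⟨w, h.W_le hw⟩ * ⟨e, hE₀ he⟩ := Subtype.ext hjwe
      rw [hj', map_mul]
      refine mul_mem ?_ (Subgroup.mem_sup_right ⟨⟨e, he⟩, rfl⟩)
      have hfa : f ⟨a, h.W_le ha⟩ ∈ A ⊔ E := by
        rcases hx with hxa | hxa
        · rw [(hfeq _ 1).2 (Or.inr (by show (1 : G) = a * x; rw [hxa, h.W_sq a ha])), map_one]
          exact one_mem _
        · rw [(hfeq _ jz).2 (Or.inr (by
            show z = a * x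
            rw [hxa, ← mul_assoc, h.W_z ha, mul_assoc, h.W_sq a ha, mul_one]))]
          exact Subgroup.mem_sup_right ⟨⟨z, hzE⟩, rfl⟩
      have hfb' : f jb ∈ A ⊔ E := Subgroup.mem_sup_left (Subgroup.mem_zpowers _)
      rcases h.W_cases ha ha1 hb hb1 hba hw with rfl | rfl | rfl | rfl
      · rw [show (⟨1, _⟩ : ↥J) = 1 from rfl, map_one]; exact one_mem _
      · exact hfa
      · exact hfb'
      · rw [show (⟨a * b, _⟩ : ↥J) = ⟨a, h.W_le ha⟩ * jb from rfl, map_mul]
        exact mul_mem hfa hfb'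
  have hcomm : ⁅Cfsg.pCore 2 ↥(Subgroup.centralizer ({zq} : Set Q)), Cfsg.pCore 2 ↥(Subgroup.centralizer ({zq} : Set Q))⁆ =
      Subgroup.zpowers (f jz) := by
    rw [hP, hfrange]
    refine le_antisymm (Subgroup.commutator_le.2 ?_) (Subgroup.zpowers_le.2 ?_)
    · rintro _ ⟨j, rfl⟩ _ ⟨k, rfl⟩
      rw [commutatorElement_def, ← map_inv, ← map_inv, ← map_mul, ← map_mul, ← map_mul]
      rcases h.comm j j.2 k k.2 with c' | c'
      · rw [show j * k * j⁻¹ * k⁻¹ = 1 from Subtype.ext (by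
          show (j : G) * k * (j : G)⁻¹ * (k : G)⁻¹ = 1
          rw [c']; group), map_one]
        exact one_mem _
      · rw [show j * k * j⁻¹ * k⁻¹ = jz from Subtype.ext (by
          show (j : G) * k * (j : G)⁻¹ * (k : G)⁻¹ = z
          rw [c']; group)]
        exact Subgroup.mem_zpowers _
    · obtain ⟨j, hj, k, hk, e⟩ := h.nonabelian
      have e' : jz = (⟨j, hj⟩ : ↥J) * ⟨k, hk⟩ * (⟨j, hj⟩)⁻¹ * (⟨k, hk⟩)⁻¹ := Subtype.ext (by
        show z = j * k * j⁻¹ * k⁻¹
        rw [e]; group)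
      rw [e', map_mul, map_mul, map_mul, map_inv, map_inv]
      exact Subgroup.commutator_mem_commutator ⟨_, rfl⟩ ⟨_, rfl⟩
  have hCJ : Subgroup.centralizer ((Cfsg.pCore 2 ↥(Subgroup.centralizer ({zq} : Set Q))) :
      Set ↥(Subgroup.centralizer ({zq} : Set Q))) ≤ Cfsg.pCore 2 ↥(Subgroup.centralizer ({zq} : Set Q)) := by
    rw [hP]
    intro v hv
    obtain ⟨d, rfl⟩ := hr v
    set S := (Subgroup.centralizer (ψ.ker : Set ↥(Subgroup.centralizer ({zq} : Set Q)))).comap r with hS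
    have hS2 : IsPGroup 2 (S.map φ') := by
      rintro ⟨_, s, hs, rfl⟩
      refine ⟨1, Subtype.ext ?_⟩
      show φ' s ^ (2 ^ 1) = 1
      rw [pow_one, pow_two, ← map_mul]
      refine hφJ _ (h.cent_le _ fun j hj => ?_)
      have h1 := Subgroup.mem_centralizer_iff.1 (Subgroup.mem_comap.1 hs) _ ((hmem (jf ⟨j, hj⟩)).2 hj)
      rw [← map_mul, ← map_mul, hreq] at h1
      show (s : ↥(Subgroup.centralizer ({z} : Set G))).1 * (s : ↥(Subgroup.centralizer ({z} : Set G))).1 * j = _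
      set e := ((s : ↥(Subgroup.centralizer ({z} : Set G))) : G) with he
      change e * j = j * e ∨ e * j = j * e * x at h1
      have hex' : e * x = x * e := hDx s
      rcases h1 with h1 | h1
      · rw [mul_assoc, h1, ← mul_assoc, h1, mul_assoc]
        rfl
      · calc e * e * j = e * (e * j) := mul_assoc _ _ _
          _ = e * (j * e * x) := by rw [h1]
          _ = e * j * (e * x) := by group
          _ = j * e * x * (e * x) := by rw [h1]
          _ = j * e * (x * e) * x := by group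
          _ = j * (e * e) * (x * x) := by rw [← hex']; group
          _ = j * (e * e) := by rw [hxx, mul_one]
    have hbot : S.map φ' = ⊥ := CfsgLib.Recognition.USixCentral.two_group_bot hF hS2 fun s n hn => by
      obtain ⟨t, ht, rfl⟩ := hn
      obtain ⟨g', hg⟩ := h.surj (MulAut.conj s)
      obtain ⟨d', hda, hd⟩ := h.exists_fix ha ha1 g'
      refine ⟨⟨d', Subgroup.mem_subgroupOf.2 (mem_cent_of hda)⟩ * t * ⟨d', Subgroup.mem_subgroupOf.2
        (mem_cent_of hda)⟩⁻¹, ?_, by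
          have e0 : φ' ⟨d', Subgroup.mem_subgroupOf.2 (mem_cent_of hda)⟩ = MulAut.conj s := hd.trans hg
          rw [map_mul, map_mul, map_inv, e0]⟩
      refine Subgroup.mem_comap.2 ?_
      rw [map_mul, map_mul, map_inv]
      refine Subgroup.mem_centralizer_iff.2 fun w hw => ?_
      set m := r ⟨d', Subgroup.mem_subgroupOf.2 (mem_cent_of hda)⟩
      have h1 := Subgroup.mem_centralizer_iff.1 (Subgroup.mem_comap.1 ht) _ (ψ.normal_ker.conj_mem' _ hw m)
      calc w * (m * r t * m⁻¹) = m * (m⁻¹ * w * m * r t) * m⁻¹ := by group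
        _ = _ := by rw [h1]; group
    refine (hmem d).2 (h.fix_ker ha ha1 (hDa d) ?_)
    exact Subgroup.mem_bot.1 (hbot ▸ Subgroup.mem_map_of_mem φ' (Subgroup.mem_comap.2 hv))
  have hord : orderOf zq = 2 := orderOf_eq_prime (by
    rw [pow_two, hzq, ← map_mul, show (⟨z, hz⟩ : ↥(Subgroup.centralizer ({x} : Set G))) * ⟨z, hz⟩ = 1 from
      Subtype.ext h.zz, map_one]) fun e => by
    rcases (hq.ker _).1 e with e' | e'
    · exact h.z_ne e'
    · exact hxz e'.symm
  refine ⟨hord, hS Q zq hord A E hprod hAc hEext (by rw [hEcard]; norm_num) (f jz) hjz hcomm hCJ hiso, fun v => ?_⟩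
  rw [hP, hfrange]
  constructor
  · rintro ⟨j, rfl⟩
    exact ⟨ι (jf j), Subgroup.mem_subgroupOf.2 j.2, rfl⟩
  · rintro ⟨y, hy, e⟩
    exact ⟨⟨y, Subgroup.mem_subgroupOf.1 hy⟩, Subtype.ext ((congrArg q (Subtype.ext rfl)).trans e)⟩

end At

end Layer

end CfsgLib.Recognition.FiTwentyThree
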