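import Cfsg.Agent.Lib.Recognition.FiTwentyThree.Layer
import Cfsg.Agent.Lib.Recognition.FiTwentyThree.TwinMain

/-!
# The data of the normal four-group argument from the configuration of the centraliser
-/

set_option autoImplicit false
set_option linter.unusedSectionVars false
set_option linter.style.haveILetI false

universe u

namespace CfsgLib.Recognition.FiTwentyThree

variable {G : Type u} [Group G] [Finite G] {F : Type*} [Field F] [Fintype F]

/-- A normal subgroup of the automorphism group of a simple group with trivial centre is trivial or contains the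
inner automorphisms. -/
theorem normal_mulAut {P : Type*} [Group P] [IsSimpleGroup P] (hc : Subgroup.center P = ⊥)
    {N : Subgroup (MulAut P)} [N.Normal] : N = ⊥ ∨ ∀ s : P, MulAut.conj s ∈ N := by
  rcases Subgroup.Normal.eq_bot_or_eq_top (H := N.comap (MulAut.conj : P →* MulAut P)) inferInstance with e | e
  · refine Or.inl ((Subgroup.eq_bot_iff_forall _).2 fun n hn => MulEquiv.ext fun s => ?_)
    have h1 : MulAut.conj s * n * (MulAut.conj s)⁻¹ * n⁻¹ ∈ N :=
      mul_mem (Subgroup.Normal.conj_mem inferInstance _ hn _) (inv_mem hn)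
    have h2 : MulAut.conj s * n * (MulAut.conj s)⁻¹ * n⁻¹ = MulAut.conj (s * n s⁻¹) := by
      ext x
      simp [mul_assoc]
    rw [h2] at h1
    have h3 : s * n s⁻¹ ∈ N.comap (MulAut.conj : P →* MulAut P) := h1
    rw [e, Subgroup.mem_bot, map_inv, mul_inv_eq_one] at h3
    simpa using h3.symm
  · exact Or.inr fun s => show s ∈ N.comap (MulAut.conj : P →* MulAut P) from e ▸ Subgroup.mem_top s

namespace Layer

variable {z c : G} {J W : Subgroup G} {φ : ↥(Subgroup.centralizer ({z} : Set G)) →* MulAut (Cfsg.PSp 2 F)}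
  (h : Layer z c J W φ)
include h

theorem centre_iff {j : G} (hj : j ∈ J) : (∀ k ∈ J, j * k = k * j) ↔ (j ∈ W ∨ z * j ∈ W) := by
  refine ⟨h.centre j hj, ?_⟩
  rintro (e | e) k hk
  · exact h.W_cent j e k hk
  · rw [show j = z * (z * j) by rw [← mul_assoc, h.zz, one_mul]]
    exact ((Commute.symm (h.J_z k hk)).mul_left (h.W_cent _ e k hk)).eq

/-- An element acting trivially on `J` modulo its centre lies in `J`. -/
theorem ker_centre (hF : Fintype.card F = 3) {g : G} (hgz : g * z = z * g)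
    (hg : ∀ j ∈ J, g * j * g⁻¹ * j⁻¹ ∈ W ∨ z * (g * j * g⁻¹ * j⁻¹) ∈ W) : g ∈ J := by
  classical
  haveI := CfsgLib.Classical.psp_isSimpleGroup (F := F) 2 le_rfl (fun _ => hF.ge)
  obtain ⟨hS, -⟩ := CfsgLib.Recognition.USixTwoOuter.card_aut_psp_three hF
  haveI : Finite (Cfsg.PSp 2 F) := Nat.finite_of_card_ne_zero (by rw [hS]; norm_num)
  have hnc : ¬ ∀ a b : Cfsg.PSp 2 F, a * b = b * a := fun hab => by
    letI : CommGroup (Cfsg.PSp 2 F) := { (inferInstance : Group (Cfsg.PSp 2 F)) with mul_comm := hab }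
    have hp := IsSimpleGroup.prime_card (α := Cfsg.PSp 2 F)
    rw [hS] at hp
    exact absurd hp (by norm_num)
  have hcb : Subgroup.center (Cfsg.PSp 2 F) = ⊥ :=
    (Subgroup.Normal.eq_bot_or_eq_top inferInstance).resolve_right fun e => hnc fun a b =>
      Subgroup.mem_center_iff.1 (show b ∈ Subgroup.center _ by rw [e]; trivial) a
  -- the centre of `J`
  let Z : Subgroup G := J ⊓ Subgroup.centralizer (J : Set G)
  have hZ : ∀ {x : G}, x ∈ Z ↔ x ∈ J ∧ (x ∈ W ∨ z * x ∈ W) := fun {x} =>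
    ⟨fun hx => ⟨hx.1, (h.centre_iff hx.1).1 fun k hk => (Subgroup.mem_centralizer_iff.1 hx.2 k hk).symm⟩,
      fun hx => ⟨hx.1, Subgroup.mem_centralizer_iff.2 fun k hk => ((h.centre_iff hx.1).2 hx.2 k hk).symm⟩⟩
  have hZn : ∀ p, p * z = z * p → ∀ x ∈ Z, p * x * p⁻¹ ∈ Z := by
    intro p hp x hx
    obtain ⟨hxJ, hx⟩ := hZ.1 hx
    refine hZ.2 ⟨h.norm p hp x hxJ, hx.imp (h.norm_W p hp x) fun e => ?_⟩
    have h1 := h.norm_W p hp _ e
    rwa [show p * (z * x) * p⁻¹ = p * z * p⁻¹ * (p * x * p⁻¹) by group, hp, mul_inv_cancel_right] at h1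
  have hpz : ∀ p : ↥(Subgroup.centralizer ({z} : Set G)), (p : G) * z = z * p := fun p =>
    Subgroup.mem_centralizer_singleton_iff.1 p.2
  -- the elements trivial modulo the centre
  let A : Subgroup ↥(Subgroup.centralizer ({z} : Set G)) :=
    { carrier := {p | ∀ j ∈ J, (p : G) * j * (p : G)⁻¹ * j⁻¹ ∈ Z}
      one_mem' := fun j _ => by simp [Z.one_mem]
      mul_mem' := fun {p q} hp hq j hj => by
        show (p : G) * q * j * ((p : G) * q)⁻¹ * j⁻¹ ∈ Z
        rw [show (p : G) * q * j * ((p : G) * q)⁻¹ * j⁻¹ =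
          (p : G) * ((q : G) * j * (q : G)⁻¹ * j⁻¹) * (p : G)⁻¹ * ((p : G) * j * (p : G)⁻¹ * j⁻¹) by group]
        exact mul_mem (hZn _ (hpz p) _ (hq j hj)) (hp j hj)
      inv_mem' := fun {p} hp j hj => by
        show (p : G)⁻¹ * j * (p : G)⁻¹⁻¹ * j⁻¹ ∈ Z
        have h1 := hZn _ (hpz p⁻¹) _ (inv_mem (hp j hj))
        rw [Subgroup.coe_inv] at h1
        convert h1 using 1
        group }
  have hAmem : ∀ {p : ↥(Subgroup.centralizer ({z} : Set G))}, p ∈ A ↔ ∀ j ∈ J, (p : G) * j * (p : G)⁻¹ * j⁻¹ ∈ Z :=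
    Iff.rfl
  haveI hAn : A.Normal := ⟨fun p hp q => hAmem.2 fun j hj => by
    have h1 := hZn _ (hpz q) _ (hAmem.1 hp _ (h.norm _ (hpz q⁻¹) j hj))
    simp only [Subgroup.coe_inv, Subgroup.coe_mul] at h1 ⊢
    convert h1 using 1
    group⟩
  let B : Subgroup ↥(Subgroup.centralizer ({z} : Set G)) :=
    A ⊓ (Subgroup.centralizer (W : Set G)).subgroupOf (Subgroup.centralizer ({z} : Set G))
  have hBW : ∀ {p : ↥(Subgroup.centralizer ({z} : Set G))}, p ∈ B → ∀ x ∈ Z, (p : G) * x = x * p := by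
    intro p hp x hx
    have h1 := Subgroup.mem_centralizer_iff.1 (Subgroup.mem_subgroupOf.1 hp.2)
    rcases (hZ.1 hx).2 with e | e
    · exact (h1 x e).symm
    · rw [show x = z * (z * x) by rw [← mul_assoc, h.zz, one_mul]]
      exact (Commute.mul_right (hpz p) (h1 _ e).symm).eq
  haveI hBn : B.Normal := ⟨fun p hp q => ⟨hAn.conj_mem p hp.1 q, Subgroup.mem_subgroupOf.2
    (Subgroup.mem_centralizer_iff.2 fun x hx => by
      have h1 := Subgroup.mem_centralizer_iff.1 (Subgroup.mem_subgroupOf.1 hp.2) _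
        (h.norm_W _ (hpz q⁻¹) x hx)
      simp only [Subgroup.coe_mul, Subgroup.coe_inv, inv_inv] at h1 ⊢
      calc x * ((q : G) * p * (q : G)⁻¹) = (q : G) * ((q : G)⁻¹ * x * q * p) * (q : G)⁻¹ := by group
        _ = _ := by rw [h1]; group)⟩⟩
  have hBab : ∀ {p q : ↥(Subgroup.centralizer ({z} : Set G))}, p ∈ B → q ∈ B → φ p * φ q = φ q * φ p := by
    intro p q hp hq
    have hJ : ((p * q * p⁻¹ * q⁻¹ : ↥(Subgroup.centralizer ({z} : Set G))) : G) ∈ J := by
      refine h.cent_le _ fun j hj => mul_inv_eq_iff_eq_mul.1 ?_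
      simp only [Subgroup.coe_mul, Subgroup.coe_inv]
      have hi : ∀ {r : ↥(Subgroup.centralizer ({z} : Set G))}, r ∈ B → ∀ x ∈ Z, (r : G)⁻¹ * x * (r : G) = x := by
        intro r hr x hx
        rw [mul_assoc, ← hBW hr x hx, inv_mul_cancel_left]
      set u := (p : G) * j * (p : G)⁻¹ * j⁻¹ with hu
      set v := (q : G) * j * (q : G)⁻¹ * j⁻¹ with hv
      have hu' : u ∈ Z := hp.1 j hj
      have hv' : v ∈ Z := hq.1 j hj
      have e1 : (p : G)⁻¹ * j * p = u⁻¹ * j := by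
        calc (p : G)⁻¹ * j * p = (p : G)⁻¹ * (u⁻¹ * ((p : G) * j * (p : G)⁻¹)) * p := by rw [hu]; group
          _ = (p : G)⁻¹ * u⁻¹ * p * j := by group
          _ = _ := by rw [hi hp _ (inv_mem hu')]
      have e2 : (q : G)⁻¹ * j * q = v⁻¹ * j := by
        calc (q : G)⁻¹ * j * q = (q : G)⁻¹ * (v⁻¹ * ((q : G) * j * (q : G)⁻¹)) * q := by rw [hv]; group
          _ = (q : G)⁻¹ * v⁻¹ * q * j := by group
          _ = _ := by rw [hi hq _ (inv_mem hv')]
      have e3 : ∀ {r : ↥(Subgroup.centralizer ({z} : Set G))}, r ∈ B → ∀ x ∈ Z, (r : G) * x * (r : G)⁻¹ = x := by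
        intro r hr x hx
        rw [hBW hr x hx, mul_inv_cancel_right]
      calc (p : G) * q * (p : G)⁻¹ * (q : G)⁻¹ * j * ((p : G) * q * (p : G)⁻¹ * (q : G)⁻¹)⁻¹
          = (p : G) * ((q : G) * ((p : G)⁻¹ * ((q : G)⁻¹ * j * q) * p) * (q : G)⁻¹) * (p : G)⁻¹ := by group
        _ = (p : G) * ((q : G) * (v⁻¹ * u⁻¹ * j) * (q : G)⁻¹) * (p : G)⁻¹ := by
            rw [e2, show (p : G)⁻¹ * (v⁻¹ * j) * p = (p : G)⁻¹ * v⁻¹ * p * ((p : G)⁻¹ * j * p) by group,
              hi hp _ (inv_mem hv'), e1, ← mul_assoc v⁻¹]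
        _ = (p : G) * (v⁻¹ * u⁻¹ * (v * j)) * (p : G)⁻¹ := by
            rw [show (q : G) * (v⁻¹ * u⁻¹ * j) * (q : G)⁻¹ =
              (q : G) * (v⁻¹ * u⁻¹) * (q : G)⁻¹ * ((q : G) * j * (q : G)⁻¹) by group,
              e3 hq _ (mul_mem (inv_mem hv') (inv_mem hu')), hv]
            group
        _ = v⁻¹ * u⁻¹ * v * (u * j) := by
            rw [show (p : G) * (v⁻¹ * u⁻¹ * (v * j)) * (p : G)⁻¹ =
              (p : G) * (v⁻¹ * u⁻¹ * v) * (p : G)⁻¹ * ((p : G) * j * (p : G)⁻¹) by group,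
              e3 hp _ (mul_mem (mul_mem (inv_mem hv') (inv_mem hu')) hv'), hu]
            group
        _ = j := by
            rw [mul_assoc v⁻¹, ← (Subgroup.mem_centralizer_iff.1 (inv_mem hu').2 v hv'.1)]
            group
    have h1 := (h.ker (p * q * p⁻¹ * q⁻¹)).2 ⟨0, by simpa using hJ⟩
    rw [map_mul, map_mul, map_mul, map_inv, map_inv, mul_inv_eq_one, mul_inv_eq_iff_eq_mul] at h1
    exact h1
  haveI : (B.map φ).Normal := hBn.map _ h.surj
  have hB : ∀ p ∈ B, φ p = 1 := by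
    rcases normal_mulAut hcb (N := B.map φ) with e | e
    · exact fun p hp => by rw [← Subgroup.mem_bot, ← e]; exact Subgroup.mem_map_of_mem φ hp
    · refine absurd (fun a b => ?_) hnc
      obtain ⟨p, hp, ep⟩ := e a
      obtain ⟨q, hq, eq'⟩ := e b
      have h1 : MulAut.conj (a * b * (b * a)⁻¹) = 1 := by
        rw [map_mul, map_inv, map_mul, map_mul, mul_inv_eq_one, ← ep, ← eq', hBab hp hq]
      have h2 : a * b * (b * a)⁻¹ ∈ Subgroup.center (Cfsg.PSp 2 F) := Subgroup.mem_center_iff.2 fun x => by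
        have := DFunLike.congr_fun h1 x
        rw [MulAut.conj_apply, MulAut.one_apply, mul_inv_eq_iff_eq_mul] at this
        exact this.symm
      rwa [hcb, Subgroup.mem_bot, mul_inv_eq_one] at h2
  -- the sixth powers fix `W`
  have h6 : ∀ p : ↥(Subgroup.centralizer ({z} : Set G)), ∀ x ∈ W, ((p : G) ^ 6) * x = x * (p : G) ^ 6 := by
    intro p
    letI : MulAction (Subgroup.zpowers (p : G)) {x : G // x ∈ W ∧ x ≠ 1} :=
      { smul := fun q x => ⟨(q : G) * x.1 * (q : G)⁻¹, h.conj_W (Subgroup.mem_centralizer_singleton_iff.1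
          (Subgroup.zpowers_le.2 p.2 q.2)) x.2.1 x.2.2⟩
        one_smul := fun x => Subtype.ext (by show (1 : G) * x.1 * (1 : G)⁻¹ = x.1; group)
        mul_smul := fun q q' x => Subtype.ext (by
          show ((q : G) * q') * x.1 * ((q : G) * q')⁻¹ = (q : G) * ((q' : G) * x.1 * (q' : G)⁻¹) * (q : G)⁻¹
          group) }
    letI : Fintype {x : G // x ∈ W ∧ x ≠ 1} := Fintype.ofFinite _
    have h3 : Nat.card {x : G // x ∈ W ∧ x ≠ 1} = 3 := by
      letI : Fintype W := Fintype.ofFinite _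
      refine Eq.trans (Nat.card_congr ⟨fun x => (⟨⟨x.1, x.2.1⟩, fun e => x.2.2 (congrArg Subtype.val e)⟩ :
        {x : W // x ≠ 1}), fun x => ⟨x.1.1, x.1.2, fun e => x.2 (Subtype.ext e)⟩, fun x => rfl, fun x => rfl⟩) ?_
      rw [Nat.card_eq_fintype_card, Fintype.card_subtype_compl, Fintype.card_subtype_eq,
        ← Nat.card_eq_fintype_card, h.card_W]
    have h1 := pow_card_eq_one' (x := MulAction.toPermHom (Subgroup.zpowers (p : G)) {x : G // x ∈ W ∧ x ≠ 1}
      ⟨(p : G), Subgroup.mem_zpowers _⟩)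
    rw [Nat.card_perm, h3, show Nat.factorial 3 = 6 from rfl, ← map_pow] at h1
    intro x hx
    rcases eq_or_ne x 1 with rfl | hx1
    · rw [mul_one, one_mul]
    have h2 := congrArg Subtype.val (DFunLike.congr_fun h1 ⟨x, hx, hx1⟩)
    exact mul_inv_eq_iff_eq_mul.1 h2
  haveI : (A.map φ).Normal := hAn.map _ h.surj
  have hA : A.map φ = ⊥ := by
    refine (normal_mulAut hcb (N := A.map φ)).resolve_right fun e => ?_
    haveI : Fact (Nat.Prime 5) := ⟨by norm_num⟩
    obtain ⟨s, hs⟩ := exists_prime_orderOf_dvd_card' (G := Cfsg.PSp 2 F) 5 (by rw [hS]; norm_num)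
    obtain ⟨p, hp, ep⟩ := e s
    have h1 : φ (p ^ 6) = 1 := hB _ ⟨pow_mem hp 6, Subgroup.mem_subgroupOf.2
      (Subgroup.mem_centralizer_iff.2 fun x hx => by rw [SubgroupClass.coe_pow]; exact (h6 p x hx).symm)⟩
    rw [map_pow, ep, ← map_pow, show s ^ 6 = s by rw [pow_succ, ← hs, pow_orderOf_eq_one, one_mul]] at h1
    have h2 : s ∈ Subgroup.center (Cfsg.PSp 2 F) := Subgroup.mem_center_iff.2 fun x => by
      have := DFunLike.congr_fun h1 x
      rw [MulAut.conj_apply, MulAut.one_apply, mul_inv_eq_iff_eq_mul] at this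
      exact this.symm
    rw [hcb, Subgroup.mem_bot] at h2
    rw [h2, orderOf_one] at hs
    omega
  have hgA : (⟨g, Subgroup.mem_centralizer_singleton_iff.2 hgz⟩ : ↥(Subgroup.centralizer ({z} : Set G))) ∈ A :=
    hAmem.2 fun j hj => hZ.2 ⟨mul_mem (h.norm g hgz j hj) (inv_mem hj), hg j hj⟩
  have hgk : φ ⟨g, Subgroup.mem_centralizer_singleton_iff.2 hgz⟩ = 1 := by
    rw [← Subgroup.mem_bot, ← hA]; exact Subgroup.mem_map_of_mem φ hgA
  obtain ⟨i, hi⟩ := (h.ker _).1 hgk
  set cz : ↥(Subgroup.centralizer ({z} : Set G)) := ⟨c, Subgroup.mem_centralizer_singleton_iff.2 h.c_z⟩ with hcz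
  have hJA : ∀ j, j ∈ J → ∀ hm, (⟨j, hm⟩ : ↥(Subgroup.centralizer ({z} : Set G))) ∈ A := by
    intro j hj hm
    refine hAmem.2 fun k hk => ?_
    show j * k * j⁻¹ * k⁻¹ ∈ Z
    rcases h.comm j hj k hk with e | e
    · rw [e]; group; exact Z.one_mem
    · rw [e, show z * (k * j) * j⁻¹ * k⁻¹ = z by group]
      exact hZ.2 ⟨h.z_mem, Or.inr (by rw [h.zz]; exact one_mem W)⟩
  have hcA : cz ∉ A := by
    intro hcA
    have hf : ∀ j ∈ J, c * j * c⁻¹ * j⁻¹ ∈ Z := hAmem.1 hcA
    let f : ↥J →* ↥Z :=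
      { toFun := fun j => ⟨c * j * c⁻¹ * (j : G)⁻¹, hf j j.2⟩
        map_one' := Subtype.ext (by simp)
        map_mul' := fun j k => Subtype.ext (by
          show c * ((j : G) * k) * c⁻¹ * ((j : G) * k)⁻¹ = c * j * c⁻¹ * (j : G)⁻¹ * (c * k * c⁻¹ * (k : G)⁻¹)
          have e := Subgroup.mem_centralizer_iff.1 (hf k k.2).2 _ (inv_mem j.2)
          calc c * ((j : G) * k) * c⁻¹ * ((j : G) * k)⁻¹
              = c * (j : G) * c⁻¹ * (c * k * c⁻¹ * (k : G)⁻¹ * (j : G)⁻¹) := by group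
            _ = _ := by rw [← e]; group) }
    have hk : Nat.card f.ker ≤ 2 := by
      classical
      refine (Nat.card_le_card_of_injective (fun x : f.ker => decide (((x : ↥J) : G) = 1)) fun x y e => ?_).trans
        (by simp)
      simp only [decide_eq_decide] at e
      have hx := fun x : f.ker => h.c_fix _ (x : ↥J).2
        (mul_inv_eq_iff_eq_mul.1 (mul_inv_eq_one.1 (congrArg Subtype.val (MonoidHom.mem_ker.1 x.2))))
      refine Subtype.ext (Subtype.ext ?_)
      rcases hx x with e1 | e1 <;> rcases hx y with e2 | e2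
      · rw [e1, e2]
      · exact e1.trans (e.1 e1).symm
      · exact (e.2 e2).trans e2.symm
      · rw [e1, e2]
    have hZ8 : Nat.card Z ≤ 8 := by
      classical
      refine le_trans (Nat.card_le_card_of_injective (fun x : Z => if e : (x : G) ∈ W then
        ((⟨x, e⟩ : W), true) else (⟨z * x, (hZ.1 x.2).2.resolve_left e⟩, false)) fun x y e => ?_) ?_
      · dsimp only at e
        split_ifs at e with hx hy hy <;> simp only [Prod.mk.injEq, Subtype.mk.injEq, reduceCtorEq, and_false,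
          and_true] at e
        · exact Subtype.ext e
        · exact Subtype.ext (mul_left_cancel e)
      · rw [Nat.card_prod, h.card_W, Nat.card_eq_fintype_card, Fintype.card_bool]
    have h1 := f.ker.card_mul_index
    rw [Subgroup.index_ker, h.card_J] at h1
    have h2 : Nat.card f.range ≤ 8 := (Subgroup.card_le_card_group _).trans hZ8
    have := Nat.mul_le_mul hk h2
    omega
  have hci : cz ^ i ∈ A := by
    have h1 := mul_mem hgA (inv_mem (hJA _ hi (mul_mem (inv_mem (Subgroup.mem_centralizer_singleton_iff.2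
      (Commute.pow_left h.c_z i))) (Subgroup.mem_centralizer_singleton_iff.2 hgz))))
    convert h1 using 1
    refine Subtype.ext ?_
    simp [hcz, mul_assoc]
  have hc3 : cz ^ 3 = 1 := Subtype.ext h.c3
  obtain ⟨k, rfl | rfl | rfl⟩ : ∃ k, i = 3 * k ∨ i = 3 * k + 1 ∨ i = 3 * k + 2 := ⟨i / 3, by omega⟩
  · rw [pow_mul, h.c3, one_pow, inv_one, one_mul] at hi; exact hi
  · rw [pow_succ, pow_mul, hc3, one_pow, one_mul] at hci; exact absurd hci hcA
  · rw [pow_add, pow_mul, hc3, one_pow, one_mul] at hci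
    refine absurd ?_ hcA
    have h2 := mul_mem hci hci
    rwa [← pow_add, pow_succ, hc3, one_mul] at h2

theorem card_cent (hF : Fintype.card F = 3) :
    Nat.card ↥(Subgroup.centralizer ({z} : Set G)) ≤ 318504960 := by
  obtain ⟨-, hA⟩ := CfsgLib.Recognition.USixTwoOuter.card_aut_psp_three hF
  have h1 := φ.ker.card_mul_index
  rw [Subgroup.index_ker, MonoidHom.range_eq_top_of_surjective φ h.surj, Subgroup.card_top, hA] at h1
  have h2 : Nat.card φ.ker ≤ Nat.card (Fin 3 × ↥J) := by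
    refine Nat.card_le_card_of_surjective (fun p : Fin 3 × ↥J => (⟨⟨c ^ (p.1 : ℕ) * p.2,
      Subgroup.mem_centralizer_singleton_iff.2 (Commute.mul_left (Commute.pow_left h.c_z _) (h.J_z _ p.2.2)).eq⟩,
        MonoidHom.mem_ker.2 ((h.ker _).2 ⟨(p.1 : ℕ), by simp⟩)⟩ : φ.ker)) ?_
    rintro ⟨x, hx⟩
    obtain ⟨i, hi⟩ := (h.ker x).1 (MonoidHom.mem_ker.1 hx)
    refine ⟨(⟨i % 3, Nat.mod_lt _ (by norm_num)⟩, ⟨_, hi⟩), Subtype.ext (Subtype.ext ?_)⟩
    show c ^ (i % 3) * ((c ^ i)⁻¹ * (x : G)) = x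
    rw [← h.ord_c, pow_mod_orderOf, mul_inv_cancel_left]
  rw [Nat.card_prod, Nat.card_fin, h.card_J] at h2
  rw [← h1]
  exact Nat.mul_le_mul_right 51840 h2

/-- The data of the normal four-group argument, given the coordinates. -/
theorem coreData (hF : Fintype.card F = 3)
    (hq : ∀ w ∈ W, w ≠ 1 → ∀ a ∈ W, a ≠ 1 → a ≠ w → QuotAt z J w a) : CoreData z J W where
  ord_z := h.ord_z
  z_mem := h.z_mem
  W_le := h.W_le
  card_W := h.card_W
  sq_W := h.W_sq
  z_not := h.z_not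
  z_cent := h.J_z
  centre := fun _ hj => h.centre_iff hj
  two := h.J_two
  norm_J := h.norm
  norm_W := h.norm_W
  cyc := fun w hw hw1 w' hw' hw1' => by
    rcases h.transitive hw hw1 hw' hw1' with e | e | e
    · exact ⟨1, by rw [one_mul, mul_one], by rw [e]; group⟩
    · exact ⟨c, h.c_z, e.symm⟩
    · exact ⟨c * c, (Commute.mul_left h.c_z h.c_z).eq, by rw [e]; group⟩
  swap := fun w hw hw1 => by
    obtain ⟨s, hsz, hsw, hs⟩ := h.exists_swap hw hw1
    obtain ⟨x, hx, hx1, hxw⟩ : ∃ x ∈ W, x ≠ 1 ∧ x ≠ w := by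
      obtain ⟨e1, e2⟩ := h.conj_W h.c_z hw hw1
      exact ⟨_, e1, e2, h.moves hw hw1⟩
    refine ⟨s, hsz, hsw, x, hx, fun e => hw1 ?_⟩
    have := hs x hx hx1 hxw
    rw [e, mul_inv_cancel_right] at this
    exact mul_eq_right.1 this.symm
  ker_J := fun _ hc hj => h.ker_centre hF hc hj
  card_le := h.card_cent hF
  quot := hq

end Layer

end CfsgLib.Recognition.FiTwentyThree
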