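import Cfsg.Agent.Lib.Recognition.FiTwentyThree.TwinQuot
import Cfsg.Agent.Lib.Recognition.USixCentral.Modulo

/-!
# An involution whose two-core has centre of order eight: the frame

`J` has order `2¹¹` and centre `W × ⟨z⟩` with `W` a four-group whose involutions are permuted transitively by the
centraliser of `z`.  For each `w` in `W` the centraliser of `w` normalises `W` and, modulo `w`, has coordinates.
-/

set_option autoImplicit false
set_option linter.unusedSectionVars false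

universe u

namespace CfsgLib.Recognition.FiTwentyThree

open CfsgLib.Recognition.USixTwo CfsgLib.Recognition.USixCentral

variable {G : Type u} [Group G] [Finite G]

/-- Coordinates on the centraliser of `w` modulo `w`, the centre of the image of `J` being generated by `z` and
`a`. -/
def QuotAt (z : G) (J : Subgroup G) (w a : G) : Prop :=
  ∃ (Q : Type u) (_ : Group Q) (_ : Finite Q) (q : ↥(Subgroup.centralizer ({w} : Set G)) →* Q)
    (hz : z ∈ Subgroup.centralizer ({w} : Set G)) (ha : a ∈ Subgroup.centralizer ({w} : Set G)) (π : Q → V4)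
    (ψ : ↥(Subgroup.centralizer ({q ⟨z, hz⟩} : Set Q)) →* (V4 ≃ₗ[ZMod 2] V4)),
    Onto w q ∧ Setting (q ⟨z, hz⟩) (q ⟨a, ha⟩) ((J.subgroupOf (Subgroup.centralizer ({w} : Set G))).map q) π ψ

/-- The configuration, without the conditions on the centralisers of the elements of `W`. -/
structure Base (z : G) (J W : Subgroup G) : Prop where
  ord_z : orderOf z = 2
  z_mem : z ∈ J
  W_le : W ≤ J
  card_W : Nat.card W = 4
  sq_W : ∀ x ∈ W, x * x = 1
  z_not : z ∉ W
  z_cent : ∀ j ∈ J, j * z = z * j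
  centre : ∀ j ∈ J, (∀ k ∈ J, j * k = k * j) ↔ (j ∈ W ∨ z * j ∈ W)
  two : IsPGroup 2 J
  norm_J : ∀ c, c * z = z * c → ∀ j ∈ J, c * j * c⁻¹ ∈ J
  norm_W : ∀ c, c * z = z * c → ∀ x ∈ W, c * x * c⁻¹ ∈ W
  cyc : ∀ w ∈ W, w ≠ 1 → ∀ w' ∈ W, w' ≠ 1 → ∃ c, c * z = z * c ∧ c * w * c⁻¹ = w'
  z_conj : ∀ w ∈ W, w ≠ 1 → ∀ g, g * z * g⁻¹ ≠ w ∧ g * z * g⁻¹ ≠ z * w
  twist : ∀ w ∈ W, w ≠ 1 → ∀ g, g * (z * w) = z * w * g → Odd (orderOf (g * z * g⁻¹ * z))
  quot : ∀ w ∈ W, w ≠ 1 → ∀ a ∈ W, a ≠ 1 → a ≠ w → QuotAt z J w a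

/-- The configuration when the centralisers of the elements of `W` normalise `W`. -/
structure Frame (z : G) (J W : Subgroup G) : Prop extends Base z J W where
  local_le : ∀ w ∈ W, w ≠ 1 → ∀ g, g * w = w * g → ∀ x ∈ W, g * x * g⁻¹ ∈ W
  split : ∀ w ∈ W, w ≠ 1 → ∀ g, g * (z * w) = z * w * g → g * z = z * g

theorem card_cent_conj (g x : G) :
    Nat.card ↥(Subgroup.centralizer ({g * x * g⁻¹} : Set G)) = Nat.card ↥(Subgroup.centralizer ({x} : Set G)) := by
  refine Nat.card_congr ⟨fun c => ⟨g⁻¹ * c * g, ?_⟩, fun c => ⟨g * c * g⁻¹, ?_⟩,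
    fun c => Subtype.ext (by group), fun c => Subtype.ext (by group)⟩
  · have h1 := Subgroup.mem_centralizer_singleton_iff.1 c.2
    refine Subgroup.mem_centralizer_singleton_iff.2 ?_
    calc g⁻¹ * (c : G) * g * x = g⁻¹ * ((c : G) * (g * x * g⁻¹)) * g := by group
      _ = _ := by rw [h1]; group
  · have h1 := Subgroup.mem_centralizer_singleton_iff.1 c.2
    refine Subgroup.mem_centralizer_singleton_iff.2 ?_
    calc g * (c : G) * g⁻¹ * (g * x * g⁻¹) = g * ((c : G) * x) * g⁻¹ := by group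
      _ = _ := by rw [h1]; group

namespace Base

variable {z : G} {J W : Subgroup G} (h : Base z J W)
include h

theorem zz : z * z = 1 := mul_self_of_order_two h.ord_z

theorem z_ne_one : z ≠ 1 := ne_one_of_order_two h.ord_z

theorem W_inv {x : G} (hx : x ∈ W) : x⁻¹ = x := inv_eq_of_mul_eq_one_right (h.sq_W x hx)

theorem W_cent {x : G} (hx : x ∈ W) {j : G} (hj : j ∈ J) : x * j = j * x :=
  (h.centre x (h.W_le hx)).2 (Or.inl hx) j hj

theorem W_comm {x y : G} (hx : x ∈ W) (hy : y ∈ W) : x * y = y * x := h.W_cent hx (h.W_le hy)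

theorem W_z {x : G} (hx : x ∈ W) : x * z = z * x := h.W_cent hx h.z_mem

/-- The third involution. -/
theorem W_cases {w a x : G} (hw : w ∈ W) (hw1 : w ≠ 1) (ha : a ∈ W) (ha1 : a ≠ 1) (hne : a ≠ w) (hx : x ∈ W) :
    x = 1 ∨ x = w ∨ x = a ∨ x = w * a := by
  classical
  by_contra hc
  simp only [not_or] at hc
  obtain ⟨c1, c2, c3, c4⟩ := hc
  have n1 : w * a ≠ 1 := fun e => hne (by rw [← h.W_inv hw, inv_eq_of_mul_eq_one_right e])
  have n2 : w * a ≠ w := fun e => ha1 (mul_eq_left.1 e)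
  have n3 : w * a ≠ a := fun e => hw1 (mul_eq_right.1 e)
  have hs : ({1, w, a, w * a, x} : Finset G).card = 5 := by
    simp [hw1.symm, ha1.symm, n1.symm, Ne.symm c1, hne.symm, n2.symm, Ne.symm c2, n3.symm, Ne.symm c3, Ne.symm c4]
  have : ({1, w, a, w * a, x} : Finset G).card ≤ 4 := by
    letI : Fintype W := Fintype.ofFinite _
    rw [← h.card_W, Nat.card_eq_fintype_card, ← Finset.card_univ, ← Finset.card_map ⟨(Subtype.val : W → G), Subtype.val_injective⟩]
    refine Finset.card_le_card fun y hy => ?_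
    simp only [Finset.mem_insert, Finset.mem_singleton] at hy
    refine Finset.mem_map.2 ⟨⟨y, ?_⟩, Finset.mem_univ _, rfl⟩
    rcases hy with rfl | rfl | rfl | rfl | rfl
    exacts [one_mem _, hw, ha, mul_mem hw ha, hx]
  omega

theorem exists_other (w : G) : ∃ a ∈ W, a ≠ 1 ∧ a ≠ w := by
  classical
  by_contra hc
  push Not at hc
  have : Nat.card W ≤ 2 := by
    refine (Nat.card_le_card_of_injective (fun x : W => decide ((x : G) = 1)) fun x y e => ?_).trans (by simp)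
    simp only [decide_eq_decide] at e
    by_cases hx : (x : G) = 1
    · exact Subtype.ext (hx.trans (e.1 hx).symm)
    · exact Subtype.ext ((hc x x.2 hx).trans (hc y y.2 fun hy => hx (e.2 hy)).symm)
  rw [h.card_W] at this
  omega

theorem zx_ne_one {x : G} (hx : x ∈ W) : z * x ≠ 1 := fun e =>
  h.z_not (by rw [eq_inv_of_mul_eq_one_left e]; exact inv_mem hx)

theorem z_not_conj {w : G} (hw : w ∈ W) (hw1 : w ≠ 1) (g : G) : g * z * g⁻¹ ≠ w := (h.z_conj w hw hw1 g).1

theorem z_not_conj_zw {w : G} (hw : w ∈ W) (hw1 : w ≠ 1) (g : G) : g * z * g⁻¹ ≠ z * w :=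
  (h.z_conj w hw hw1 g).2

/-- A conjugate of `z` in the centre of `J` is `z`. -/
theorem z_of_centre {g : G} (hc : g * z * g⁻¹ ∈ W ∨ z * (g * z * g⁻¹) ∈ W) : g * z * g⁻¹ = z := by
  rcases hc with e | e
  · refine absurd rfl (h.z_not_conj e (fun e1 => h.z_ne_one (conj_eq_one_iff.1 e1)) g)
  · by_contra hne
    have hne' : z * (g * z * g⁻¹) ≠ 1 := fun e1 => hne (by
      rw [← inv_eq_of_mul_eq_one_right e1, inv_eq_of_mul_eq_one_right h.zz])
    exact h.z_not_conj_zw e hne' g (by rw [← mul_assoc z z, h.zz, one_mul])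

/-- A 2-group normalising a conjugate of `W` fixes one of its involutions. -/
theorem exists_fixed {P : Subgroup G} (hP : IsPGroup 2 P) (hn : ∀ p ∈ P, ∀ x ∈ W, p * x * p⁻¹ ∈ W) :
    ∃ w ∈ W, w ≠ 1 ∧ ∀ p ∈ P, p * w = w * p := by
  classical
  haveI : Fact (Nat.Prime 2) := ⟨Nat.prime_two⟩
  letI : MulAction P {x : G // x ∈ W ∧ x ≠ 1} :=
    { smul := fun p x => ⟨(p : G) * x.1 * (p : G)⁻¹, hn p p.2 x.1 x.2.1, fun e => x.2.2 (conj_eq_one_iff.1 e)⟩
      one_smul := fun x => Subtype.ext (by show (1 : G) * x.1 * (1 : G)⁻¹ = x.1; group)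
      mul_smul := fun p p' x => Subtype.ext (by
        show ((p : G) * p') * x.1 * ((p : G) * p')⁻¹ = (p : G) * ((p' : G) * x.1 * (p' : G)⁻¹) * (p : G)⁻¹
        group) }
  have hcard : Nat.card {x : G // x ∈ W ∧ x ≠ 1} = 3 := by
    have e : Nat.card {x : W // x ≠ 1} = 3 := by
      letI : Fintype W := Fintype.ofFinite _
      rw [Nat.card_eq_fintype_card, Fintype.card_subtype_compl, Fintype.card_subtype_eq,
        ← Nat.card_eq_fintype_card, h.card_W]
    refine Eq.trans (Nat.card_congr ⟨fun x => ⟨⟨x.1, x.2.1⟩, fun e => x.2.2 (congrArg Subtype.val e)⟩,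
      fun x => ⟨x.1.1, x.1.2, fun e => x.2 (Subtype.ext e)⟩, fun x => rfl, fun x => rfl⟩) e
  obtain ⟨x, hx⟩ := hP.nonempty_fixed_point_of_prime_not_dvd_card {x : G // x ∈ W ∧ x ≠ 1} (by
    rw [hcard]; norm_num)
  exact ⟨x.1, x.2.1, x.2.2, fun p hp => mul_inv_eq_iff_eq_mul.1 (congrArg Subtype.val (hx ⟨p, hp⟩))⟩

/-- A 2-group centralising `w` moves into the centraliser of `z`. -/
theorem into {w : G} (hw : w ∈ W) (hw1 : w ≠ 1) {R : Subgroup G} (hR : ∀ r ∈ R, r * w = w * r)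
    (h2 : IsPGroup 2 R) : ∃ c, c * w = w * c ∧ ∀ r ∈ R, c * r * c⁻¹ * z = z * (c * r * c⁻¹) := by
  obtain ⟨a, ha, ha1, hne⟩ := h.exists_other w
  obtain ⟨Q, _, _, q, hzc, hac, π, ψ, hq, hS⟩ := h.quot w hw hw1 a ha ha1 hne
  set R' := (R.subgroupOf (Subgroup.centralizer ({w} : Set G))).map q with hR'
  obtain ⟨x, -, hx⟩ := hS.conj_into (X := ⊤) le_top (R := R') le_top
    ((h2.comap_of_injective _ Subtype.val_injective).map _)
  obtain ⟨c, rfl⟩ := hq.surj x
  refine ⟨c, Subgroup.mem_centralizer_singleton_iff.1 c.2, fun r hr => ?_⟩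
  have h1 := hx (q ⟨r, mem_cent_of (hR r hr)⟩) ⟨_, hr, rfl⟩
  rw [← map_inv, ← map_mul, ← map_mul, ← map_mul, ← map_mul, hq.eq_iff] at h1
  simp only [Subgroup.coe_mul, Subgroup.coe_inv] at h1
  rcases h1 with e | e
  · exact e.symm
  · exfalso
    refine h.z_not_conj_zw hw hw1 ((c : G) * r * (c : G)⁻¹)⁻¹ ?_
    rw [inv_inv, mul_assoc _ z, e]
    group

/-- An element of odd order in `J` is trivial. -/
theorem eq_one_odd {x : G} (hx : x ∈ J) (ho : Odd (orderOf x)) : x = 1 := by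
  obtain ⟨k, hk⟩ := h.two ⟨x, hx⟩
  exact eq_one_of_two_odd ⟨k, congrArg Subtype.val hk⟩ ho

/-- `twist` at a conjugate of `z * w`. -/
theorem twist_conj {w : G} (hw : w ∈ W) (hw1 : w ≠ 1) {g c : G}
    (hc : c * (g * (z * w) * g⁻¹) = g * (z * w) * g⁻¹ * c) :
    Odd (orderOf (c * (g * z * g⁻¹) * c⁻¹ * (g * z * g⁻¹))) := by
  have h1 : g⁻¹ * c * g * (z * w) = z * w * (g⁻¹ * c * g) := by
    calc g⁻¹ * c * g * (z * w) = g⁻¹ * (c * (g * (z * w) * g⁻¹)) * g := by group
      _ = _ := by rw [hc]; group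
  have h2 := h.twist w hw hw1 _ h1
  rw [← orderOf_injective (MulAut.conj g).toMonoidHom (MulAut.conj g).injective] at h2
  convert h2 using 2
  show _ = g * _ * g⁻¹
  group

end Base

namespace Frame

variable {z : G} {J W : Subgroup G} (h : Frame z J W)
include h

theorem split' {w : G} (hw : w ∈ W) (hw1 : w ≠ 1) {g : G} (hg : g * (z * w) = z * w * g) :
    g * z = z * g ∧ g * w = w * g := by
  have h1 := h.split w hw hw1 g hg
  refine ⟨h1, ?_⟩
  calc g * w = z * z * (g * w) := by rw [h.zz, one_mul]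
    _ = z * ((z * g) * w) := by group
    _ = z * (g * (z * w)) := by rw [← h1]; group
    _ = z * z * (w * g) := by rw [hg]; group
    _ = w * g := by rw [h.zz, one_mul]

/-- The three groups are normalised: a group moving one of them to another. -/
theorem normal_of_conj {g w w' : G} (hw : w ∈ W) (hw1 : w ≠ 1) (hw' : w' ∈ W) (e : g * w * g⁻¹ = w') :
    ∀ x ∈ W, g * x * g⁻¹ ∈ W := by
  have hw1' : w' ≠ 1 := fun e1 => hw1 (conj_eq_one_iff.1 (e.trans e1))
  obtain ⟨c, hc, ec⟩ := h.cyc w' hw' hw1' w hw hw1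
  have hcg : c * g * w = w * (c * g) := by
    refine mul_inv_eq_iff_eq_mul.1 ?_
    rw [show c * g * w * (c * g)⁻¹ = c * (g * w * g⁻¹) * c⁻¹ by group, e, ec]
  intro x hx
  have h1 := h.local_le w hw hw1 _ hcg x hx
  have h2 := h.norm_W c⁻¹ (by rw [inv_mul_eq_iff_eq_mul, ← mul_assoc, hc, mul_inv_cancel_right]) _ h1
  convert h2 using 1
  group

end Frame

end CfsgLib.Recognition.FiTwentyThree
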