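import Cfsg.Agent.Lib.Recognition.FiTwentyThree.TwinFrame

/-!
# Conjugates of `z` commuting with it normalise `W`
-/

set_option autoImplicit false
set_option linter.unusedSectionVars false

universe u

namespace CfsgLib.Recognition.FiTwentyThree

open CfsgLib.Recognition.USixTwo CfsgLib.Recognition.USixCentral

variable {G : Type u} [Group G] [Finite G]

/-- One set of coordinates, with the conditions on `w` and `a`. -/
structure At (z : G) (J W : Subgroup G) (w a : G) {Q : Type u} [Group Q] [Finite Q]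
    (q : ↥(Subgroup.centralizer ({w} : Set G)) →* Q) (zb ab : Q) (π : Q → V4)
    (ψ : ↥(Subgroup.centralizer ({zb} : Set Q)) →* (V4 ≃ₗ[ZMod 2] V4)) : Prop where
  frame : Base z J W
  hw : w ∈ W
  hw1 : w ≠ 1
  ha : a ∈ W
  ha1 : a ≠ 1
  hne : a ≠ w
  hz : ∀ hm, q ⟨z, hm⟩ = zb
  hab : ∀ hm, q ⟨a, hm⟩ = ab
  onto : Onto w q
  setting : Setting zb ab ((J.subgroupOf (Subgroup.centralizer ({w} : Set G))).map q) π ψ

theorem Base.exists_at {z : G} {J W : Subgroup G} (h : Base z J W) {w a : G} (hw : w ∈ W) (hw1 : w ≠ 1)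
    (ha : a ∈ W) (ha1 : a ≠ 1) (hne : a ≠ w) :
    ∃ (Q : Type u) (_ : Group Q) (_ : Finite Q) (q : ↥(Subgroup.centralizer ({w} : Set G)) →* Q) (zb ab : Q)
      (π : Q → V4) (ψ : ↥(Subgroup.centralizer ({zb} : Set Q)) →* (V4 ≃ₗ[ZMod 2] V4)),
      At z J W w a q zb ab π ψ := by
  obtain ⟨Q, i1, i2, q, hz, ha', π, ψ, hq, hS⟩ := h.quot w hw hw1 a ha ha1 hne
  exact ⟨Q, i1, i2, q, _, _, π, ψ, h, hw, hw1, ha, ha1, hne, fun _ => rfl, fun _ => rfl, hq, hS⟩

namespace At

variable {z : G} {J W : Subgroup G} {w a : G} {Q : Type u} [Group Q] [Finite Q]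
  {q : ↥(Subgroup.centralizer ({w} : Set G)) →* Q} {zb ab : Q} {π : Q → V4}
  {ψ : ↥(Subgroup.centralizer ({zb} : Set Q)) →* (V4 ≃ₗ[ZMod 2] V4)}
  (t : At z J W w a q zb ab π ψ)
include t

theorem J_cent {j : G} (hj : j ∈ J) : j ∈ Subgroup.centralizer ({w} : Set G) :=
  mem_cent_of (t.frame.W_cent t.hw hj).symm

theorem W_cent' {x : G} (hx : x ∈ W) : x ∈ Subgroup.centralizer ({w} : Set G) := t.J_cent (t.frame.W_le hx)

theorem mem_Jb {x : ↥(Subgroup.centralizer ({w} : Set G))} :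
    q x ∈ (J.subgroupOf (Subgroup.centralizer ({w} : Set G))).map q ↔ (x : G) ∈ J := by
  constructor
  · rintro ⟨y, hy, e⟩
    rcases t.onto.eq_iff.1 e with e' | e'
    · rw [e']; exact hy
    · rw [e']; exact mul_mem hy (t.frame.W_le t.hw)
  · exact fun hx => ⟨x, hx, rfl⟩

/-- Commuting with the image of `z`. -/
theorem comm_z {x : ↥(Subgroup.centralizer ({w} : Set G))} (hx : q x * zb = zb * q x) : (x : G) * z = z * x := by
  rw [← t.hz (mem_cent_of (t.frame.W_z t.hw).symm), ← map_mul, ← map_mul, t.onto.eq_iff] at hx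
  simp only [Subgroup.coe_mul] at hx
  rcases hx with e | e
  · exact e.symm
  · exfalso
    refine t.frame.z_not_conj_zw t.hw t.hw1 (x : G)⁻¹ ?_
    rw [inv_inv, mul_assoc, e, mul_assoc (x : G) z w, inv_mul_cancel_left]

/-- An element centralising `z` and `w` gives one of the centraliser of the image. -/
theorem mem_z {x : G} (hxw : x * w = w * x) (hxz : x * z = z * x) :
    q ⟨x, mem_cent_of hxw⟩ ∈ Subgroup.centralizer ({zb} : Set Q) := by
  rw [← t.hz (mem_cent_of (t.frame.W_z t.hw).symm)]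
  refine mem_cent_of ?_
  rw [← map_mul, ← map_mul]
  exact congrArg q (Subtype.ext hxz)

/-- The centraliser of the image of `z` fixes the image of `a`. -/
theorem fix {c : Q} (hc : c * zb = zb * c) : c * ab = ab * c := by
  obtain ⟨x, rfl⟩ := t.onto.surj c
  have hxz := t.comm_z hc
  rw [← t.hab (t.W_cent' t.ha), ← map_mul, ← map_mul, t.onto.eq_iff]
  simp only [Subgroup.coe_mul]
  have hm := t.frame.norm_W x hxz a t.ha
  rcases t.frame.W_cases t.hw t.hw1 t.ha t.ha1 t.hne hm with e | e | e | e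
  · exact absurd (conj_eq_one_iff.1 e) t.ha1
  · refine absurd ?_ t.hne
    calc a = (x : G)⁻¹ * ((x : G) * a * (x : G)⁻¹) * x := by group
      _ = (x : G)⁻¹ * ((x : G) * w) := by rw [e, Subgroup.mem_centralizer_singleton_iff.1 x.2, mul_assoc]
      _ = w := by rw [inv_mul_cancel_left]
  · exact Or.inl (mul_inv_eq_iff_eq_mul.1 e).symm
  · refine Or.inr ?_
    have e1 : (x : G) * a = w * a * x := mul_inv_eq_iff_eq_mul.1 e
    rw [e1, mul_assoc w, mul_assoc w, mul_assoc a, Subgroup.mem_centralizer_singleton_iff.1 x.2, ← mul_assoc a w,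
      ← t.frame.W_comm t.hw t.ha, mul_assoc w a, ← mul_assoc, t.frame.sq_W w t.hw, one_mul]

/-- The kernel of the coordinates is the centre. -/
theorem centre_of {j : G} (hj : j ∈ J) (h0 : π (q ⟨j, t.J_cent hj⟩) = 0) : j ∈ W ∨ z * j ∈ W := by
  have hz := mem_cent_of (t.frame.W_z t.hw).symm
  have ha := t.W_cent' t.ha
  rcases (t.setting.π_ker _ (t.mem_Jb.2 hj)).1 h0 with e | e | e | e
  · rcases (t.onto.ker _).1 e with e | e <;> change j = _ at e <;> rw [e]
    · exact Or.inl (one_mem W)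
    · exact Or.inl t.hw
  · rcases t.onto.eq_iff.1 (e.trans (t.hz hz).symm) with e | e
    · change z = j at e
      exact Or.inr (by rw [← e, t.frame.zz]; exact one_mem _)
    · change z = j * w at e
      refine Or.inr ?_
      rw [show j = z * w by rw [e, mul_assoc, t.frame.sq_W w t.hw, mul_one], ← mul_assoc, t.frame.zz, one_mul]
      exact t.hw
  · rcases t.onto.eq_iff.1 (e.trans (t.hab ha).symm) with e | e
    · change a = j at e
      rw [← e]; exact Or.inl t.ha
    · change a = j * w at e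
      refine Or.inl ?_
      rw [show j = a * w by rw [e, mul_assoc, t.frame.sq_W w t.hw, mul_one]]
      exact mul_mem t.ha t.hw
  · have e' : q ⟨j, t.J_cent hj⟩ = q (⟨z, hz⟩ * ⟨a, ha⟩) := by rw [map_mul, t.hz, t.hab]; exact e
    rcases t.onto.eq_iff.1 e' with e | e
    · change z * a = j at e
      exact Or.inr (by rw [← e, ← mul_assoc, t.frame.zz, one_mul]; exact t.ha)
    · change z * a = j * w at e
      refine Or.inr ?_
      rw [show j = z * a * w by rw [e, mul_assoc, t.frame.sq_W w t.hw, mul_one], ← mul_assoc, ← mul_assoc,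
        t.frame.zz, one_mul]
      exact mul_mem t.ha t.hw

end At

namespace Base

variable {z : G} {J W : Subgroup G} (h : Base z J W)
include h

/-- The commutators of `J` lie in the group of `z`. -/
theorem comm_J {j k : G} (hj : j ∈ J) (hk : k ∈ J) : j * k = k * j ∨ j * k = z * (k * j) := by
  obtain ⟨w, hw, hw1, -⟩ := h.exists_other (1 : G)
  obtain ⟨a, ha, ha1, hne⟩ := h.exists_other w
  have key : ∀ w a : G, w ∈ W → w ≠ 1 → a ∈ W → a ≠ 1 → a ≠ w →
      ∃ e ∈ W, (e = 1 ∨ e = w) ∧ (j * k = e * (k * j) ∨ j * k = z * e * (k * j)) := by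
    intro w a hw hw1 ha ha1 hne
    obtain ⟨Q, _, _, q, zb, ab, π, ψ, t⟩ := h.exists_at hw hw1 ha ha1 hne
    have hjk := t.setting.comm_cases ((t.mem_Jb (x := ⟨j, t.J_cent hj⟩)).2 hj)
      ((t.mem_Jb (x := ⟨k, t.J_cent hk⟩)).2 hk)
    have hwk : k * j * w = w * (k * j) := (h.W_cent hw (mul_mem hk hj)).symm
    rcases hjk with e | e
    · rw [← map_mul, ← map_mul, t.onto.eq_iff] at e
      simp only [Subgroup.coe_mul] at e
      rcases e with e | e
      · exact ⟨1, one_mem _, Or.inl rfl, Or.inl (by rw [one_mul, e])⟩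
      · refine ⟨w, hw, Or.inr rfl, Or.inl ?_⟩
        rw [← hwk, e, mul_assoc (j * k) w w, h.sq_W w hw, mul_one]
    · have e' : q (⟨j, t.J_cent hj⟩ * ⟨k, t.J_cent hk⟩) =
          q (⟨z, mem_cent_of (h.W_z hw).symm⟩ * (⟨k, t.J_cent hk⟩ * ⟨j, t.J_cent hj⟩)) := by
        rw [map_mul, map_mul, map_mul, t.hz]; exact e
      rw [t.onto.eq_iff] at e'
      simp only [Subgroup.coe_mul] at e'
      rcases e' with e' | e'
      · exact ⟨1, one_mem _, Or.inl rfl, Or.inr (by rw [mul_one, e'])⟩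
      · refine ⟨w, hw, Or.inr rfl, Or.inr ?_⟩
        rw [mul_assoc z w, ← hwk, ← mul_assoc z, e', mul_assoc (j * k) w w, h.sq_W w hw, mul_one]
  obtain ⟨e, he, he', c⟩ := key w a hw hw1 ha ha1 hne
  obtain ⟨f, hf, hf', d⟩ := key a w ha ha1 hw hw1 hne.symm
  have hef : e = 1 ∨ f = 1 ∨ e ≠ f := by
    rcases he' with rfl | rfl
    · exact Or.inl rfl
    rcases hf' with rfl | rfl
    · exact Or.inr (Or.inl rfl)
    · exact Or.inr (Or.inr hne.symm)
  have hzf : ∀ x ∈ W, ∀ y ∈ W, x ≠ z * y := fun x hx y hy e' => h.z_not (by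
    rw [show z = x * y⁻¹ by rw [e', mul_inv_cancel_right]]; exact mul_mem hx (inv_mem hy))
  rcases c with c | c <;> rcases d with d | d
  · have := mul_right_cancel (c.symm.trans d)
    rcases hef with rfl | rfl | hn
    · exact Or.inl (by rw [c, one_mul])
    · exact Or.inl (by rw [d, one_mul])
    · exact absurd this hn
  · exact absurd (mul_right_cancel (c.symm.trans d)) (hzf e he f hf)
  · exact absurd (mul_right_cancel (d.symm.trans c)) (hzf f hf e he)
  · have := mul_left_cancel (mul_right_cancel (c.symm.trans d))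
    rcases hef with rfl | rfl | hn
    · exact Or.inr (by rw [c, mul_one])
    · exact Or.inr (by rw [d, mul_one])
    · exact absurd this hn

/-- An outside involution centralising the centraliser in `J` of an element of `J`. -/
theorem hyper {x b : G} (hxz : x * z = z * x) (hx2 : x * x = 1) (hxJ : x ∉ J) (hb : b ∈ J)
    (hc : ∀ j ∈ J, j * b = b * j → j * x = x * j) : False := by
  obtain ⟨w, hw, hw1, -⟩ := h.exists_other (1 : G)
  obtain ⟨a, ha, ha1, hne⟩ := h.exists_other w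
  obtain ⟨Q, _, _, q, zb, ab, π, ψ, t⟩ := h.exists_at hw hw1 ha ha1 hne
  have hxw : x * w = w * x := (hc w (h.W_le hw) (h.W_cent hw hb)).symm
  let xc : ↥(Subgroup.centralizer ({zb} : Set Q)) := ⟨q ⟨x, mem_cent_of hxw⟩, t.mem_z hxw hxz⟩
  have hout : Out zb ab ((J.subgroupOf (Subgroup.centralizer ({w} : Set G))).map q) xc :=
    ⟨t.fix (Subgroup.mem_centralizer_singleton_iff.1 xc.2), by
      show q _ * q _ = 1
      rw [← map_mul, show (⟨x, mem_cent_of hxw⟩ : ↥(Subgroup.centralizer ({w} : Set G))) * ⟨x, mem_cent_of hxw⟩ = 1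
        from Subtype.ext hx2, map_one], fun m => hxJ (t.mem_Jb.1 m)⟩
  refine t.setting.not_hyper hout (π (q ⟨b, t.J_cent hb⟩)) fun v hv hbs => ?_
  obtain ⟨⟨j, hjm⟩, hj, rfl⟩ := hv
  change j ∈ J at hj
  have hcomm := (t.setting.comm_iff (t.mem_Jb.2 hb) (t.mem_Jb.2 hj)).2 hbs
  rw [← map_mul, ← map_mul, t.onto.eq_iff] at hcomm
  simp only [Subgroup.coe_mul] at hcomm
  have hjb : j * b = b * j := by
    rcases hcomm with e | e
    · exact e
    rcases h.comm_J hj hb with e' | e'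
    · exact e'
    · exfalso
      rw [e, ← h.W_cent hw (mul_mem hb hj)] at e'
      exact h.z_not ((mul_right_cancel e' : w = z) ▸ hw)
  show q _ * q _ = q _ * q _
  rw [← map_mul, ← map_mul]
  exact congrArg q (Subtype.ext (hc j hj hjb))

/-- Commuting modulo `w` is commuting after changing by an element of `W`. -/
theorem exact_comm {w a : G} {Q : Type u} [Group Q] [Finite Q] {q : ↥(Subgroup.centralizer ({w} : Set G)) →* Q}
    {zb ab : Q} {π : Q → V4} {ψ : ↥(Subgroup.centralizer ({zb} : Set Q)) →* (V4 ≃ₗ[ZMod 2] V4)}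
    (t : At z J W w a q zb ab π ψ) {x j : G} (hxw : x * w = w * x) (hxz : x * z = z * x) (hx2 : x * x = 1)
    (hxJ : x ∉ J) (hj : j ∈ J)
    (hq : q ⟨x, mem_cent_of hxw⟩ * q ⟨j, t.J_cent hj⟩ = q ⟨j, t.J_cent hj⟩ * q ⟨x, mem_cent_of hxw⟩) :
    ∃ c, (c = 1 ∨ c = a) ∧ j * c * x = x * (j * c) := by
  rw [← map_mul, ← map_mul, t.onto.eq_iff] at hq
  simp only [Subgroup.coe_mul] at hq
  rcases hq with e | e
  · exact ⟨1, Or.inl rfl, by rw [mul_one, e]⟩
  by_cases hxa : x * a = a * x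
  · exfalso
    obtain ⟨Q', _, _, q', zb', ab', π', ψ', t'⟩ := h.exists_at t.ha t.ha1 t.hw t.hw1 t.hne.symm
    let xc : ↥(Subgroup.centralizer ({zb'} : Set Q')) := ⟨q' ⟨x, mem_cent_of hxa⟩, t'.mem_z hxa hxz⟩
    have hout : Out zb' ab' ((J.subgroupOf (Subgroup.centralizer ({a} : Set G))).map q') xc :=
      ⟨t'.fix (Subgroup.mem_centralizer_singleton_iff.1 xc.2), by
        show q' _ * q' _ = 1
        rw [← map_mul, show (⟨x, mem_cent_of hxa⟩ : ↥(Subgroup.centralizer ({a} : Set G))) * ⟨x, mem_cent_of hxa⟩ = 1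
          from Subtype.ext hx2, map_one], fun m => hxJ (t'.mem_Jb.1 m)⟩
    have hjm := (t'.mem_Jb (x := ⟨j, t'.J_cent hj⟩)).2 hj
    have hconj : (xc : Q') * q' ⟨j, t'.J_cent hj⟩ * (xc : Q')⁻¹ = q' ⟨j, t'.J_cent hj⟩ * ab' := by
      refine Eq.trans ?_ (congrArg (q' ⟨j, t'.J_cent hj⟩ * ·) (t'.hab (t'.W_cent' t.hw)))
      show q' _ * q' _ * (q' _)⁻¹ = q' _ * q' _
      rw [← map_mul, ← map_inv, ← map_mul, ← map_mul]
      refine congrArg q' (Subtype.ext ?_)
      show x * j * x⁻¹ = j * w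
      calc x * j * x⁻¹ = x * j * w * (w * x⁻¹) := by
            rw [mul_assoc (x * j) w, ← mul_assoc w w, h.sq_W w t.hw, one_mul]
        _ = j * (x * w) * x⁻¹ := by rw [← e]; group
        _ = _ := by rw [hxw]; group
    have hfix : ψ' xc (π' (q' ⟨j, t'.J_cent hj⟩)) = π' (q' ⟨j, t'.J_cent hj⟩) := by
      rw [← t'.setting.act xc _ hjm, hconj, t'.setting.π_mul _ hjm _ t'.setting.a_mem, t'.setting.π_a, add_zero]
    rcases comm_fixed t'.setting hout hjm hfix with c | c <;> rw [hconj] at c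
    · exact ne_one_of_order_two t'.setting.ord_a (mul_eq_left.1 c)
    · exact t'.setting.ne (mul_left_cancel c)
  · refine ⟨a, Or.inr rfl, ?_⟩
    have hxa' : x * a = w * a * x := by
      rcases h.W_cases t.hw t.hw1 t.ha t.ha1 t.hne (h.norm_W x hxz a t.ha) with e' | e' | e' | e'
      · exact absurd (conj_eq_one_iff.1 e') t.ha1
      · exact absurd (mul_left_cancel ((mul_inv_eq_iff_eq_mul.1 e').trans hxw.symm)) t.hne
      · exact absurd (mul_inv_eq_iff_eq_mul.1 e') hxa
      · exact mul_inv_eq_iff_eq_mul.1 e'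
    symm
    calc x * (j * a) = x * j * w * (w * a) := by
          rw [mul_assoc (x * j) w, ← mul_assoc w w, h.sq_W w t.hw, one_mul, ← mul_assoc]
      _ = j * x * (w * a) := by rw [e]
      _ = j * (x * w * a) := by group
      _ = j * (w * (x * a)) := by rw [hxw]; group
      _ = j * (w * w * a * x) := by rw [hxa']; group
      _ = _ := by rw [h.sq_W w t.hw, one_mul, mul_assoc]

/-- Two outside involutions with equal centralisers in `J`. -/
theorem pair {x y : G} (hxz : x * z = z * x) (hyz : y * z = z * y) (hx2 : x * x = 1) (hy2 : y * y = 1)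
    (hxJ : x ∉ J) (hyJ : y ∉ J) (hxy : x * y = y * x) (heq : ∀ j ∈ J, j * x = x * j ↔ j * y = y * j)
    (hle : ∀ c, c * x = x * c → Odd (orderOf (c * y * c⁻¹ * y))) : x * y ∈ J := by
  have hX : IsPGroup 2 (Subgroup.zpowers x) := by
    refine IsPGroup.of_card (n := 1) ?_
    rw [Nat.card_zpowers, orderOf_eq_prime (p := 2) (by rw [pow_two, hx2]) fun e => hxJ (by rw [e]; exact one_mem J)]
    rfl
  obtain ⟨w, hw, hw1, hxw'⟩ := h.exists_fixed hX (by
    rintro p hp v hv
    exact h.norm_W p (Subgroup.mem_centralizer_singleton_iff.1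
      (Subgroup.zpowers_le.2 (Subgroup.mem_centralizer_singleton_iff.2 hxz) hp)) v hv)
  have hxw := hxw' x (Subgroup.mem_zpowers x)
  have hyw : y * w = w * y := ((heq w (h.W_le hw)).1 hxw.symm).symm
  obtain ⟨a, ha, ha1, hne⟩ := h.exists_other w
  obtain ⟨Q, _, _, q, zb, ab, π, ψ, t⟩ := h.exists_at hw hw1 ha ha1 hne
  let xc : ↥(Subgroup.centralizer ({zb} : Set Q)) := ⟨q ⟨x, mem_cent_of hxw⟩, t.mem_z hxw hxz⟩
  let yc : ↥(Subgroup.centralizer ({zb} : Set Q)) := ⟨q ⟨y, mem_cent_of hyw⟩, t.mem_z hyw hyz⟩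
  have hox : Out zb ab ((J.subgroupOf (Subgroup.centralizer ({w} : Set G))).map q) xc :=
    ⟨t.fix (Subgroup.mem_centralizer_singleton_iff.1 xc.2), by
      show q _ * q _ = 1
      rw [← map_mul, show (⟨x, mem_cent_of hxw⟩ : ↥(Subgroup.centralizer ({w} : Set G))) * ⟨x, mem_cent_of hxw⟩ = 1
        from Subtype.ext hx2, map_one], fun m => hxJ (t.mem_Jb.1 m)⟩
  have hoy : Out zb ab ((J.subgroupOf (Subgroup.centralizer ({w} : Set G))).map q) yc :=
    ⟨t.fix (Subgroup.mem_centralizer_singleton_iff.1 yc.2), by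
      show q _ * q _ = 1
      rw [← map_mul, show (⟨y, mem_cent_of hyw⟩ : ↥(Subgroup.centralizer ({w} : Set G))) * ⟨y, mem_cent_of hyw⟩ = 1
        from Subtype.ext hy2, map_one], fun m => hyJ (t.mem_Jb.1 m)⟩
  have key : ∀ x' y' : G, ∀ (hw' : x' * w = w * x') (hw'' : y' * w = w * y'), x' * z = z * x' → y' * z = z * y' →
      x' * x' = 1 → x' ∉ J → (∀ j ∈ J, j * x' = x' * j → j * y' = y' * j) → ∀ j, ∀ hj : j ∈ J,
      q ⟨j, t.J_cent hj⟩ * q ⟨x', mem_cent_of hw'⟩ = q ⟨x', mem_cent_of hw'⟩ * q ⟨j, t.J_cent hj⟩ →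
      q ⟨j, t.J_cent hj⟩ * q ⟨y', mem_cent_of hw''⟩ = q ⟨y', mem_cent_of hw''⟩ * q ⟨j, t.J_cent hj⟩ := by
    intro x' y' hw' hw'' hz' hz'' h2 hJ' himp j hj hq
    obtain ⟨c, hc, e⟩ := h.exact_comm t hw' hz' h2 hJ' hj hq.symm
    have hcW : c ∈ W := by
      rcases hc with rfl | rfl
      · exact one_mem W
      · exact ha
    have hjc := mul_mem hj (h.W_le hcW)
    have e2 := himp _ hjc e
    have hyc : y' * z = z * y' := hz''
    have hcy : q ⟨c, t.W_cent' hcW⟩ * q ⟨y', mem_cent_of hw''⟩ = q ⟨y', mem_cent_of hw''⟩ * q ⟨c, t.W_cent' hcW⟩ := by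
      rcases hc with rfl | rfl
      · rw [show (⟨(1 : G), t.W_cent' hcW⟩ : ↥(Subgroup.centralizer ({w} : Set G))) = 1 from rfl, map_one, one_mul,
          mul_one]
      · rw [t.hab]
        exact (t.fix (Subgroup.mem_centralizer_singleton_iff.1 (t.mem_z hw'' hyc))).symm
    have e3 : q ⟨j, t.J_cent hj⟩ * q ⟨c, t.W_cent' hcW⟩ * q ⟨y', mem_cent_of hw''⟩ =
        q ⟨y', mem_cent_of hw''⟩ * (q ⟨j, t.J_cent hj⟩ * q ⟨c, t.W_cent' hcW⟩) := by
      rw [← map_mul, ← map_mul, ← map_mul]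
      exact congrArg q (Subtype.ext e2)
    rw [mul_assoc, hcy, ← mul_assoc, ← mul_assoc] at e3
    exact mul_right_cancel e3
  have heq' : ∀ v ∈ (J.subgroupOf (Subgroup.centralizer ({w} : Set G))).map q,
      v * (xc : Q) = xc * v ↔ v * (yc : Q) = yc * v := by
    rintro _ ⟨⟨j, hjm⟩, hj, rfl⟩
    exact ⟨key x y hxw hyw hxz hyz hx2 hxJ (fun j hj => (heq j hj).1) j hj,
      key y x hyw hxw hyz hxz hy2 hyJ (fun j hj => (heq j hj).2) j hj⟩
  have hψ : ψ xc = ψ yc := by
    refine pair_eq_three t.setting hox hoy ?_ heq' ?_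
    · show q _ * q _ = q _ * q _
      rw [← map_mul, ← map_mul]
      exact congrArg q (Subtype.ext hxy)
    rintro ⟨c, hc⟩ h3 hcx
    obtain ⟨g, rfl⟩ := t.onto.surj c
    change q g * q _ = q _ * q g at hcx
    rw [← map_mul, ← map_mul, t.onto.eq_iff] at hcx
    simp only [Subgroup.coe_mul] at hcx
    have hgw := Subgroup.mem_centralizer_singleton_iff.1 g.2
    have h4 : (g : G) * g * ((g : G) * g) * x = x * ((g : G) * g * ((g : G) * g)) := by
      rcases hcx with e | e
      · have e0 : Commute (g : G) x := e.symm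
        exact ((e0.mul_left e0).mul_left (e0.mul_left e0)).eq
      · have e0 : Commute ((g : G) * g) x := by
          show (g : G) * g * x = x * ((g : G) * g)
          have e1 : (g : G) * x = x * g * w := by rw [e, mul_assoc _ w w, h.sq_W w hw, mul_one]
          calc (g : G) * g * x = (g : G) * (x * g * w) := by rw [← e1, mul_assoc]
            _ = (g : G) * x * (g * w) := by group
            _ = x * g * (w * g) * w := by rw [e1]; group
            _ = x * g * g * (w * w) := by rw [← hgw]; group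
            _ = _ := by rw [h.sq_W w hw, mul_one, mul_assoc]
        exact (e0.mul_left e0).eq
    set gc : ↥(Subgroup.centralizer ({zb} : Set Q)) := ⟨q g, hc⟩ with hgc
    set g4 : ↥(Subgroup.centralizer ({w} : Set G)) := g * g * (g * g) with hg4
    refine ⟨_, hle _ h4, ?_⟩
    have h6 : ψ (gc * gc * (gc * gc)) = ψ gc := by
      rw [map_mul, map_mul]
      calc ψ gc * ψ gc * (ψ gc * ψ gc) = ψ gc ^ 3 * ψ gc := by rw [pow_succ, pow_succ, pow_one]; group
        _ = ψ gc := by rw [h3, one_mul]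
    rw [show ψ (gc * yc * gc⁻¹ * yc) = ψ (gc * gc * (gc * gc) * yc * (gc * gc * (gc * gc))⁻¹ * yc) by
      simp only [map_mul, map_inv] at h6 ⊢; rw [h6], ← map_pow]
    convert map_one ψ
    refine Subtype.ext ?_
    show (q g * q g * (q g * q g) * q _ * (q g * q g * (q g * q g))⁻¹ * q _) ^ _ = 1
    rw [← map_mul, ← map_mul, ← map_inv, ← map_mul, ← map_mul, ← map_mul, ← map_pow, ← map_one q]
    exact congrArg q (Subtype.ext (pow_orderOf_eq_one _))
  have := (t.setting.ker (xc * yc)).1 (by rw [map_mul, hψ, ← map_mul, show yc * yc = 1 from Subtype.ext hoy.sq, map_one])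
  change q _ * q _ ∈ _ at this
  rw [← map_mul] at this
  exact t.mem_Jb.1 this

end Base

end CfsgLib.Recognition.FiTwentyThree
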