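import Cfsg.Agent.Lib.Recognition.USixCentral.Fixed

/-!
# Two further facts about outside involutions of the configuration with centre of `J` a four-group
-/

set_option autoImplicit false
set_option maxRecDepth 100000
set_option linter.unusedSectionVars false

namespace CfsgLib.Recognition.FiTwentyThree

open CfsgLib.Recognition.USixTwo CfsgLib.Recognition.USixCentral

variable {G : Type*} [Group G] [Finite G]
variable {z a : G} {J : Subgroup G} {π : G → V4} {ψ : ↥(Subgroup.centralizer ({z} : Set G)) →* (V4 ≃ₗ[ZMod 2] V4)}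
  (h : Setting z a J π ψ)
include h

/-- Commutators of an outside involution with fixed vectors lie in the group of `z`. -/
theorem comm_fixed {y : ↥(Subgroup.centralizer ({z} : Set G))} (hy : Out z a J y) {j : G} (hj : j ∈ J)
    (hfix : ψ y (π j) = π j) : (y : G) * j * (y : G)⁻¹ = j ∨ (y : G) * j * (y : G)⁻¹ = j * z := by
  rcases h.out_cases hy with ⟨p, hq, hp, ht, -⟩ | ⟨hS, -⟩
  · exact h.tv_commutator hy hq hp ht hj (by rw [← ht]; exact hfix)
  obtain ⟨v, hv⟩ := hS.2 _ hfix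
  obtain ⟨k, hk, rfl⟩ := h.π_surj v
  obtain ⟨d, hd, hπ, -, hinv⟩ := h.image_lift hy hk
  have hζ := h.π_eq hd hj (hπ.trans hv.symm)
  have hcy : (y : G) * (d⁻¹ * j) * (y : G)⁻¹ = d⁻¹ * j := by rw [h.comm_centre hy hζ, mul_inv_cancel_right]
  have hd' : (y : G) * d * (y : G)⁻¹ = d⁻¹ := by rw [h.y_inv hy]; exact hinv
  have e : (y : G) * j * (y : G)⁻¹ = d⁻¹ * (d⁻¹ * j) := by
    calc (y : G) * j * (y : G)⁻¹ = (y : G) * d * (y : G)⁻¹ * ((y : G) * (d⁻¹ * j) * (y : G)⁻¹) := by group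
      _ = _ := by rw [hd', hcy]
  have hsq := h.sq d hd
  split at hsq
  · rw [inv_eq_of_mul_eq_one_right hsq, ← mul_assoc, hsq, one_mul] at e
    exact Or.inl e
  · refine Or.inr ?_
    rw [e, ← mul_assoc, ← mul_inv_rev, hsq, inv_eq_of_mul_eq_one_right h.zz, h.z_cent j hj]

/-- As `pair_eq`, asking only for the elements over those of order three. -/
theorem pair_eq_three {x y : ↥(Subgroup.centralizer ({z} : Set G))} (hx : Out z a J x) (hy : Out z a J y)
    (hcomm : (x : G) * y = y * x) (heq : ∀ j ∈ J, j * (x : G) = x * j ↔ j * (y : G) = y * j)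
    (hn : ∀ c : ↥(Subgroup.centralizer ({z} : Set G)), ψ c ^ 3 = 1 → (c : G) * x = x * c →
      ∃ m : ℕ, Odd m ∧ ψ (c * y * c⁻¹ * y) ^ m = 1) : ψ x = ψ y := by
  by_contra hne
  have hc' : ψ x * ψ y = ψ y * ψ x := by rw [← map_mul, ← map_mul]; exact congrArg ψ (Subtype.ext hcomm)
  have hL : ∀ v, Lifted J π (x : G) v ↔ Lifted J π (y : G) v := fun v =>
    ⟨fun ⟨j, hj, e, hc⟩ => ⟨j, hj, e, (heq j hj).1 hc⟩, fun ⟨j, hj, e, hc⟩ => ⟨j, hj, e, (heq j hj).2 hc⟩⟩
  have hset : {v | Lifted J π (x : G) v} = {v | Lifted J π (y : G) v} := Set.ext hL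
  rcases h.out_cases hx with ⟨p, hq, hp, ht, hxc⟩ | ⟨hxS, hxc⟩ <;>
    rcases h.out_cases hy with ⟨q, hq', hq0, ht', hyc⟩ | ⟨hyS, hyc⟩
  · have hsub : {v | Lifted J π (x : G) v} ⊆ {v | tv p v = v ∧ tv q v = v} := fun v hv =>
      ⟨ht ▸ h.lifted_fixed hx hv, ht' ▸ h.lifted_fixed hy ((hL v).1 hv)⟩
    rw [ht, ht'] at hc' hne
    have := (Set.ncard_le_ncard hsub (Set.toFinite _)).trans (h.outer.tv_tv hq hq' hp hq0 hc' hne)
    omega
  · rw [hset] at hxc; omega
  · rw [hset] at hxc; omega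
  · obtain ⟨g, hg, h3, hgc, hodd⟩ := h.outer.pair ⟨x, rfl⟩ ⟨y, rfl⟩ (h.psi_sq hx) (h.psi_sq hy) (h.psi_ne hx)
      (h.psi_ne hy) hc' hne hxS hyS fun v hv => ⟨fun e => h.lifted_fixed hy ((hL v).1
        ((h.small_lifted hx hxS v).2 ⟨e, hv⟩)), fun e => h.lifted_fixed hx ((hL v).2
        ((h.small_lifted hy hyS v).2 ⟨e, hv⟩))⟩
    obtain ⟨c, rfl, hcx⟩ := h.lift_commute hx hg h3 hgc (Or.inl hxS)
    obtain ⟨m, hm, e⟩ := hn c h3 hcx
    refine hodd m hm ?_
    rw [← e, map_mul, map_mul, map_mul, map_inv]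

end CfsgLib.Recognition.FiTwentyThree
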